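import Cfsg.Agent.H33.OrthDeg7

/-! Minimal degrees of orthogonal groups: the families. -/

set_option autoImplicit false
set_option linter.unusedSectionVars false

namespace Cfsg.Agent.H33.OD

open Cfsg.Agent.H30 QuadraticMap Module Finset

theorem le_of_mul {r N X Y : ℤ} (hr : 0 < r) (h : r * N = X) (h' : X ≤ r * Y) : N ≤ Y :=
  le_of_mul_le_mul_left (h ▸ h') hr

theorem param (p b k : ℕ) (hp : b ≤ p) (hb : 1 ≤ b) (hk : 2 ≤ k) :
    ∃ r s : ℤ, 0 ≤ r ∧ 0 ≤ s ∧ (p : ℤ) = r + b ∧ (p : ℤ) ^ k = (r + b) ^ 2 + s := by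
  have h : p ^ 2 ≤ p ^ k := Nat.pow_le_pow_right (by omega) hk
  refine ⟨p - b, p ^ k - p ^ 2, by omega, ?_, by ring, by ring⟩
  rw [sub_nonneg]
  exact_mod_cast h

variable {F V : Type*} [Field F] [Fintype F] [AddCommGroup V] [Module F V] [FiniteDimensional F V]
  [Fintype V] {Q : QuadraticForm F V}

local notation "q" => Fintype.card F

variable {N0 : ℕ}

theorem data_odd (nd : (polarBilin Q).Nondegenerate) {k : ℕ} (hk : 2 ≤ k)
    (hV : finrank F V = 2 * k + 3)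
    (hN : 4 ≤ q ∧ ((q : ℤ) - 1) * N0 = (q : ℤ) ^ (2 * k + 2) - 1 ∨
      q = 3 ∧ 2 * (N0 : ℤ) = 3 ^ (k + 1) * (3 ^ (k + 1) - 1)) : Data Q N0 (k + 1) := by
  have hd : ∀ x x', IsHyp Q x x' → finrank F (hperp Q x x') = 2 * k + 1 := fun x x' h => by
    have := h.finrank_hperp
    omega
  have key := data_of (N0 := N0) (ν := k + 1) nd (by omega)
    (fun M hM => by have := two_mul_finrank_le nd M hM; omega) (by omega) (by omega)
    ((q : ℤ) ^ k * q ^ k - 1) ((q : ℤ) ^ k * q ^ k - q ^ k) (q * (q : ℤ) ^ k * q ^ k)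
    (by rw [hV, show 2 * k + 3 - 2 = 2 * k + 1 by omega]; ring)
    (fun x x' h => by
      rw [nc_odd (h.nondegOn_hperp nd).restrict (hd x x' h), Nat.card_eq_fintype_card]
      push_cast
      ring)
    (fun x x' h c _ => by
      classical
      have := nc_odd_ge (h.nondegOn_hperp nd).restrict (hd x x' h) c
      rwa [two_mul, pow_add] at this)
  have h6 : finrank F V = k + 1 + 4 → ∃ NT t : ℕ,
      ((q : ℤ) ^ (k + 1 - 1) - 1) * NT = (q + 1) * ((q : ℤ) ^ k * q ^ k - 1) * q ^ (k + 1 - 1) ∧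
      ((q : ℤ) - 1) * (NT + t) = (q - 1) * (1 + q * (q : ℤ) ^ k * q ^ k) +
        q * ((q : ℤ) ^ k * q ^ k - 1) ∧
      (t : ℤ) * t < 4 * NT ∧ t ≤ (q : ℤ) ^ k * q ^ k - q ^ k ∧ t ≤ (q : ℤ) ^ k * q ^ k - 1 ∧
      ((N0 : ℤ) ≤ NT ∨ k + 1 = 3 ∨ (4 : ℤ) ≤ q) := fun h => by
    obtain rfl : k = 2 := by omega
    refine ⟨q ^ 2 * (q + 1) * (q ^ 2 + 1), q + 1, ?_⟩
    push_cast
    obtain ⟨r, hr, hq⟩ : ∃ r : ℤ, 0 ≤ r ∧ (q : ℤ) = r + 2 :=
      ⟨q - 2, by have : 1 < q := Fintype.one_lt_card; omega, by ring⟩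
    rw [hq]
    refine ⟨by ring, by ring, by rw [← sub_pos]; ring_nf; positivity, ?_, ?_, by simp⟩ <;>
      rw [← sub_nonneg] <;> ring_nf <;> positivity
  rcases hN with ⟨hq, hN⟩ | ⟨hq, hN⟩
  · obtain ⟨r, s, hr, hs, e1, e2⟩ := param q 4 k hq (by omega) hk
    rw [show (q : ℤ) ^ (2 * k + 2) = q ^ 2 * q ^ k * q ^ k by ring] at hN
    refine key ?_ (by omega) (fun _ => ?_) ?_ (fun _ => ?_) (by omega) (by omega) ?_ h6 <;>
      [rw [hN];
        refine le_of_mul (r := (q : ℤ) - 1) (by omega) (by rw [mul_left_comm, hN]) ?_;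
        refine le_of_mul (r := (q : ℤ) - 1) (by omega) (by rw [mul_add, hN]) ?_;
        rw [hN]; refine le_of_mul (by omega) hN ?_] <;>
      rw [e2, e1, ← sub_nonneg] <;> push_cast <;> ring_nf <;> positivity
  · obtain ⟨r, s, hr, hs, e1, e2⟩ := param 3 3 k le_rfl (by omega) hk
    obtain rfl : r = 0 := by omega
    push_cast at e2
    rw [pow_succ, e2] at hN
    refine key ?_ (by omega) (fun _ => ?_) ?_ (by omega) (fun _ => ⟨?_, ?_⟩) (by omega) ?_ h6 <;>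
      rw [hq] <;> push_cast <;> rw [e2] <;> nlinarith

theorem h6_plus {k : ℕ} (hV : finrank F V = 2 * k + 4)
    (hN : 4 ≤ q ∨ q = 2 ∧ (N0 : ℤ) = 2 ^ (k + 1) * (2 ^ (k + 2) - 1)) :
    finrank F V = k + 2 + 4 → ∃ NT t : ℕ,
      ((q : ℤ) ^ (k + 2 - 1) - 1) * NT =
        (q + 1) * (q * (q : ℤ) ^ k * q ^ k + q * q ^ k - q ^ k - 1) * q ^ (k + 2 - 1) ∧
      ((q : ℤ) - 1) * (NT + t) = (q - 1) * (1 + q ^ 2 * (q : ℤ) ^ k * q ^ k) +
        q * (q * (q : ℤ) ^ k * q ^ k + q * q ^ k - q ^ k - 1) ∧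
      (t : ℤ) * t < 4 * NT ∧ t ≤ q * (q : ℤ) ^ k * q ^ k - q ^ k ∧
      t ≤ q * (q : ℤ) ^ k * q ^ k + q * q ^ k - q ^ k - 1 ∧
      ((N0 : ℤ) ≤ NT ∨ k + 2 = 3 ∨ (4 : ℤ) ≤ q) := fun h => by
  obtain rfl : k = 2 := by omega
  refine ⟨q ^ 3 * (q + 1) * (q ^ 2 + 1), (q + 1) * (q ^ 2 + 1), ?_⟩
  push_cast
  obtain ⟨r, hr, hq⟩ : ∃ r : ℤ, 0 ≤ r ∧ (q : ℤ) = r + 2 :=
    ⟨q - 2, by have : 1 < q := Fintype.one_lt_card; omega, by ring⟩
  refine ⟨by ring, by ring, by rw [hq, ← sub_pos]; ring_nf; positivity,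
    by rw [hq, ← sub_nonneg]; ring_nf; positivity, by rw [hq, ← sub_nonneg]; ring_nf; positivity,
    ?_⟩
  rcases hN with hN | ⟨h2, hN⟩
  · exact Or.inr (Or.inr (by exact_mod_cast hN))
  · left
    rw [hN, h2]
    norm_num

theorem data_plus (nd : (polarBilin Q).Nondegenerate) {k : ℕ} (hk : 2 ≤ k)
    (hV : finrank F V = 2 * k + 4) (hp : H79.IsPlus (F := F) Q)
    (hN : 4 ≤ q ∧ ((q : ℤ) - 1) * N0 = ((q : ℤ) ^ (k + 2) - 1) * (q ^ (k + 1) + 1) ∨
      q = 2 ∧ (N0 : ℤ) = 2 ^ (k + 1) * (2 ^ (k + 2) - 1)) : Data Q N0 (k + 2) := by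
  have hd : ∀ x x', IsHyp Q x x' → finrank F (hperp Q x x') = 2 * k + 2 := fun x x' h => by
    have := h.finrank_hperp
    omega
  have key := data_of (N0 := N0) (ν := k + 2) nd (by omega)
    (fun M hM => by have := two_mul_finrank_le nd M hM; omega) (by omega) (by omega)
    (q * (q : ℤ) ^ k * q ^ k + q * q ^ k - q ^ k - 1) (q * (q : ℤ) ^ k * q ^ k - q ^ k)
    (q ^ 2 * (q : ℤ) ^ k * q ^ k)
    (by rw [hV, show 2 * k + 4 - 2 = 2 * k + 2 by omega]; ring)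
    (fun x x' h => by
      rw [nc_plus_zero_int (h.nondegOn_hperp nd).restrict (hd x x' h) ((h.isPlus_iff nd).1 hp),
        Nat.card_eq_fintype_card]
      ring)
    (fun x x' h c hc => by
      rw [nc_plus_ne_zero_int (h.nondegOn_hperp nd).restrict (hd x x' h) ((h.isPlus_iff nd).1 hp)
        hc, Nat.card_eq_fintype_card]
      exact le_of_eq (by ring))
  have h6 := h6_plus (N0 := N0) hV (hN.imp (fun h => h.1) id)
  rcases hN with ⟨hq, hN⟩ | ⟨hq, hN⟩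
  · obtain ⟨r, s, hr, hs, e1, e2⟩ := param q 4 k hq (by omega) hk
    rw [pow_add, pow_succ _ k] at hN
    refine key ?_ (by omega) (fun _ => ?_) ?_ (fun _ => ?_) (by omega) (by omega) ?_ h6 <;>
      [rw [hN];
        refine le_of_mul (r := (q : ℤ) - 1) (by omega) (by rw [mul_left_comm, hN]) ?_;
        refine le_of_mul (r := (q : ℤ) - 1) (by omega) (by rw [mul_add, hN]) ?_;
        rw [hN]; refine le_of_mul (by omega) hN ?_] <;>
      rw [e2, e1, ← sub_nonneg] <;> push_cast <;> ring_nf <;> positivity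
  · obtain ⟨r, s, hr, hs, e1, e2⟩ := param 2 2 k le_rfl (by omega) hk
    obtain rfl : r = 0 := by omega
    push_cast at e2
    rw [pow_add _ k 2, pow_succ _ k, e2] at hN
    refine key ?_ (fun _ => ?_) (by omega) ?_ (by omega) (by omega) (fun _ => ?_) ?_ h6 <;>
      rw [hq] <;> push_cast <;> rw [e2] <;> nlinarith

theorem data_minus (nd : (polarBilin Q).Nondegenerate) {k : ℕ} (hk : 2 ≤ k)
    (hV : finrank F V = 2 * k + 4) (hp : ¬ H79.IsPlus (F := F) Q)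
    (hN : ((q : ℤ) - 1) * N0 = ((q : ℤ) ^ (k + 2) + 1) * (q ^ (k + 1) - 1)) :
    Data Q N0 (k + 1) := by
  classical
  have hd : ∀ x x', IsHyp Q x x' → finrank F (hperp Q x x') = 2 * k + 2 := fun x x' h => by
    have := h.finrank_hperp
    omega
  have key := data_of (N0 := N0) (ν := k + 1) nd (by omega)
    (fun M hM => by
      have := two_mul_finrank_le nd M hM
      by_contra h
      exact hp ⟨M, by omega, hM⟩) (by omega) (by omega)
    (q * (q : ℤ) ^ k * q ^ k - q * q ^ k + q ^ k - 1) (q * (q : ℤ) ^ k * q ^ k + q ^ k)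
    (q ^ 2 * (q : ℤ) ^ k * q ^ k)
    (by rw [hV, show 2 * k + 4 - 2 = 2 * k + 2 by omega]; ring)
    (fun x x' h => by
      rw [nc_minus_int (h.nondegOn_hperp nd).restrict (hd x x' h)
        (fun h' => hp ((h.isPlus_iff nd).2 h')), Nat.card_eq_fintype_card, if_pos rfl]
      ring)
    (fun x x' h c hc => by
      rw [nc_minus_int (h.nondegOn_hperp nd).restrict (hd x x' h)
        (fun h' => hp ((h.isPlus_iff nd).2 h')), Nat.card_eq_fintype_card, if_neg hc]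
      exact le_of_eq (by ring))
  have hq : 1 < q := Fintype.one_lt_card
  rw [pow_add, pow_succ _ k] at hN
  by_cases hq2 : q = 2
  · obtain ⟨r, s, hr, hs, e1, e2⟩ := param 2 2 k le_rfl (by omega) hk
    obtain rfl : r = 0 := by omega
    rw [hq2] at hN
    push_cast at e2 hN
    rw [e2] at hN
    refine key ?_ (fun _ => ?_) (by omega) ?_ (by omega) (by omega) (fun _ => ?_) ?_ (by omega) <;>
      rw [hq2] <;> push_cast <;> rw [e2] <;> nlinarith
  by_cases hq3 : q = 3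
  · obtain ⟨r, s, hr, hs, e1, e2⟩ := param 3 3 k le_rfl (by omega) hk
    obtain rfl : r = 0 := by omega
    rw [hq3] at hN
    push_cast at e2 hN
    rw [e2] at hN
    refine key ?_ (by omega) (fun _ => ?_) ?_ (by omega) (fun _ => ⟨?_, ?_⟩) (by omega) ?_
      (by omega) <;> rw [hq3] <;> push_cast <;> rw [e2] <;> nlinarith
  · obtain ⟨r, s, hr, hs, e1, e2⟩ := param q 4 k (by omega) (by omega) hk
    refine key ?_ (by omega) (fun _ => ?_) ?_ (fun _ => ?_) (by omega) (by omega) ?_ (by omega) <;>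
      [rw [hN];
        refine le_of_mul (r := (q : ℤ) - 1) (by omega) (by rw [mul_left_comm, hN]) ?_;
        refine le_of_mul (r := (q : ℤ) - 1) (by omega) (by rw [mul_add, hN]) ?_;
        rw [hN]; refine le_of_mul (by omega) hN ?_] <;>
      rw [e2, e1, ← sub_nonneg] <;> push_cast <;> ring_nf <;> positivity

theorem min_index_POmega {ι : Type} [Fintype ι] [DecidableEq ι] {Q : QuadraticForm F (ι → F)}
    {ν : ℕ} (D : Data Q N0 ν) {c : F} (hc : c = 0 ∨ q ≤ 3)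
    (hn : (Nat.card {v : ι → F // v ≠ 0 ∧ Q v = c} : ℤ) = (q - 1) * N0) :
    (∀ H : Subgroup (POmega F ⇑Q), H ≠ ⊤ → N0 ≤ H.index) ∧
      ∃ H : Subgroup (POmega F ⇑Q), H.index = N0 := by
  have h7 := D.h7
  have hq : 1 < q := Fintype.one_lt_card
  have hn' : Nat.card {v : ι → F // v ≠ 0 ∧ Q v = c} = (q - 1) * N0 := by
    zify [hq.le]
    exact hn
  refine min_index_quotient _
    (pomegaEquivEich D.nd (not_isExc_of_finrank (by omega)) (by rw [finrank_pi'] at h7; omega))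
    (le_index D) (exists_index D.nd (by omega) hc hn' ?_)
  by_contra h0
  obtain ⟨v, hv0, hv⟩ : ∃ v, v ≠ 0 ∧ Q v = c := by
    by_cases hc0 : c = 0
    · rw [hc0]
      exact exists_singular Q (by omega)
    · obtain ⟨v, hv⟩ := exists_Q_eq D.nd (by omega) c
      exact ⟨v, ne_zero_of_Q_ne_zero (hv ▸ hc0), hv⟩
  have : Nonempty {v : ι → F // v ≠ 0 ∧ Q v = c} := ⟨⟨v, hv0, hv⟩⟩
  have h1 := Nat.card_pos (α := {v : ι → F // v ≠ 0 ∧ Q v = c})
  rw [hn', Nat.eq_zero_of_not_pos h0] at h1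
  simp at h1

theorem card_singular_int (Q : QuadraticForm F V) :
    (Nat.card {v : V // v ≠ 0 ∧ Q v = 0} : ℤ) = nc Q 0 - 1 := by
  rw [card_singular, Nat.cast_sub nc_zero_pos, Nat.cast_one]

theorem mul_div_int {a b : ℕ} {X Y : ℤ} (hb : (b : ℤ) = Y) (ha : (a : ℤ) = X) (h : Y ∣ X) :
    Y * (a / b : ℕ) = X := by
  rw [← hb, ← ha] at h ⊢
  exact_mod_cast Nat.mul_div_cancel' (Int.natCast_dvd_natCast.1 h)

end Cfsg.Agent.H33.OD
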