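import Cfsg.Agent.Lead.T3Defs

/-!
# The window of four root groups in a residue of type `C₃`
-/

set_option autoImplicit false

namespace Cfsg.Agent.H33.T3Win

open Cfsg.Agent.H35 Cfsg.Agent.Lead.T3 Equiv

universe u

section cox

variable {I W : Type} [Group W] (X : Cox I W)

theorem m_symm (i j : I) : X.m i j = X.m j i := by
  unfold Cox.m
  rw [← orderOf_inv]
  simp

theorem ne_of_m {i j : I} (h : 2 ≤ X.m i j) : i ≠ j := by
  rintro rfl
  simp [Cox.m, X.s_mul_s] at h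

theorem braid (i j : I) :
    X.wp (InvGen.altw i j (X.m i j)) = X.wp (InvGen.altw j i (X.m i j)) :=
  (InvGen.prod_altw_eq_iff X.s i j (X.s_mul_s i) (X.s_mul_s j) _).2 (pow_orderOf_eq_one _)

theorem br2 {i j : I} (h : X.m i j = 2) : X.s i * X.s j = X.s j * X.s i := by
  have := braid X i j
  rw [h] at this
  simpa [InvGen.altw] using this

theorem br3 {i j : I} (h : X.m i j = 3) :
    X.s i * (X.s j * X.s i) = X.s j * (X.s i * X.s j) := by
  have := braid X i j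
  rw [h] at this
  simpa [InvGen.altw] using this

theorem br4 {i j : I} (h : X.m i j = 4) :
    X.s i * (X.s j * (X.s i * X.s j)) = X.s j * (X.s i * (X.s j * X.s i)) := by
  have := braid X i j
  rw [h] at this
  simpa [InvGen.altw] using this

theorem rf_sq (v : W) (t : I) : X.rf v t * X.rf v t = 1 := by
  unfold Cox.rf
  have : v * X.s t * v⁻¹ * (v * X.s t * v⁻¹) = v * (X.s t * X.s t) * v⁻¹ := by group
  rw [this, X.s_mul_s]
  simp

theorem s_mem {K : Set I} {t : I} (ht : t ∈ K) : X.s t ∈ X.WJ K :=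
  Subgroup.subset_closure ⟨t, ht, rfl⟩

theorem rf_mem {K : Set I} {v : W} {t : I} (hv : v ∈ X.WJ K) (ht : t ∈ K) : X.rf v t ∈ X.WJ K :=
  mul_mem (mul_mem hv (s_mem X ht)) (inv_mem hv)

theorem rf_mul (v : W) (t : I) : X.rf v t * v = v * X.s t := by
  simp [Cox.rf]

variable [Finite W]

theorem len2 (hC : CxStmt) {i j : I} (h : 2 ≤ X.m i j) : X.len (X.s i * X.s j) = 2 := by
  have := ((hC X).2.2.2.2.2.2.2 i j (ne_of_m X h)).1 2 h
  simpa [InvGen.altw] using this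

theorem len3 (hC : CxStmt) {i j : I} (h : 3 ≤ X.m i j) :
    X.len (X.s i * (X.s j * X.s i)) = 3 := by
  have := ((hC X).2.2.2.2.2.2.2 i j (ne_of_m X (by omega))).1 3 h
  simpa [InvGen.altw] using this

theorem len4 (hC : CxStmt) {i j : I} (h : 4 ≤ X.m i j) :
    X.len (X.s i * (X.s j * (X.s i * X.s j))) = 4 := by
  have := ((hC X).2.2.2.2.2.2.2 i j (ne_of_m X (by omega))).1 4 h
  simpa [InvGen.altw] using this

theorem rt_move (hR : RtStmt) (v u : W) (t t' : I) (h : u * X.s t' = X.s t * u)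
    (hl : X.len u < X.len (X.s t * u)) : X.rt (v * u) t' = X.rt v t := by
  refine (hR X).2.2.2.1 v t (v * u) t' ?_ ?_
  · unfold Cox.rf
    rw [mul_assoc v u, h]
    group
  · show X.len (v⁻¹ * (v * u)) < X.len (X.s t * (v⁻¹ * (v * u)))
    simpa using hl

theorem mv2 (hC : CxStmt) (hR : RtStmt) {i k : I} (h : X.m i k = 2) (v : W) :
    X.rt (v * X.s i) k = X.rt v k := by
  refine rt_move X hR v _ k k (br2 X h) ?_
  rw [X.exch.len_s, len2 X hC (by rw [m_symm, h])]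
  omega

theorem mv3 (hC : CxStmt) (hR : RtStmt) {i j : I} (h : X.m i j = 3) (v : W) :
    X.rt (v * (X.s i * X.s j)) i = X.rt v j := by
  refine rt_move X hR v _ j i (by rw [mul_assoc, br3 X h]) ?_
  rw [len2 X hC (by omega), len3 X hC (by rw [m_symm, h])]
  omega

theorem mv4 (hC : CxStmt) (hR : RtStmt) {j k : I} (h : X.m j k = 4) (v : W) :
    X.rt (v * (X.s j * (X.s k * X.s j))) k = X.rt v k := by
  refine rt_move X hR v _ k k (by rw [mul_assoc, mul_assoc, br4 X h]) ?_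
  rw [len3 X hC (by omega), len4 X hC (by rw [m_symm, h])]
  omega

end cox

section bld

variable {I W : Type} [Group W] {X : Cox I W} {C : Type u} {B : Bld X C} {σ : W → C} {K : Set I}

theorem apt_pan (hσ : B.Apt σ) (v : W) (t : I) : σ (v * X.s t) ∈ B.pan (σ v) t := by
  show B.δ _ _ = _
  rw [hσ]
  simp

theorem exists_ne_one (hσ : B.Apt σ) (hM : B.Mou K (σ 1)) {v : W} (hv : v ∈ X.WJ K) {t : I}
    (ht : t ∈ K) : ∃ g ∈ B.R σ K v t, g ≠ 1 := by
  obtain ⟨y, z, hyz, hy, hz⟩ := B.thick t (σ v)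
  obtain ⟨g, hg, h⟩ := hM σ hσ (by
    show B.δ _ _ ∈ X.WJ K
    rw [hσ]
    simp) v hv t ht y hy z hz
  refine ⟨g, hg, ?_⟩
  rintro rfl
  exact hyz h

theorem inv_apt {n : Perm C} {r : W} (hr : r ∈ X.WJ K) (hrr : r * r = 1)
    (h : ∀ w ∈ X.WJ K, n (σ w) = σ (r * w)) : ∀ w ∈ X.WJ K, n⁻¹ (σ w) = σ (r * w) := by
  intro w hw
  rw [Perm.inv_eq_iff_eq, h _ (mul_mem hr hw), ← mul_assoc, hrr, one_mul]

end bld

section grp

variable {F Γ : Type*} [Field F] [Group Γ]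

theorem comm_hh (x : Fin 3 → Fin 3 → F → Γ) (a b : Fin 3) (m : Γ)
    (h1 : ∀ t, Commute (x a b t) m) (h2 : ∀ t, Commute (x b a t) m) (t : F) :
    Commute (hh x a b t) m := by
  have hn : ∀ t, Commute (nn x a b t) m := fun t => ((h1 _).mul_left (h2 _)).mul_left (h1 _)
  exact (hn t).mul_left (hn 1).inv_left

theorem conj_conj {h m g g' : Γ} (hc : Commute h m) (e : h * g * h⁻¹ = g') :
    h * (m * g * m⁻¹) * h⁻¹ = m * g' * m⁻¹ := by
  rw [← e]
  have h1 : h * m = m * h := hc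
  have h2 : m⁻¹ * h⁻¹ = h⁻¹ * m⁻¹ := by rw [← mul_inv_rev, ← mul_inv_rev, h1]
  calc h * (m * g * m⁻¹) * h⁻¹ = (h * m) * g * (m⁻¹ * h⁻¹) := by group
    _ = (m * h) * g * (h⁻¹ * m⁻¹) := by rw [h1, h2]
    _ = _ := by group

theorem inj_of_add {y : F → Γ} (hadd : ∀ s t, y (s + t) = y s * y t)
    (h0 : ∀ s, y s = 1 → s = 0) : Function.Injective y := by
  intro s t h
  have h1 := hadd (s - t) t
  rw [sub_add_cancel, h] at h1
  exact sub_eq_zero.1 (h0 _ (by simpa using h1.symm))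

end grp

/-- **WIN** -/
theorem winStmt (hC : CxStmt) (hR : RtStmt) (hF : FreeStmt.{u}) (hMel : MelStmt.{u})
    (hCom : ComStmt.{u}) (hS : SthStmt.{u}) : WinStmt.{u} := by
  intro I W _ _ X C _ B σ i j k F _ κ κ' x hσ hT hM hP
  obtain ⟨hij, hjk, hik⟩ := hT
  have hji : X.m j i = 3 := by rw [m_symm, hij]
  have hkj : X.m k j = 4 := by rw [m_symm, hjk]
  have hki : X.m k i = 2 := by rw [m_symm, hik]
  generalize hK : ({i, j, k} : Set I) = K at *
  have iK : i ∈ K := by rw [← hK]; simp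
  have jK : j ∈ K := by rw [← hK]; simp
  have kK : k ∈ K := by rw [← hK]; simp
  have oK : (1 : W) ∈ X.WJ K := one_mem _
  have aK := s_mem X iK
  have bK := s_mem X jK
  have cK := s_mem X kK
  obtain ⟨free, conj, -, -⟩ := hF B σ K hσ
  have mel := hMel B σ K hσ hM
  have com := hCom B σ K hσ hM
  have sth := hS x hP.rel
  have gk : ∃ t ∈ K, 3 ≤ X.m k t := ⟨j, jK, by omega⟩
  have gj : ∃ t ∈ K, 3 ≤ X.m j t := ⟨k, kK, by omega⟩
  -- the parametrised root groups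
  have m01 : ∀ t, x 0 1 t ∈ B.R σ K 1 i := fun t => (hP.mem 0 1 (by decide) _).2 ⟨t, rfl⟩
  have m10 : ∀ t, x 1 0 t ∈ B.R σ K (X.s i) i := fun t => (hP.mem 1 0 (by decide) _).2 ⟨t, rfl⟩
  have m02 : ∀ t, x 0 2 t ∈ B.R σ K (X.s i) j := fun t => (hP.mem 0 2 (by decide) _).2 ⟨t, rfl⟩
  have m20 : ∀ t, x 2 0 t ∈ B.R σ K (X.s i * X.s j) j :=
    fun t => (hP.mem 2 0 (by decide) _).2 ⟨t, rfl⟩
  have m12 : ∀ g, g ∈ B.R σ K 1 j ↔ ∃ t, x 1 2 t = g := hP.mem 1 2 (by decide)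
  have m21 : ∀ g, g ∈ B.R σ K (X.s j) j ↔ ∃ t, x 2 1 t = g := hP.mem 2 1 (by decide)
  -- identifications of roots
  have v2i : ∀ v, B.R σ K (v * X.s k) i = B.R σ K v i :=
    fun v => congrArg (B.U σ K) (mv2 X hC hR hki v)
  have v2k : ∀ v, B.R σ K (v * X.s i) k = B.R σ K v k :=
    fun v => congrArg (B.U σ K) (mv2 X hC hR hik v)
  have v3 : ∀ v, B.R σ K (v * (X.s i * X.s j)) i = B.R σ K v j :=
    fun v => congrArg (B.U σ K) (mv3 X hC hR hij v)
  have v4k : ∀ v, B.R σ K (v * (X.s j * (X.s k * X.s j))) k = B.R σ K v k :=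
    fun v => congrArg (B.U σ K) (mv4 X hC hR hjk v)
  have v4j : ∀ v, B.R σ K (v * (X.s k * (X.s j * X.s k))) j = B.R σ K v j :=
    fun v => congrArg (B.U σ K) (mv4 X hC hR hkj v)
  have e3 : B.R σ K (X.s j * X.s k) j = B.R σ K (X.s k) j := by
    rw [← v4j (X.s k), X.s_mul_s_cancel_left]
  have e4 : B.R σ K (X.s j * X.s k * X.s j) k = B.R σ K 1 k := by
    rw [← v4k 1, one_mul, mul_assoc]
  have e5 : B.R σ K (X.s j * X.s k * X.s j * X.s k) j = B.R σ K (X.s j) j := by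
    rw [← v4j (X.s j)]
    simp only [mul_assoc]
  have e02 : B.R σ K (X.s i) j = B.R σ K (X.s j) i := by
    rw [← v3 (X.s i), X.s_mul_s_cancel_left]
  have e20 : B.R σ K (X.s i * X.s j) j = B.R σ K (X.s j * X.s i) i := by
    rw [← v3 (X.s i * X.s j)]
    congr 1
    have := br3 X hij
    calc X.s i * X.s j * (X.s i * X.s j) = X.s i * (X.s j * X.s i) * X.s j := by group
      _ = X.s j * X.s i := by rw [this, mul_assoc, X.s_mul_s_cancel_right]
  -- orthogonal roots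
  have orth : ∀ v ∈ X.WJ K, ∀ p, (p ∈ B.R σ K v i ∨ p ∈ B.R σ K (v * X.s i) i) →
      ∀ q, (q ∈ B.R σ K v k ∨ q ∈ B.R σ K (v * X.s k) k) → Commute p q := by
    have hac : ∀ v : W, v * X.s i * X.s k = v * X.s k * X.s i := fun v => by
      rw [mul_assoc, br2 X hik, mul_assoc]
    rintro v hv p (hp | hp) q (hq | hq)
    · exact (com v hv i iK k kK).1 hik p hp q hq
    · exact (com _ (mul_mem hv cK) i iK k kK).1 hik p (by rwa [v2i]) q hq
    · exact (com _ (mul_mem hv aK) i iK k kK).1 hik p hp q (by rwa [v2k])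
    · exact (com _ (mul_mem (mul_mem hv aK) cK) i iK k kK).1 hik p (by rwa [v2i]) q
        (by rwa [hac, v2k])
  have cH : ∀ t q, (q ∈ B.R σ K 1 k ∨ q ∈ B.R σ K (1 * X.s k) k) → Commute (hh x 1 0 t) q :=
    fun t q hq => comm_hh x 1 0 q
      (fun s => orth 1 oK _ (Or.inr (by rw [one_mul]; exact m10 s)) q hq)
      (fun s => orth 1 oK _ (Or.inl (m01 s)) q hq) t
  have cH' : ∀ t q, (q ∈ B.R σ K (X.s j) k ∨ q ∈ B.R σ K (X.s j * X.s k) k) →
      Commute (hh x 2 0 t) q :=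
    fun t q hq => comm_hh x 2 0 q
      (fun s => orth _ bK _ (Or.inr (by rw [← e20]; exact m20 s)) q hq)
      (fun s => orth _ bK _ (Or.inl (by rw [← e02]; exact m02 s)) q hq) t
  -- the tori normalise all root groups
  have tor : ∀ (a b : Fin 3), a ≠ b → (prt X i j a b).1 ∈ X.WJ K → (prt X i j a b).2 ∈ K →
      ∀ t, t ≠ 0 → ∀ v l, ∀ g ∈ B.R σ K v l, hh x a b t * g * (hh x a b t)⁻¹ ∈ B.R σ K v l := by
    intro a b hab h1 h2 t ht v l g hg
    have hx : ∀ a b : Fin 3, a ≠ b → ∀ t, x a b t ∈ B.Aut K (σ 1) :=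
      fun a b hab t => ((hP.mem a b hab _).2 ⟨t, rfl⟩).1
    have hn : ∀ t, nn x a b t ∈ B.Aut K (σ 1) := fun t =>
      mul_mem (mul_mem (hx a b hab _) (hx b a hab.symm _)) (hx a b hab _)
    have hr := rf_mem X h1 h2
    have := conj (hh x a b t) (mul_mem (hn t) (inv_mem (hn 1))) 1 oK (fun w hw => by
      show nn x a b t ((nn x a b 1)⁻¹ (σ w)) = _
      rw [inv_apt hr (rf_sq X _ _) (hP.nσ a b hab 1 one_ne_zero) w hw,
        hP.nσ a b hab t ht _ (mul_mem hr hw), ← mul_assoc, rf_sq]) v l g hg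
    rwa [one_mul] at this
  have torH := tor 1 0 (by decide) aK iK
  have torH' := tor 2 0 (by decide) (mul_mem aK bK) jK
  -- conjugation by the elements `m(u)`
  have cm : ∀ v ∈ X.WJ K, ∀ l ∈ K, ∀ n ∈ B.Aut K (σ 1),
      (∀ w ∈ X.WJ K, n (σ w) = σ (X.rf v l * w)) → ∀ v' l',
        (∀ g ∈ B.R σ K v' l', n * g * n⁻¹ ∈ B.R σ K (X.rf v l * v') l') ∧
        ∀ g ∈ B.R σ K (X.rf v l * v') l', n⁻¹ * g * n ∈ B.R σ K v' l' := by
    intro v hv l hl n hn h v' l'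
    have hr := rf_mem X hv hl
    refine ⟨conj n hn _ hr h v' l', fun g hg => ?_⟩
    have := conj n⁻¹ (inv_mem hn) _ hr (inv_apt hr (rf_sq X _ _) h) _ l' g hg
    rwa [inv_inv, ← mul_assoc, rf_sq, one_mul] at this
  have rf1 : ∀ l, X.rf 1 l = X.s l := fun l => by simp [Cox.rf]
  -- the two parametrisations of the third root group
  obtain ⟨y0, hy0, hy0'⟩ := exists_ne_one hσ hM oK kK
  obtain ⟨a0, ha0, b0, hb0, hm0⟩ := mel 1 oK k kK gk y0 hy0 hy0'
  have cm0 := cm 1 oK k kK _ (mul_mem (mul_mem ha0.1 hy0.1) hb0.1) hm0 1 j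
  rw [rf1, mul_one, ← e3] at cm0
  have cH0 : ∀ t, Commute (hh x 1 0 t) (a0 * y0 * b0) := fun t =>
    ((cH t _ (Or.inr ha0)).mul_right (cH t _ (Or.inl hy0))).mul_right (cH t _ (Or.inr hb0))
  generalize a0 * y0 * b0 = m0 at cm0 cH0
  obtain ⟨y1, hy1, hy1'⟩ := exists_ne_one hσ hM bK kK
  obtain ⟨a1, ha1, b1, hb1, hm1⟩ := mel _ bK k kK gk y1 hy1 hy1'
  have cm1 := cm _ bK k kK _ (mul_mem (mul_mem ha1.1 hy1.1) hb1.1) hm1 (X.s j) j
  rw [rf_mul] at cm1
  have cH1 : ∀ t, Commute (hh x 2 0 t) (a1 * y1 * b1) := fun t =>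
    ((cH' t _ (Or.inr ha1)).mul_right (cH' t _ (Or.inl hy1))).mul_right (cH' t _ (Or.inr hb1))
  generalize a1 * y1 * b1 = m1 at cm1 cH1
  have inj12 : Function.Injective (x 1 2) :=
    inj_of_add (hP.rel.add 1 2 (by decide)) (hP.rel.inj 1 2 (by decide))
  have inj21 : Function.Injective (x 2 1) :=
    inj_of_add (hP.rel.add 2 1 (by decide)) (hP.rel.inj 2 1 (by decide))
  have mem3' : ∀ g, g ∈ B.R σ K (X.s j * X.s k) j ↔ ∃ t, m1 * x 2 1 t * m1⁻¹ = g := by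
    intro g
    constructor
    · intro hg
      obtain ⟨t, ht⟩ := (m21 _).1 (cm1.2 g hg)
      exact ⟨t, by rw [ht]; group⟩
    · rintro ⟨t, rfl⟩
      exact cm1.1 _ ((m21 _).2 ⟨t, rfl⟩)
  have k3 : ∀ t, t ≠ 0 → ∀ s, hh x 2 0 t * (m1 * x 2 1 s * m1⁻¹) * (hh x 2 0 t)⁻¹ =
      m1 * x 2 1 (t * s) * m1⁻¹ := fun t ht s =>
    conj_conj (cH1 t) (sth 2 0 1 (by decide) (by decide) (by decide) t ht s).1
  -- commutator relations
  have c14 : ∀ p ∈ B.R σ K 1 j, ∀ q ∈ B.R σ K 1 k, ∃ y ∈ B.R σ K (X.s j) k,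
      ∃ z ∈ B.R σ K (X.s j * X.s k) j, p * q * p⁻¹ * q⁻¹ = y * z := by
    have := (com 1 oK j jK k kK).2.2.2.2 hjk
    simpa only [one_mul] using this
  -- fixed chambers
  have bcK := mul_mem bK cK
  have cbK := mul_mem cK bK
  have f3 : ∀ g ∈ B.R σ K (X.s j * X.s k) j, g (σ (X.s j * X.s k)) = σ (X.s j * X.s k) :=
    fun g hg => hg.2.1 _ bcK ((hR X).1 _ _)
  have f4 : ∀ g ∈ B.R σ K 1 k, g (σ (X.s j * X.s k)) = σ (X.s j * X.s k) := fun g hg =>
    hg.2.1 _ bcK (by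
      show X.len (1⁻¹ * _) < X.len (_ * (1⁻¹ * _))
      rw [inv_one, one_mul, len2 X hC (by omega), len3 X hC (by omega)]
      omega)
  have f1 : ∀ g ∈ B.R σ K 1 j, g (σ (X.s k * X.s j)) = σ (X.s k * X.s j) := fun g hg =>
    hg.2.1 _ cbK (by
      show X.len (1⁻¹ * _) < X.len (_ * (1⁻¹ * _))
      rw [inv_one, one_mul, len2 X hC (by omega), len3 X hC (by omega)]
      omega)
  have f2 : ∀ g ∈ B.R σ K (X.s j) k, g (σ (X.s k * X.s j)) = σ (X.s k * X.s j) := fun g hg =>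
    hg.2.1 _ cbK (by
      show X.len ((X.s j)⁻¹ * _) < X.len (_ * ((X.s j)⁻¹ * _))
      rw [InvGen.inv_s, len3 X hC (by omega), len4 X hC (by omega)]
      omega)
  have free2 : ∀ g ∈ B.R σ K (X.s j) k, g (σ (X.s j * X.s k)) = σ (X.s j * X.s k) → g = 1 :=
    fun g hg h => free _ bK k kK gk g hg _ (apt_pan hσ _ _) h
  have free3 : ∀ g ∈ B.R σ K (X.s k) j, g (σ (X.s k * X.s j)) = σ (X.s k * X.s j) → g = 1 :=
    fun g hg h => free _ cK j jK gj g hg _ (apt_pan hσ _ _) h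
  have hg1 : x 1 2 1 ∈ B.R σ K 1 j := (m12 _).2 ⟨1, rfl⟩
  have hg1' : x 1 2 1 ≠ 1 := fun h => one_ne_zero (hP.rel.inj 1 2 (by decide) 1 h)
  refine ⟨fun t => m0 * x 1 2 t * m0⁻¹, fun t => m1 * x 2 1 t * m1⁻¹,
    { add1 := hP.rel.add 1 2 (by decide)
      inj1 := inj12
      mem1 := m12
      add3 := fun s t => by rw [hP.rel.add 1 2 (by decide)]; group
      inj3 := fun s t h => inj12 (by simpa using h)
      mem3 := fun g => ⟨fun hg => ?_, ?_⟩
      add3' := fun s t => by rw [hP.rel.add 2 1 (by decide)]; group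
      inj3' := fun s t h => inj21 (by simpa using h)
      mem3' := mem3'
      c12 := by simpa only [one_mul] using (com 1 oK j jK k kK).2.1 (Or.inr hjk)
      c23 := (com _ bK k kK j jK).2.1 (Or.inr hkj)
      c34 := by rw [← e4]; exact (com _ bcK j jK k kK).2.1 (Or.inr hjk)
      c13 := by simpa only [one_mul] using (com 1 oK j jK k kK).2.2.2.1 hjk
      c24 := by rw [← e4]; exact (com _ bK k kK j jK).2.2.2.1 hkj
      c14 := c14
      i23 := ?_
      bij := ?_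
      ne3 := ?_
      h1 := fun t ht s => (sth 1 0 2 (by decide) (by decide) (by decide) t ht s).1
      h2 := fun t ht => torH t ht _ _
      h3 := fun t ht s =>
        conj_conj (cH0 t) (sth 1 0 2 (by decide) (by decide) (by decide) t ht s).1
      h4 := fun t _ g hg => by rw [(cH t g (Or.inl hg)).eq]; group
      k1 := fun t ht s => (sth 2 0 1 (by decide) (by decide) (by decide) t ht s).2.1
      k2 := fun t _ g hg => by rw [(cH' t g (Or.inl hg)).eq]; group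
      k3 := k3
      k4 := fun t ht => torH' t ht _ _
      hk := ?_ }⟩
  · obtain ⟨t, ht⟩ := (m12 _).1 (cm0.2 g hg)
    exact ⟨t, by rw [ht]; group⟩
  · rintro ⟨t, rfl⟩
    exact cm0.1 _ ((m12 _).2 ⟨t, rfl⟩)
  · rw [eq_bot_iff]
    intro g hg
    exact free2 g hg.1 (f3 g hg.2)
  · obtain ⟨α, hα, β, hβ, hn⟩ := mel 1 oK j jK gj _ hg1 hg1'
    rw [one_mul] at hα hβ
    have cn := cm 1 oK j jK _ (mul_mem (mul_mem hα.1 hg1.1) hβ.1) hn 1 k
    rw [rf1, mul_one] at cn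
    have c45 : ∀ p ∈ B.R σ K 1 k, ∀ q ∈ B.R σ K (X.s j) j, p * q = q * p := by
      rw [← e4, ← e5]
      exact (com _ (mul_mem bcK bK) k kK j jK).2.1 (Or.inr hkj)
    have key : ∀ y ∈ B.R σ K 1 k, ∀ p ∈ B.R σ K (X.s j) k, ∀ q ∈ B.R σ K (X.s j * X.s k) j,
        x 1 2 1 * y * (x 1 2 1)⁻¹ * y⁻¹ = p * q →
        p = α * x 1 2 1 * β * y * (α * x 1 2 1 * β)⁻¹ := by
      intro y hy p hp q hq e
      have hc := cn.1 y hy
      have e1 : α * x 1 2 1 * β * y * (α * x 1 2 1 * β)⁻¹ =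
          α * (x 1 2 1 * y * (x 1 2 1)⁻¹) * α⁻¹ := by
        rw [mul_assoc (α * x 1 2 1) β y, ← c45 y hy β hβ]
        group
      generalize α * x 1 2 1 * β * y * (α * x 1 2 1 * β)⁻¹ = cc at hc e1
      obtain ⟨z, hz, y', hy', e2⟩ := (com _ bK k kK j jK).2.2.2.2 hkj _ (inv_mem hc) _ (inv_mem hα)
      rw [e4] at hy'
      have e3 : cc⁻¹ * p = z * y' * y⁻¹ * q⁻¹ := by
        rw [← e2, eq_mul_inv_of_mul_eq e.symm]
        have : x 1 2 1 * y * (x 1 2 1)⁻¹ = α⁻¹ * cc * α := by rw [e1]; group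
        rw [this]
        group
      have := free2 _ (mul_mem (inv_mem hc) hp) (by
        rw [e3, Perm.mul_apply, Perm.mul_apply, Perm.mul_apply, f3 _ (inv_mem hq),
          f4 _ (inv_mem hy), f4 _ hy', f3 _ hz])
      exact (inv_mul_eq_one.1 this).symm
    intro p hp
    have hb := cn.2 p hp
    obtain ⟨p', hp', q, hq, e⟩ := c14 _ hg1 _ hb
    have hpp : p' = p := by rw [key _ hb p' hp' q hq e]; group
    refine ⟨_, ⟨hb, q, hq, by rw [e, hpp]⟩, ?_⟩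
    rintro y ⟨hy, q', hq', e'⟩
    rw [key y hy p hp q' hq' e']
    group
  · intro y hy hp
    by_contra hy1
    obtain ⟨α, hα, β, hβ, hn⟩ := mel 1 oK k kK gk _ hy hy1
    rw [one_mul] at hα hβ
    have cn := (cm 1 oK k kK _ (mul_mem (mul_mem hα.1 hy.1) hβ.1) hn 1 j).1 _ (inv_mem hg1)
    rw [rf1, mul_one] at cn
    have c01 : ∀ p ∈ B.R σ K (X.s k) k, ∀ q ∈ B.R σ K 1 j, p * q = q * p := by
      have := (com _ cK k kK j jK).2.1 (Or.inr hkj)
      rwa [X.s_mul_s] at this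
    have e1 : α * y * β * (x 1 2 1)⁻¹ * (α * y * β)⁻¹ = α * (y * (x 1 2 1)⁻¹ * y⁻¹) * α⁻¹ := by
      rw [mul_assoc (α * y) β, c01 β hβ _ (inv_mem hg1)]
      group
    rw [e1] at cn
    obtain ⟨z, hz, y', hy', e2⟩ := (com _ cK k kK j jK).2.2.2.2 hkj _ (inv_mem hα) _ cn
    rw [X.s_mul_s] at hz
    rw [X.s_mul_s, one_mul] at hy'
    have e3 : α * (y * (x 1 2 1)⁻¹ * y⁻¹) * α⁻¹ =
        y'⁻¹ * z⁻¹ * (x 1 2 1)⁻¹ * (x 1 2 1 * y * (x 1 2 1)⁻¹ * y⁻¹) := by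
      rw [← mul_inv_rev, ← e2]
      group
    have := free3 _ cn (by
      rw [e3, Perm.mul_apply, Perm.mul_apply, Perm.mul_apply, f2 _ hp, f1 _ (inv_mem hg1),
        f1 _ (inv_mem hz), f2 _ (inv_mem hy')])
    apply hg1'
    have h2 : x 1 2 1 = y⁻¹ * α⁻¹ * (α * (y * (x 1 2 1)⁻¹ * y⁻¹) * α⁻¹)⁻¹ * α * y := by group
    rw [h2, this]
    group
  · intro t r ht hr g hg
    obtain ⟨s, hs⟩ := (mem3' _).1 (torH t ht _ _ g hg)
    have e := ((sth 1 0 2 (by decide) (by decide) (by decide) t ht 0).2.2.2.2 r hr).2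
    have e1 : hh x 1 0 t * (hh x 2 0 r * g * (hh x 2 0 r)⁻¹) * (hh x 1 0 t)⁻¹ =
        (hh x 1 0 t * hh x 2 0 r * (hh x 1 0 t)⁻¹) * (hh x 1 0 t * g * (hh x 1 0 t)⁻¹) *
          (hh x 1 0 t * hh x 2 0 r * (hh x 1 0 t)⁻¹)⁻¹ := by group
    have e2 := k3 t ht (t⁻¹ * s)
    rw [mul_inv_cancel_left₀ ht] at e2
    have e4 := k3 (t * r) (mul_ne_zero ht hr) (t⁻¹ * s)
    rw [show t * r * (t⁻¹ * s) = r * s by field_simp] at e4
    rw [e1, e, ← hs, k3 r hr, ← e4, ← e2]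
    group

end Cfsg.Agent.H33.T3Win
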