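import Mathlib
import Cfsg.Agent.H17.KnDef2

/-!
# Automorphisms of the even Sylow subgroup of the model
-/

set_option autoImplicit false
set_option maxRecDepth 100000
set_option synthInstance.maxSize 2000

namespace Cfsg.Agent.H33.KnAu1

open Equiv Subgroup Cfsg.Agent.H17.Kn
open Cfsg.Agent.H11.A16 hiding z2

universe u

variable {α β : N2 → N2} {X : Subgroup N2}

theorem aem (h : Au α X) : Em α X := ⟨h.mul, h.inj⟩

theorem asur (h : Au α X) {v : N2} (hv : v ∈ X) : ∃ u ∈ X, α u = v := by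
  have k : Function.Injective (fun u : X => (⟨α u, h.mem u u.2⟩ : X)) := fun u v e =>
    Subtype.ext (h.inj u u.2 v v.2 (congrArg Subtype.val e))
  obtain ⟨u, hu⟩ := Finite.injective_iff_surjective.1 k ⟨v, hv⟩
  exact ⟨u, u.2, congrArg Subtype.val hu⟩

theorem acj (h : Au α X) {c : N2} (hc : c ∈ X) : Au (fun u => c * α u * c⁻¹) X :=
  ⟨fun u hu => mul_mem (mul_mem hc (h.mem u hu)) (inv_mem hc),
    fun u hu v hv => by rw [h.mul u hu v hv]; group,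
    fun u hu v hv e => h.inj u hu v hv (by simpa using e)⟩

theorem acm (h : Au α X) {u v : N2} (hu : u ∈ X) (hv : v ∈ X) :
    Commute (α u) (α v) ↔ Commute u v :=
  ⟨fun e => h.inj _ (mul_mem hu hv) _ (mul_mem hv hu)
    (by rw [h.mul u hu v hv, h.mul v hv u hu, e.eq]),
    fun e => by rw [Commute, SemiconjBy, ← h.mul u hu v hv, ← h.mul v hv u hu, e.eq]⟩

theorem asq (h : Au α X) {u : N2} (hu : u ∈ X) (e : u * u = 1) : α u * α u = 1 := by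
  rw [← h.mul u hu u hu, e, (aem h).one]

theorem acon (h : Au α X) {t u : N2} (ht : t ∈ X) (hu : u ∈ X) :
    α t * α u * (α t)⁻¹ = α (t * u * t⁻¹) := (aem h).self ht hu

/-- The elements on which two maps agree. -/
def eqS (h : Au α X) (d : N2) : Subgroup N2 where
  carrier := {u | u ∈ X ∧ α u = d * u * d⁻¹}
  one_mem' := ⟨one_mem _, by rw [(aem h).one]; group⟩
  mul_mem' := fun {a b} ha hb => ⟨mul_mem ha.1 hb.1, by
    rw [h.mul a ha.1 b hb.1, ha.2, hb.2]; group⟩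
  inv_mem' := fun {a} ha => ⟨inv_mem ha.1, by rw [(aem h).inv ha.1, ha.2]; group⟩

theorem pσ {u : N2} (h : u ∈ PP) : u.σ = 1 := h

theorem secm {t : Perm P} (h : t ∈ T') : sec2 t ∈ SE :=
  ⟨h, show par (sec2 t) = 0 from Finset.sum_eq_zero fun _ _ => rfl⟩

/-- An involution that commutes with its conjugates fixes all blocks. -/
theorem inJJ {u : N2} (hu : u ∈ SE) (h2 : u * u = 1)
    (hc : ∀ g ∈ SE, Commute u (g * u * g⁻¹)) : u ∈ JJ := by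
  refine mem_JJ.2 fun p => ?_
  by_contra hp
  rw [not_or] at hp
  have hx : ∀ r, u.σ (x 1 r) = x 1 (u.σ r) := hu.1.1
  have s2 : ∀ r, u.σ (u.σ r) = r := fun r => congrArg (fun v : N2 => v.σ r) h2
  have f2 : ∀ r, u.f r + u.f (u.σ r) = 0 := fun r => congrArg (fun v : N2 => v.f r) h2
  obtain ⟨q, k⟩ := (show ∀ p a : P, a ≠ p → a ≠ x 1 p → ∃ q : P,
      tp p (x 1 p) * dl p * dl q ∈ SE ∧ (tp p (x 1 p) * dl p * dl q)⁻¹.σ p = x 1 p ∧
      (tp p (x 1 p) * dl p * dl q)⁻¹.σ a = a ∧ (tp p (x 1 p) * dl p * dl q).σ (x 1 a) = x 1 a ∧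
      (tp p (x 1 p) * dl p * dl q)⁻¹.f p = 0 ∧ (tp p (x 1 p) * dl p * dl q)⁻¹.f a = 0 ∧
      (tp p (x 1 p) * dl p * dl q).f (x 1 a) = 0 ∧ (tp p (x 1 p) * dl p * dl q).f p = 1 by
    decide +kernel) p (u.σ p) hp.1 hp.2
  generalize tp p (x 1 p) * dl p * dl q = g at k
  obtain ⟨k0, k1, k2, k3, k4, k5, k6, k7⟩ := k
  have e := congrArg (fun v : N2 => v.f p) (hc g k0).eq
  have a1 := f2 p
  have a2 := f2 (x 1 p)
  generalize g⁻¹ = g' at k1 k2 k4 k5 e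
  simp only [N2.mul_f, N2.mul_σ, Perm.mul_apply, k1, k2, hx, s2, k3, k4, k5, k6, k7] at e a2
  revert e a1 a2
  generalize u.f p = s1; generalize u.f (x 1 p) = s2; generalize u.f (u.σ p) = s3
  generalize u.f (x 1 (u.σ p)) = s4
  revert s1 s2 s3 s4; decide

theorem pp_or_ff {u v : N2} (hu : u ∈ JJ) (hv : v ∈ JJ) (h2 : v * v = 1)
    (hc : ∀ g ∈ SE, Commute v (g * u * g⁻¹)) : u ∈ PP ∨ v ∈ FF := by
  by_contra hn
  rw [not_or] at hn
  obtain ⟨q, hq⟩ : ∃ q, u.σ q ≠ q := by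
    by_contra k
    exact hn.1 (show u.σ = 1 from Equiv.ext fun q => by by_contra k'; exact k ⟨q, k'⟩)
  obtain ⟨p, hp⟩ : ∃ p, v.f (x 1 p) ≠ v.f p := by
    by_contra k
    exact hn.2 ⟨hv, JJ_x hv, fun p => by by_contra k'; exact k ⟨p, k'⟩⟩
  have h3 := (mem_JJ.1 hu q).resolve_left hq
  have h4 : v.σ p = p := (mem_JJ.1 hv p).resolve_right fun a => hp (by
    have := congrArg (fun w : N2 => w.f p) h2
    simp only [N2.mul_f, a, N2.one_f] at this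
    revert this; generalize v.f p = s; generalize v.f (x 1 p) = t; revert s t; decide)
  obtain ⟨m, k0, k1, k2⟩ := (show ∀ p q : P, ∃ m : P, sec2 (x m) ∈ SE ∧
    (sec2 (x m))⁻¹.σ p = q ∧ (sec2 (x m)).σ (x 1 q) = x 1 p by decide +kernel) p q
  have e := congrArg (fun w : N2 => w.f p) (hc _ k0).eq
  have e1 : (sec2 (x m) * u * (sec2 (x m))⁻¹).σ p = x 1 p := by
    rw [N2.mul_σ, N2.mul_σ, Perm.mul_apply, Perm.mul_apply, k1, h3, k2]
  generalize sec2 (x m) * u * (sec2 (x m))⁻¹ = y at e e1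
  simp only [N2.mul_f, e1, h4] at e
  exact hp (add_left_cancel (e.trans (add_comm _ _)))

theorem ncom (h : Au α SE) (hX : X ≤ SE) (hn : ∀ m ∈ SE, ∀ u ∈ X, m * u * m⁻¹ ∈ X)
    (ha : ∀ u ∈ X, ∀ v ∈ X, Commute u v) {u v : N2} (hu : u ∈ X) (hv : v ∈ X) :
    ∀ g ∈ SE, Commute (α v) (g * α u * g⁻¹) := fun g hg => by
  obtain ⟨t, ht, rfl⟩ := asur h hg
  rw [acon h ht (hX hu)]
  exact (acm h (hX hv) (hX (hn t ht u hu))).2 (ha _ hv _ (hn t ht u hu))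

theorem EE_SE (h2 : Mod2) : EE ≤ SE :=
  h2.le.2.2.2.2.2.1.trans (h2.le.2.2.2.2.2.2.1.trans h2.le.2.2.2.2.2.2.2.2.1)

theorem FF_SE (h2 : Mod2) : FF ≤ SE := h2.le.2.2.2.2.2.2.2.2.2.2.2.2.1

theorem T0_SE (h2 : Mod2) : T0 ≤ SE := h2.le.2.2.2.2.2.2.2.1.trans h2.le.2.2.2.2.2.2.2.2.1

theorem aFF (h2 : Mod2) (h : Au α SE) {u : N2} (hu : u ∈ FF) : α u ∈ JJ :=
  inJJ (h.mem u (FF_SE h2 hu)) (asq h (FF_SE h2 hu) (h2.ab.2.2.2.2.1 u hu))
    (ncom h (FF_SE h2) (fun m hm => ((h2.nrm m).2.2.1 hm.1).1) h2.ab.2.1 hu hu)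

theorem aEE (h1 : Mod1) (h2 : Mod2) (h3 : Mod3) (h : Au α SE) {e : N2} (he : e ∈ EE) :
    α e ∈ EE := by
  have l := EE_SE h2
  have c : ∀ u ∈ EE, ∀ v ∈ EE, ∀ g ∈ SE, Commute (α v) (g * α u * g⁻¹) := fun u hu v hv =>
    ncom h l (fun m _ => (h2.nrm m).2.1) (fun u hu v hv => h2.ab.1 u hu.1 v hv.1) hu hv
  have s : ∀ u ∈ EE, α u * α u = 1 := fun u hu => asq h (l hu) (h2.ab.2.2.2.1 u hu.1)
  have j : ∀ u ∈ EE, α u ∈ JJ := fun u hu => inJJ (h.mem u (l hu)) (s u hu) (c u hu u hu)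
  refine ⟨?_, (h.mem e (l he)).2⟩
  by_contra hn
  have k : ∀ v ∈ EE, α v ∈ FF := fun v hv =>
    (pp_or_ff (j e he) (j v hv) (s v hv) (c e he v hv)).resolve_left hn
  have k2 : FF ≤ im α EE := fun f hf => by
    obtain ⟨t, ht, rfl⟩ := asur h (FF_SE h2 hf)
    exact mem_im ⟨h3.cEE t fun v hv => (acm h ht (l hv)).1 (h2.ab.2.1 _ hf _ (k v hv)), ht.2⟩
  have := Subgroup.card_le_of_le k2
  rw [((aem h).mono l).card, h1.cFF, h1.cEE] at this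
  omega

theorem az (h2 : Mod2) (h3 : Mod3) (h : Au α SE) : α z2 = z2 := by
  have hz : z2 ∈ SE := by decide +kernel
  refine (h3.cQQ _ fun a ha => ?_).resolve_left fun e => ?_
  · obtain ⟨t, ht, rfl⟩ := asur h (T0_SE h2 (h2.le.2.1 ha))
    exact (acm h hz ht).2 (h2.ab.2.2.2.2.2.2 t).symm
  · exact absurd (h.inj _ hz _ (one_mem _) (e.trans (aem h).one.symm)) (by decide +kernel)

theorem azp (h2 : Mod2) (h3 : Mod3) (h : Au α SE) (c : ZMod 2) : α (zp c) = zp c := by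
  rcases Cfsg.Agent.H11.A16.z2 c with rfl | rfl
  · exact (aem h).one
  · exact az h2 h3 h

theorem fpf (h1 : Mod1) (h2 : Mod2) (h3 : Mod3) (h : Au α SE) {a : N2} (ha : a ∈ SE)
    (hb : ∃ j, a * xe 0 j * a⁻¹ = xe 0 j * z2) (p : P) : (α a).σ p ≠ p := fun e => by
  obtain ⟨j, hb⟩ := hb
  have m : xe 0 j ∈ EE := by clear hb; revert j; decide +kernel
  have k := acon h ha (EE_SE h2 m)
  rw [hb, h.mul _ (EE_SE h2 m) _ (by decide +kernel), az h2 h3 h, mul_inv_eq_iff_eq_mul] at k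
  have k1 := pσ (aEE h1 h2 h3 h m).1
  have := congrArg (fun w : N2 => w.f p) k
  simp only [N2.mul_f, k1, e, Perm.one_apply, show z2.σ = 1 from rfl,
    show ∀ r, z2.f r = 1 from fun _ => rfl] at this
  revert this; generalize (α a).f p = s; generalize (α (xe 0 j)).f p = t; revert s t; decide

theorem sq_half {s : Perm P} (h : s ∈ T') : (s (s 0)).1 / 4 = 0 := by
  have a := h.2 (s 0) 0
  have b := (inv_mem h).2 (s (s 0)) (s 0)
  rw [inv_app, inv_app] at b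
  have := (s (s 0)).2; have := (s 0).2
  have e : ((0 : P) : ℕ) = 0 := rfl
  omega

theorem pext {s t : Perm P} (hs : s ∈ T') (ht : t ∈ T') (h0 : s 0 = t 0) (h2 : s 2 = t 2)
    (h4 : s 4 = t 4) (h6 : s 6 = t 6) : s = t := Equiv.ext fun p => by
  obtain rfl | rfl | rfl | rfl | rfl | rfl | rfl | rfl : p = 0 ∨ p = 2 ∨ p = 4 ∨ p = 6 ∨
    p = x 1 0 ∨ p = x 1 2 ∨ p = x 1 4 ∨ p = x 1 6 := by revert p; decide
  exacts [h0, h2, h4, h6, by rw [hs.1, ht.1, h0], by rw [hs.1, ht.1, h2], by rw [hs.1, ht.1, h4],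
    by rw [hs.1, ht.1, h6]]

/-- A regular pair is conjugate to the standard one. -/
theorem reg {s t : Perm P} (hs : s ∈ T') (ht : t ∈ T') (s2 : ∀ p, s (s p) = p)
    (t2 : ∀ p, t (t p) = p) (st : ∀ p, s (t p) = t (s p)) (h0 : (s 0).1 / 4 = 0)
    (a1 : s 0 ≠ 0) (a2 : x 1 (s 0) ≠ 0) (b1 : t 0 ≠ 0) (b2 : x 1 (t 0) ≠ 0) (c1 : s (t 0) ≠ 0)
    (c2 : x 1 (s (t 0)) ≠ 0) :
    ∃ r ∈ T', s * r = r * x 2 ∧ t * r = r * x 4 := by
  have d1 : t 0 ≠ s 0 := fun e => c1 (by rw [e, s2])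
  have d2 : t 0 ≠ x 1 (s 0) := fun e => c2 (by rw [e, hs.1, xx, s2])
  have d3 : s (t 0) ≠ t 0 := fun e => a1 (t.injective (by rw [← st, e]))
  have d4 : s (t 0) ≠ x 1 (t 0) := fun e => a2 (t.injective (by rw [ht.1, ← st, e, xx]))
  have d5 : (s (t 0)).1 / 4 = (t 0).1 / 4 := by rw [st]; exact ht.2 _ _ h0
  obtain ⟨i, j, k, l, hr⟩ := (show ∀ a : P, a.1 / 4 = 0 → a ≠ 0 → x 1 a ≠ 0 → ∀ b : P, b ≠ 0 →
      x 1 b ≠ 0 → b ≠ a → b ≠ x 1 a → ∀ c : P, c ≠ b → c ≠ x 1 b → c.1 / 4 = b.1 / 4 →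
      ∃ i j k l : Fin 2, ∀ r : Perm P, r = swap 2 3 ^ i.1 * swap 4 5 ^ j.1 * swap 6 7 ^ k.1 *
        (swap 4 6 * swap 5 7) ^ l.1 → r ∈ T' ∧ r 0 = 0 ∧ r 2 = a ∧ r 4 = b ∧ r 6 = c by
    simp only [forall_eq]; decide +kernel) _ h0 a1 a2 _ b1 b2 d1 d2 _ d3 d4 d5
  obtain ⟨r, hr'⟩ : ∃ r : Perm P, r = swap 2 3 ^ i.1 * swap 4 5 ^ j.1 * swap 6 7 ^ k.1 *
    (swap 4 6 * swap 5 7) ^ l.1 := ⟨_, rfl⟩
  obtain ⟨m, r0, r2, r4, r6⟩ := hr r hr'
  clear hr hr'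
  have x2 : x 2 ∈ T' := by decide +kernel
  have x4 : x 4 ∈ T' := by decide +kernel
  refine ⟨_, m, pext (mul_mem hs m) (mul_mem m x2) ?_ ?_ ?_ ?_,
    pext (mul_mem ht m) (mul_mem m x4) ?_ ?_ ?_ ?_⟩ <;>
  simp only [Perm.mul_apply,
    show x 2 0 = 2 from rfl, show x 2 2 = 0 from rfl, show x 2 4 = 6 from rfl,
    show x 2 6 = 4 from rfl, show x 4 0 = 4 from rfl, show x 4 2 = 6 from rfl,
    show x 4 4 = 0 from rfl, show x 4 6 = 2 from rfl, r0, r2, r4, r6, s2, t2, st]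

theorem std (h1 : Mod1) (h2 : Mod2) (h3 : Mod3) (h : Au α SE) : ∃ c ∈ SE,
    (c * α (xe 1 4) * c⁻¹).σ = x 1 ∧ (c * α (xe 2 4) * c⁻¹).σ = x 2 ∧
      (c * α (xe 3 4) * c⁻¹).σ = x 4 := by
  have m1 : xe 1 4 ∈ SE := by decide +kernel
  have m2 : xe 2 4 ∈ SE := by decide +kernel
  have m3 : xe 3 4 ∈ SE := by decide +kernel
  have m4 : xe 2 3 * xe 3 4 ∈ SE := by decide +kernel
  have e1 : (α (xe 1 4)).σ = x 1 := Equiv.ext fun p =>
    (mem_JJ.1 (aFF h2 h (by decide +kernel)) p).resolve_left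
      (fpf h1 h2 h3 h m1 (by decide +kernel) p)
  have g : ∀ a ∈ SE, (∃ j, xe 1 4 * a * xe 0 j * (xe 1 4 * a)⁻¹ = xe 0 j * z2) →
      x 1 ((α a).σ 0) ≠ 0 := fun a ha k => by
    have := fpf h1 h2 h3 h (mul_mem m1 ha) k 0
    rwa [h.mul _ m1 _ ha, N2.mul_σ, e1] at this
  have q : ∀ a ∈ SE, a * a = 1 → ∀ p, (α a).σ ((α a).σ p) = p := fun a ha k p =>
    congrArg (fun v : N2 => v.σ p) (asq h ha k)
  have e23 := h.mul _ m2 _ m3
  obtain ⟨r, hr, r2, r4⟩ := reg (h.mem _ m2).1 (h.mem _ m3).1 (q _ m2 (by decide +kernel))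
    (q _ m3 (by decide +kernel))
    (fun p => congrArg (fun v : N2 => v.σ p) ((acm h m2 m3).2 (by decide +kernel)).eq)
    (by
      have := sq_half (h.mem _ m4).1
      rwa [show xe 2 4 = xe 2 3 * xe 3 4 * (xe 2 3 * xe 3 4) by decide +kernel, h.mul _ m4 _ m4])
    (fpf h1 h2 h3 h m2 (by decide +kernel) 0) (g _ m2 (by decide +kernel))
    (fpf h1 h2 h3 h m3 (by decide +kernel) 0) (g _ m3 (by decide +kernel))
    (by have := fpf h1 h2 h3 h (mul_mem m2 m3) (by decide +kernel) 0; rwa [e23] at this)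
    (by have := g _ (mul_mem m2 m3) (by decide +kernel); rwa [e23] at this)
  have k : ∀ (v : N2) (y : Perm P), v.σ * r = r * y →
      ((sec2 r)⁻¹ * v * (sec2 r)⁻¹⁻¹).σ = y := fun v y e => by
    rw [inv_inv]
    show r⁻¹ * v.σ * r = y
    rw [mul_assoc, e]; group
  exact ⟨(sec2 r)⁻¹, inv_mem (secm hr), k _ _ (by rw [e1]; exact Equiv.ext fun p => (hr.1 p).symm),
    k _ _ r2, k _ _ r4⟩

theorem last (h1 : Mod1) (h2 : Mod2) (h3 : Mod3) (h : Au β SE) (e1 : (β (xe 1 4)).σ = x 1)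
    (e2 : (β (xe 2 4)).σ = x 2) (e3 : (β (xe 3 4)).σ = x 4) : ∃ c ∈ SE,
    (∀ b ∈ AP, c * β b * c⁻¹ = b) ∧
      ((∀ a ∈ AA, c * β a * c⁻¹ = a) ∨ ∀ a ∈ AA, c * β a * c⁻¹ = dl 0 * a * (dl 0)⁻¹) := by
  have m : ∀ i, xe i 4 ∈ SE := by decide +kernel
  have n : ∀ j, xe 0 j ∈ EE := by decide +kernel
  have l := EE_SE h2
  have pp : ∀ i, (xe i 4)⁻¹ * β (xe i 4) ∈ PP := fun i => by
    show (xe i 4).σ⁻¹ * (β (xe i 4)).σ = 1
    rw [inv_mul_eq_one]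
    fin_cases i
    · exact (congrArg N2.σ (az h2 h3 h)).symm
    · exact e1.symm
    · exact e2.symm
    · exact e3.symm
    · exact (congrArg N2.σ (aem h).one).symm
  have k1 : ∀ j, ∃ c, β (xe 0 j) = xe 0 j * zp c := fun j => by
    have b := (aEE h1 h2 h3 h (n j)).1
    have k := h3.cPA (β (xe 0 j) * (xe 0 j)⁻¹) (mul_mem b (inv_mem (n j).1)) fun a ha => by
      refine (mem_centralizer_singleton_iff.1 (h2.gAA (centralizer {β (xe 0 j) * (xe 0 j)⁻¹})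
        (fun i => mem_centralizer_singleton_iff.2 ?_) ha) : Commute _ _).symm
      obtain ⟨c, hc⟩ := (show ∀ i j, ∃ c, xe i 4 * xe 0 j * (xe i 4)⁻¹ = xe 0 j * zp c by
        decide +kernel) i j
      have a1 := acon h (m i) (l (n j))
      rw [hc, h.mul _ (l (n j)) _ (by clear hc a1; revert c; decide +kernel), azp h2 h3 h] at a1
      have a2 := (h2.ab.1 _ (pp i) _ b).eq
      have a3 : xe i 4 * β (xe 0 j) * (xe i 4)⁻¹ = β (xe 0 j) * zp c := by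
        rw [← a1]
        calc xe i 4 * β (xe 0 j) * (xe i 4)⁻¹
            = xe i 4 * (β (xe 0 j) * ((xe i 4)⁻¹ * β (xe i 4))) * (β (xe i 4))⁻¹ := by group
          _ = _ := by rw [← a2]; group
      calc xe i 4 * (β (xe 0 j) * (xe 0 j)⁻¹)
          = xe i 4 * β (xe 0 j) * (xe i 4)⁻¹ * (xe i 4 * xe 0 j * (xe i 4)⁻¹)⁻¹ * xe i 4 := by group
        _ = _ := by rw [a3, hc]; group
    rcases k with k | k
    · exact ⟨0, by rw [mul_inv_eq_one] at k; rw [k]; exact (mul_one _).symm⟩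
    · exact ⟨1, by rw [mul_inv_eq_iff_eq_mul] at k; rw [k]; exact (h2.ab.2.2.2.2.2.2 _).eq.symm⟩
  obtain ⟨c1, k11⟩ := k1 1
  obtain ⟨c2, k12⟩ := k1 2
  obtain ⟨c3, k13⟩ := k1 3
  obtain ⟨a0A, a01, a02, a03⟩ := (show ∀ c1 c2 c3 : ZMod 2, ∀ a, a = xc c1 1 4 * xc c2 2 4 *
    xc c3 3 4 → a ∈ AA ∧ a * xe 0 1 * a⁻¹ = xe 0 1 * zp c1 ∧ a * xe 0 2 * a⁻¹ = xe 0 2 * zp c2 ∧
      a * xe 0 3 * a⁻¹ = xe 0 3 * zp c3 by simp only [forall_eq]; decide +kernel) c1 c2 c3 _ rfl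
  generalize xc c1 1 4 * xc c2 2 4 * xc c3 3 4 = a0 at a0A a01 a02 a03
  have lA : AA ≤ SE := AA_le_T0.trans (T0_SE h2)
  have zm : ∀ c, zp c ∈ SE ∧ zp c * zp c = 1 := by decide +kernel
  have f1 : ∀ j c, a0 * xe 0 j * a0⁻¹ = xe 0 j * zp c → β (xe 0 j) = xe 0 j * zp c →
      β a0 * β (xe 0 j) * (β a0)⁻¹ = xe 0 j := fun j c a b => by
    rw [acon h (lA a0A) (l (n j)), a, h.mul _ (l (n j)) _ (zm c).1, b, azp h2 h3 h, mul_assoc,
      (zm c).2, mul_one]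
  have f2 : ∀ a ∈ AA, β a0 * β a * (β a0)⁻¹ = β a := fun a ha => by
    rw [acon h (lA a0A) (lA ha), (h2.ab.2.2.1 _ a0A _ ha).eq, mul_inv_cancel_right]
  have f3 : ∀ b ∈ AP, β a0 * β b * (β a0)⁻¹ = b := fun b hb => by
    have := (h2.gAP (eqS (acj h (h.mem _ (lA a0A))) 1) (fun j => ⟨l (n j), by
      rw [one_mul, inv_one, mul_one]
      fin_cases j
      · exact f2 1 (one_mem _) |>.trans (aem h).one
      · exact f1 1 c1 a01 k11
      · exact f1 2 c2 a02 k12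
      · exact f1 3 c3 a03 k13
      · exact f2 z2 (by decide +kernel) |>.trans (az h2 h3 h)⟩) hb).2
    rwa [one_mul, inv_one, mul_one] at this
  have sq : ∀ i, (xe i 4 * ((xe i 4)⁻¹ * β (xe i 4))) ^ 2 = 1 := fun i => by
    rw [mul_inv_cancel_left, pow_two]; exact asq h (m i) (by revert i; decide +kernel)
  have cm : ∀ i j, Commute (xe i 4 * ((xe i 4)⁻¹ * β (xe i 4)))
      (xe j 4 * ((xe j 4)⁻¹ * β (xe j 4))) := fun i j => by
    rw [mul_inv_cancel_left, mul_inv_cancel_left]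
    exact (acm h (m i) (m j)).2 (by revert i j; decide +kernel)
  obtain ⟨e, he, g1, g2, g3⟩ := h3.cpl _ (pp 1) _ (pp 2) _ (pp 3) (sq 1) (sq 2) (sq 3) (cm 1 2)
    (cm 1 3) (cm 2 3)
  rw [mul_inv_cancel_left] at g1 g2 g3
  have g : ∀ a ∈ AA, β a = e * a * e⁻¹ := fun a ha => (h2.gAA (eqS h e) (fun i => ⟨m i, by
    fin_cases i
    · exact (az h2 h3 h).trans (by
        show z2 = e * z2 * e⁻¹
        rw [(h2.ab.2.2.2.2.2.2 e).eq, mul_inv_cancel_right])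
    · exact g1.symm
    · exact g2.symm
    · exact g3.symm
    · exact (aem h).one.trans (by
        show (1 : N2) = e * 1 * e⁻¹
        group)⟩) ha).2
  have fin : ∀ d ∈ PP, d⁻¹ * e ∈ EE → ∃ c ∈ SE, (∀ b ∈ AP, c * β b * c⁻¹ = b) ∧
      ∀ a ∈ AA, c * β a * c⁻¹ = d * a * d⁻¹ := fun d hd hde => by
    refine ⟨(d⁻¹ * e)⁻¹ * β a0, mul_mem (inv_mem (l hde)) (h.mem _ (lA a0A)), fun b hb => ?_,
      fun a ha => ?_⟩
    · have := (h2.ab.1 _ (inv_mem hde.1) _ hb.2).eq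
      calc _ = (d⁻¹ * e)⁻¹ * (β a0 * β b * (β a0)⁻¹) * (d⁻¹ * e) := by group
        _ = _ := by rw [f3 b hb, this]; group
    · have : (d⁻¹ * e)⁻¹ * e = d := by
        rw [mul_inv_rev, inv_inv, (h2.ab.1 _ (inv_mem he) _ hd).eq]; group
      calc _ = (d⁻¹ * e)⁻¹ * (β a0 * β a * (β a0)⁻¹) * (d⁻¹ * e) := by group
        _ = (d⁻¹ * e)⁻¹ * e * a * ((d⁻¹ * e)⁻¹ * e)⁻¹ := by rw [f2 a ha, g a ha]; group
        _ = _ := by rw [this]
  rcases h2.iPP e he with k | k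
  · obtain ⟨c, a1, a2, a3⟩ := fin 1 (one_mem _) (by rwa [inv_one, one_mul])
    exact ⟨c, a1, a2, Or.inl fun a ha => by rw [a3 a ha]; group⟩
  · obtain ⟨c, a1, a2, a3⟩ := fin (dl 0) (by decide +kernel) k
    exact ⟨c, a1, a2, Or.inr a3⟩

/-- Piece AU1. -/
theorem au1 (hB : Base.{u}) : Au1Stmt := fun α h => by
  obtain ⟨c, hc, e1, e2, e3⟩ := std hB.m1 hB.m2 hB.m3 h
  obtain ⟨c', hc', a1, a2⟩ := last hB.m1 hB.m2 hB.m3 (acj h hc) e1 e2 e3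
  have k : ∀ v, c' * c * α v * (c' * c)⁻¹ = c' * (c * α v * c⁻¹) * c'⁻¹ := fun v => by group
  refine ⟨c' * c, mul_mem hc' hc, fun e he => (hB.m2.nrm _).2.1 _ (aEE hB.m1 hB.m2 hB.m3 h he),
    fun b hb => (k b).trans (a1 b hb), a2.imp (fun a b hb => (k b).trans (a b hb))
      fun a b hb => (k b).trans (a b hb)⟩

end Cfsg.Agent.H33.KnAu1
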