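import Cfsg.Agent.H33.BcL2A
import Cfsg.Agent.H97.BcDefs
import Cfsg.Agent.H5.Gen3

/-! `R = [Q, α]` is quaternion or homocyclic. -/

set_option autoImplicit false
set_option linter.style.haveILetI false

namespace Cfsg.Agent.H33.Bc

open Cfsg Subgroup Cfsg.Agent.H97 Cfsg.Agent.H5 Cfsg.Agent.H97.Bc
open scoped commutatorElement

universe u

variable {G : Type*} [Group G] {Q : Subgroup G}

def RR (α : MulAut Q) : Subgroup G := closure {g | ∃ q ∈ Q, g = q⁻¹ * ext α q}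

def CC (α : MulAut Q) : Subgroup G where
  carrier := {q | q ∈ Q ∧ ext α q = q}
  one_mem' := ⟨one_mem _, (homOn_ext α).map_one⟩
  mul_mem' := fun ha hb => ⟨mul_mem ha.1 hb.1, by rw [homOn_ext α _ ha.1 _ hb.1, ha.2, hb.2]⟩
  inv_mem' := fun ha => ⟨inv_mem ha.1, by rw [(homOn_ext α).map_inv ha.1, ha.2]⟩

variable {α : MulAut Q}

theorem mem_RR {q : G} (hq : q ∈ Q) : q⁻¹ * ext α q ∈ RR α := subset_closure ⟨q, hq, rfl⟩

theorem RR_le {A : Subgroup G} (h : ∀ q ∈ Q, q⁻¹ * ext α q ∈ A) : RR α ≤ A :=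
  (closure_le _).2 (by rintro _ ⟨q, hq, rfl⟩; exact h q hq)

theorem RR_Q : RR α ≤ Q := RR_le fun _ hq => mul_mem (inv_mem hq) (ext_mem α hq)

theorem aR (r : G) (hr : r ∈ RR α) : ext α r ∈ RR α := by
  simpa using mul_mem hr (mem_RR (α := α) (RR_Q hr))

variable [Finite G]

theorem norm_RR {g : G} (h : ∀ q ∈ Q, g * (q⁻¹ * ext α q) * g⁻¹ ∈ RR α) :
    g ∈ normalizer (RR α : Set G) :=
  mem_normalizer_fintype fun _ hn => RR_le (A := (RR α).comap (MulAut.conj g).toMonoidHom) h hn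

theorem nQ : Q ≤ normalizer (RR α : Set G) := fun g hg => norm_RR fun q hq => by
  have := mul_mem (mem_RR (α := α) (mul_mem hq (inv_mem hg))) (inv_mem (mem_RR (inv_mem hg)))
  rw [homOn_ext α _ hq _ (inv_mem hg)] at this
  simpa [mul_assoc] using this

variable (hG : IsPGroup 2 G) (h3 : α ^ 3 = 1)
include h3

omit [Finite G] in
theorem ext3 (x : G) : ext α (ext α (ext α x)) = x := by
  rw [← ext_mul, ← ext_mul, ← pow_three', h3, ext_one]

include hG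

theorem dec {q : G} (hq : q ∈ Q) : ∃ r ∈ RR α, q * r ∈ CC α := by
  classical
  haveI : Fact (Nat.Prime 3) := ⟨Nat.prime_three⟩
  haveI : Fact (Nat.Prime 2) := ⟨Nat.prime_two⟩
  haveI := Fintype.ofFinite (RR α)
  let f : Function.End (RR α) := fun d => ⟨q⁻¹ * ext α (q * d), by
    rw [homOn_ext α _ hq _ (RR_Q d.2), ← mul_assoc]
    exact mul_mem (mem_RR hq) (aR _ d.2)⟩
  have h1 := Equiv.Perm.card_fixedPoints_modEq (f := f) (p := 3) (n := 1) (funext fun d =>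
    Subtype.ext (by
      change q⁻¹ * ext α (q * (q⁻¹ * ext α (q * (q⁻¹ * ext α (q * d))))) = d
      simp [ext3 h3]))
  obtain ⟨k, hk⟩ := (hG.to_subgroup (RR α)).exists_card_eq
  by_contra hc
  have h2 : f.fixedPoints = ∅ := Set.eq_empty_of_forall_notMem fun d hd =>
    hc ⟨d, d.2, mul_mem hq (RR_Q d.2), inv_mul_eq_iff_eq_mul.1 (congrArg Subtype.val hd)⟩
  rw [← Nat.card_eq_fintype_card, ← Nat.card_eq_fintype_card, h2, hk] at h1
  exact absurd (Nat.prime_three.dvd_of_dvd_pow (Nat.modEq_zero_iff_dvd.1 (by simpa using h1)))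
    (by norm_num)

theorem gen {A : Subgroup G} (h : ∀ r ∈ RR α, r⁻¹ * ext α r ∈ A) : RR α ≤ A := RR_le fun q hq => by
  obtain ⟨r, hr, -, e⟩ := dec hG h3 hq
  rw [homOn_ext α _ hq _ (RR_Q hr), ← eq_mul_inv_iff_mul_eq] at e
  have := h _ (inv_mem hr)
  rw [(homOn_ext α).map_inv (RR_Q hr)] at this
  simpa [e, mul_assoc] using this

theorem tri (h1 : α ≠ 1) (rk : (Phi (RR α)).relIndex (RR α) ∣ 2 ^ 3) :
    ∃ β : MulAut (RR α), Tri β ∧ ∀ y, (β y : G) = ext α y := by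
  obtain ⟨β, hβ⟩ := exists_restrict RR_Q (aR (α := α))
  have e : ∀ y, (β y : G) = ext α y := fun y => by rw [← hβ _ y.2, ext_coe]
  refine ⟨β, ⟨hG.to_subgroup _, fun y => Subtype.ext (by rw [e, e, e, ext3 h3]), fun A hA => ?_,
    (RR α).nontrivial_iff_ne_bot.2 fun k => h1 (aut_eq_one fun q hq => ?_),
    relIndex_Phi (RR α) ▸ rk⟩, e⟩
  · refine top_le_iff.1 fun y _ => (mem_map_iff_mem (RR α).subtype_injective).1
      (gen hG h3 (A := A.map (RR α).subtype) (fun r hr => ⟨_, hA ⟨r, hr⟩, ?_⟩) y.2)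
    simp [e]
  · exact (inv_mul_eq_one.1 (mem_bot.1 (k ▸ mem_RR hq))).symm

omit hG h3

/-- Piece LOC2. -/
theorem loc2 : Loc2Stmt.{u} := by
  intro G _ _ x S Q α L
  haveI : Fact (Nat.Prime 2) := ⟨Nat.prime_two⟩
  have hG := S.pG
  have hQ := hG.to_subgroup Q
  let R := RR α
  obtain ⟨β, T, e⟩ : ∃ β : MulAut R, Tri β ∧ ∀ y, (β y : G) = ext α y := tri hG L.a3 L.a1 (S.rk _)
  have mP : ∀ y : R, (y : G) ∈ Phi R ↔ y ∈ frattini R := fun y => mem_Phi y.2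
  have idx : (Phi R).relIndex R = 4 := (relIndex_Phi R).trans T.idx
  have aP : ∀ r ∈ Phi R, ext α r ∈ Phi R := fun r hr => by
    rw [← e ⟨r, Phi_le R hr⟩, ← ext_coe β]; exact ext_mem_Phi β hr
  have fpf : ∀ r ∈ R, r⁻¹ * ext α r ∈ Phi R → r ∈ Phi R := fun r hr h =>
    (mP ⟨r, hr⟩).2 (T.fpf ((mP _).1 (by simpa [e] using h)))
  have irr : ∀ A : Subgroup G, Phi R ≤ A → ¬ R ≤ A → (∀ a ∈ R, a ∈ A → ext α a ∈ A) →
      ∀ a ∈ R, a ∈ A → a ∈ Phi R := fun A h1 h2 h3 a ha haA =>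
    (mP ⟨a, ha⟩).2 (T.irr (K := A.subgroupOf R) (fun y hy => h1 ((mP y).2 hy))
      (fun k => h2 (subgroupOf_eq_top.1 k)) (fun k hk => mem_subgroupOf.2 (e k ▸ h3 k k.2 hk)) haA)
  have nle : ¬ R ≤ Phi R := fun k => by rw [relIndex_eq_one.2 k] at idx; omega
  have phiQ : ∀ r ∈ R, r ∈ Phi Q → r ∈ Phi R :=
    irr _ (Phi_mono hQ RR_Q) (fun k => by
      obtain ⟨j, hj⟩ := pow_eq_one_of_triv_frattini hQ α fun y =>
        (mem_Phi (y⁻¹ * α y).2).1 (by simpa using k (mem_RR y.2))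
      exact L.a1 ((pow_eq_one_iff_of_coprime (Nat.Coprime.pow_right j (by norm_num))).1 ⟨L.a3, hj⟩))
      fun a _ => ext_mem_Phi α
  have cyc : ∃ h ∈ CC α, ∀ q ∈ Q, ∃ r ∈ R, ∃ k : ℕ, q = r * h ^ k := by
    have hW : R ⊔ Phi Q ≤ Q := sup_le RR_Q (Phi_le Q)
    have i1 : (R ⊔ Phi Q).relIndex Q ∣ 2 := by
      have k1 := relIndex_mul_relIndex _ _ _ (le_sup_right : Phi Q ≤ R ⊔ Phi Q) hW
      have k2 := relIndex_le_of_le_right (H := Phi Q) (le_sup_left : R ≤ R ⊔ Phi Q)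
        FiniteIndex.index_ne_zero
      rw [← inf_relIndex_right, show Phi Q ⊓ R = Phi R from le_antisymm
        (fun r hr => phiQ r hr.2 hr.1) (le_inf (Phi_mono hQ RR_Q) (Phi_le R)), idx] at k2
      have k3 := Nat.le_of_dvd (by norm_num) (S.rk Q)
      have k4 : (R ⊔ Phi Q).relIndex Q ≠ 0 := FiniteIndex.index_ne_zero
      have k5 : (R ⊔ Phi Q).relIndex Q ≤ 2 := by nlinarith
      interval_cases (R ⊔ Phi Q).relIndex Q <;> simp_all
    obtain ⟨h, hh, k⟩ : ∃ h ∈ Q, Q ≤ R ⊔ Phi Q ⊔ zpowers h := by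
      by_cases k : Q ≤ R ⊔ Phi Q
      · exact ⟨1, one_mem _, k.trans le_sup_left⟩
      obtain ⟨h, h1, h2⟩ := SetLike.not_le_iff_exists.1 k
      exact ⟨h, h1, (sup_zpowers_eq_of_relIndex_dvd hW i1 h1 h2).ge⟩
    obtain ⟨r, hr, hc⟩ := dec hG L.a3 hh
    refine ⟨_, hc, fun q hq => (mem_sup_zpowers_iff_nat (nQ hc.1) (isOfFinOrder_of_finite _)).1
      ((eq_of_sup_Phi (sup_le RR_Q (zpowers_le.2 hc.1)) (k.trans (sup_le
        (sup_le_sup_right le_sup_left _) (zpowers_le.2 (mem_sup_left ?_))))).ge hq)⟩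
    exact (mul_mem_cancel_right (mem_sup_left hr)).1 (mem_sup_right (mem_zpowers _))
  have cm : ∀ a ∈ Q, ∀ b ∈ Q, a * b * a⁻¹ * b⁻¹ ∈ R := fun a ha b hb => by
    obtain ⟨h, hh, k⟩ := cyc
    obtain ⟨r, hr, i, rfl⟩ := k a ha
    obtain ⟨s, hs, j, rfl⟩ := k b hb
    rw [show r * h ^ i * (s * h ^ j) * (r * h ^ i)⁻¹ * (s * h ^ j)⁻¹ =
      r * (h ^ i * s * (h ^ i)⁻¹) * (h ^ j * r⁻¹ * (h ^ j)⁻¹) * s⁻¹ by group]
    exact mul_mem (mul_mem (mul_mem hr (nconj (pow_mem (nQ hh.1) i) hs))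
      (nconj (pow_mem (nQ hh.1) j) (inv_mem hr))) (inv_mem hs)
  have inv : ∀ g ∈ normalizer (Q : Set G), g ∉ Q → ∃ u ∈ Q, ∀ y ∈ Q,
      g * ext α (g⁻¹ * ext α y * g) * g⁻¹ = u * y * u⁻¹ := fun g hg hgQ => by
    obtain ⟨u, hu⟩ := L.inv g hg hgQ
    refine ⟨u, u.2, fun y hy => ?_⟩
    have k : ext (conjAut Q hg)⁻¹ (ext α y) = g⁻¹ * ext α y * g := by
      apply ext_injective (conjAut Q hg)
      rw [ext_ext_inv, ext_conjAut hg (nconj' hg (ext_mem α hy))]; group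
    rw [← ext_conjAut hg (ext_mem α (nconj' hg (ext_mem α hy))), ← k, ← ext_mul, ← ext_mul,
      ← ext_mul, ← hu, ext_apply _ hy]
    rfl
  have nR : normalizer (Q : Set G) ≤ normalizer (R : Set G) := fun g hg => by
    by_cases hgQ : g ∈ Q
    · exact nQ hgQ
    obtain ⟨u, hu, k⟩ := inv g hg hgQ
    refine norm_RR fun q hq => ?_
    have hy := ext_mem α⁻¹ (nconj hg hq)
    have k1 := k _ hy
    have := mul_mem (inv_mem (mem_RR (α := α) hy)) (cm _ (inv_mem hy) u hu)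
    rw [ext_ext_inv] at k1 this
    rw [show g⁻¹ * (g * q * g⁻¹) * g = q by group] at k1
    rw [show g * (q⁻¹ * ext α q) * g⁻¹ = (g * q * g⁻¹)⁻¹ * (g * ext α q * g⁻¹) by group, k1]
    simpa [mul_assoc] using this
  have nP : Q ≤ normalizer (Phi R : Set G) := nQ.trans (normalizer_le_normalizer_Phi R)
  have act : ∀ g ∈ Q, ∀ r ∈ R, ⁅g, r⁆ ∈ Phi R := fun g hg r hr => by
    obtain ⟨y, hy, hyP, -, k⟩ := exists_central_mod' hQ RR_Q nP nQ nle
    refine comm_swap_mem ((by_contra fun c => hyP (irr (cmod R Q (Phi R))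
      (le_cmod (RR_Q.trans nP) (Phi_le R) (comm_le_of_le_normalizer nP)) c (fun a ha hA => ?_) y hy
      ⟨hy, nP (RR_Q hy), fun g hg => (comm_mem_iff_conj (nP (RR_Q hy))).2 (k g hg)⟩) :
        R ≤ cmod R Q (Phi R)) hr |>.2.2 g hg)
    refine ⟨aR a ha, nP (RR_Q (aR a ha)), fun y hy => ?_⟩
    have := aP _ (hA.2.2 _ (ext_mem α⁻¹ hy))
    have ha' := RR_Q ha
    have hy' := ext_mem α⁻¹ hy
    rwa [commutatorElement_def, homOn_ext α _ (nconj (le_normalizer ha') hy') _ (inv_mem hy'),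
      (homOn_ext α).map_conj ha' hy', (homOn_ext α).map_inv hy', ext_ext_inv] at this
  refine ⟨R, CC α, L, RR_Q, fun _ => Iff.rfl, aR, nR, cyc, idx, phiQ, fpf,
    fun g hg => ⟨act g, fun h => by_contra fun hgQ => nle fun r hr => ?_⟩, ?_⟩
  · obtain ⟨u, hu, k⟩ := inv g hg hgQ
    have hs := nconj' (nR hg) (aR r hr)
    have hr2 := aR _ (aR r hr)
    have k1 := aP _ (h _ hs)
    rw [show ⁅g, g⁻¹ * ext α r * g⁆ = ext α r * (g⁻¹ * ext α r * g)⁻¹ by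
      rw [commutatorElement_def]; group, homOn_ext α _ (RR_Q (aR r hr)) _ (inv_mem (RR_Q hs)),
      (homOn_ext α).map_inv (RR_Q hs)] at k1
    have k2 := h _ (aR _ hs)
    rw [commutatorElement_def, k r (RR_Q hr)] at k2
    have k3 := nconj' (nP (RR_Q hr2))
      (mul_mem (mul_mem (inv_mem (act u hu r hr)) k2) (inv_mem k1))
    rw [← ext3 L.a3 r]
    refine aP _ (fpf _ hr2 ?_)
    rw [ext3 L.a3]
    simpa [commutatorElement_def, mul_assoc] using k3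
  obtain ⟨M, hM, hm⟩ := S.mx
  haveI := normal_of_index_eq_two hM
  rcases T.typ (T.meta (M := M.subgroupOf R) (hM ▸ relIndex_dvd_index_of_normal M R)
    (H71.isMetacyclic_of_injective hm (R.subtype.subgroupComap M) fun a b k =>
      Subtype.ext (Subtype.ext (congrArg Subtype.val k :)))) with ⟨m, h1, h2, h3, h4⟩ | ⟨z, h1, h2, h3, h4⟩
  · refine Or.inl ⟨m, h1, fun a ha b hb => congrArg Subtype.val (h2 ⟨a, ha⟩ ⟨b, hb⟩),
      le_bot_iff.1 fun r hr => congrArg Subtype.val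
        (T.fix h2 (y := ⟨r, hr.1⟩) (Subtype.ext ((e _).trans hr.2.2))),
      fun r hr k => (orderOf_coe (⟨r, hr⟩ : R)).trans (h3 _ (mt (mP _).2 k)),
      fun r hr => congrArg Subtype.val (h4 ⟨r, Phi_le R hr⟩ ((mP _).1 hr))⟩
  · refine Or.inr ⟨z, fun k => h1 (Subtype.ext k), congrArg Subtype.val h2, fun r => ⟨fun hr =>
      ((h3 ⟨r, Phi_le R hr⟩).1 ((mP _).1 hr)).imp (congrArg Subtype.val) (congrArg Subtype.val), ?_⟩,
      fun r hr k => congrArg Subtype.val (h4 ⟨r, hr⟩ (mt (mP _).2 k))⟩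
    rintro (rfl | rfl)
    exacts [one_mem _, (mP z).2 ((h3 z).2 (Or.inr rfl))]

end Cfsg.Agent.H33.Bc
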