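import Mathlib
import Cfsg.Agent.H73.BdDefs
import Cfsg.Agent.H11.Irr
import Cfsg.Agent.H12.Values

/-!
# The lattice inequality for the principal block
-/

set_option autoImplicit false

namespace Cfsg.Agent.H33.BdCh

open Cfsg Cfsg.Agent.H76.K0 Cfsg.Agent.H73.Bd

universe u

theorem ch (r : RStmt.{u}) (ineq : IneqStmt.{u}) : ChStmt.{u} := by
  intro G _ _ p _ M hM P
  classical
  have := Fintype.ofFinite G
  have hone : (⟨fun _ => 1, H11.isIrrCharacter_one⟩ : IrrCharacter G) ∈ principalBlock M G :=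
    fun g => ⟨0, 1, M.zero_mem, fun h => hM.2.1.ne_top ((Ideal.eq_top_iff_one M).2 h), by simp⟩
  refine ⟨inferInstance, ⟨_, hone⟩, by simp [charDegree], fun u n hn => ?_⟩
  choose m hm using hn
  have hq : (Nat.card P : ℂ) ≠ 0 := by exact_mod_cast (Nat.card_pos (α := P)).ne'
  have hG : (0 : ℝ) < Nat.card G := by exact_mod_cast Nat.card_pos (α := G)
  let θ : G → ℂ := ∑ i : principalBlock M G, n i • (i.1 : G → ℂ)
  have hθ : IsGeneralizedCharacter G θ :=
    H11.isGen_sum _ _ fun i _ => H11.isGen_zsmul (H11.isGen_of_irr i.1.2) _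
  have hint : ∀ g, IsIntegral ℤ (θ g / (Nat.card P : ℕ)) := by
    intro g
    obtain ⟨α, hα, e⟩ := r G p M hM P g
    rw [← finsum_set_coe_eq_finsum_mem, finsum_eq_sum_of_fintype] at e
    have h1 : θ g / (Nat.card P : ℕ) =
        (u : ℂ) * α + ∑ i : principalBlock M G, (m i : ℂ) * (i.1 : G → ℂ) g := by
      rw [div_eq_iff hq, add_mul, mul_assoc, mul_comm α, ← e, Finset.mul_sum, Finset.sum_mul,
        ← Finset.sum_add_distrib]
      simp only [θ, Finset.sum_apply, zsmul_eq_mul, Pi.mul_apply, Pi.intCast_apply]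
      refine Finset.sum_congr rfl fun i _ => ?_
      have h2 : (n i : ℂ) - u * (charDegree (i.1 : G → ℂ) : ℂ) = (Nat.card P : ℂ) * m i := by
        exact_mod_cast hm i
      linear_combination (i.1 : G → ℂ) g * h2
    rw [h1]
    exact ((isIntegral_algebraMap (R := ℤ) (A := ℂ) (x := u)).mul hα).add
      (IsIntegral.sum _ fun i _ =>
        (isIntegral_algebraMap (R := ℤ) (A := ℂ) (x := m i)).mul 
          (H12.IsGeneralizedCharacter_isIntegral (H11.isGen_of_irr i.1.2) g))
  have hin : ∀ j : principalBlock M G, classInner θ (j.1 : G → ℂ) = n j := by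
    intro j
    simp only [θ]
    rw [H11.classInner_sum_left, Finset.sum_eq_single j]
    · rw [H11.classInner_zsmul_left, H11.classInner_irr_self j.1.2, mul_one]
    · intro i _ hij
      rw [H11.classInner_zsmul_left, H11.classInner_irr_of_ne i.1.2 j.1.2
        (fun e => hij (Subtype.ext (Subtype.ext e))), mul_zero]
    · intro h
      exact absurd (Finset.mem_univ j) h
  have h1 : ∑ g, (θ g).re = Nat.card G * (n ⟨_, hone⟩ : ℝ) := by
    have h := hin ⟨_, hone⟩
    rw [H11.classInner_def, inv_mul_eq_iff_eq_mul₀ (H11.card_ne_zero G)] at h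
    simp only [map_one, mul_one] at h
    rw [← Complex.re_sum, h]
    simp
  have h2 : ∑ g, ‖θ g‖ ^ 2 = Nat.card G * ((∑ i, n i ^ 2 : ℤ) : ℝ) := by
    have h : classInner θ θ = ((∑ i, n i ^ 2 : ℤ) : ℂ) := by
      conv_lhs => rw [show classInner θ θ =
        classInner θ (∑ i : principalBlock M G, n i • (i.1 : G → ℂ)) from rfl]
      rw [H11.classInner_sum_right]
      push_cast
      refine Finset.sum_congr rfl fun i _ => ?_
      rw [H11.classInner_zsmul_right, hin, sq]
    rw [H11.classInner_self_eq] at h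
    have h' : (Nat.card G : ℝ)⁻¹ * ∑ g, ‖θ g‖ ^ 2 = ((∑ i, n i ^ 2 : ℤ) : ℝ) := by
      exact_mod_cast h
    rw [← h', mul_inv_cancel_left₀ hG.ne']
  have h3 := (ineq G θ hθ (Nat.card P) Nat.card_pos hint).1
  rw [h1, h2, mul_left_comm] at h3
  exact_mod_cast le_of_mul_le_mul_left h3 hG

end Cfsg.Agent.H33.BdCh
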