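import Cfsg.Agent.H9.C3Defs
import Cfsg.Agent.S0280

/-! The unitary groups of degree four and five do not have the required element orders. -/

set_option autoImplicit false

namespace Cfsg.Agent.H33.C3F5

open Subgroup Matrix Cfsg.Agent.H9.C3

universe u

theorem key {G : Type u} {H : Type} [Group G] [Group H] (hG : H9.C3.Ord G)
    (e : G ≃* H ⧸ center H) {x y w : H} {m : ℕ} (hc : Commute x y) (h3 : x ^ 3 = 1)
    (hm : y ^ m = 1) (h : ¬ 3 ∣ m) (hw : w * x ≠ x * w) : w * y ^ 6 = y ^ 6 * w := by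
  let π := QuotientGroup.mk' (center H)
  have : Fact (Nat.Prime 3) := ⟨Nat.prime_three⟩
  have o3 : orderOf (π x) = 3 := orderOf_eq_prime (by rw [← map_pow, h3, map_one]) fun e =>
    hw (mem_center_iff.1 ((QuotientGroup.eq_one_iff x).1 e) w)
  have d3 : 3 ∣ orderOf (π (x * y)) := by
    refine Dvd.dvd.trans ?_ (orderOf_pow_dvd m)
    rw [← map_pow, hc.mul_pow, hm, mul_one, map_pow, Nat.Coprime.orderOf_pow, o3]
    rw [o3]
    exact (Nat.Prime.coprime_iff_not_dvd Nat.prime_three).2 h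
  have h6 := hG.o6 (e.symm (π (x * y)))
  rw [e.symm.orderOf_eq] at h6
  have h7 : π (x * y) ^ 6 = 1 := orderOf_dvd_iff_pow_eq_one.1 (by
    rcases h6 d3 with e | e
    exacts [⟨2, by rw [e]⟩, ⟨1, by rw [e]⟩])
  rw [← map_pow, hc.mul_pow, show 6 = 3 * 2 from rfl, pow_mul, h3, one_pow, one_mul] at h7
  exact mem_center_iff.1 ((QuotientGroup.eq_one_iff _).1 h7) w

variable {F : Type} [Field F] {q n : ℕ}

/-- An element of the special unitary group. -/
def mk (M : Matrix (Fin n) (Fin n) F) (hd : M.det = 1)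
    (hu : ∀ u v, hermForm n F q (M *ᵥ u) (M *ᵥ v) = hermForm n F q u v) : SU n F q :=
  ⟨⟨M, hd⟩, hu⟩

/-- A diagonal element. -/
def dg (d : Fin n → F) (hd : ∏ i, d i = 1) (hu : ∀ i, d i ^ (q + 1) = 1) : SU n F q :=
  mk (diagonal d) (by rw [det_diagonal, hd]) fun u v => Finset.sum_congr rfl fun i _ => by
    rw [mulVec_diagonal, mulVec_diagonal, mul_pow]
    linear_combination u i * v i ^ q * hu i

/-- The matrix of an element. -/
def mt : SU n F q →* Matrix (Fin n) (Fin n) F := (slToMat n F).comp (SU n F q).subtype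

theorem mt_inj : Function.Injective (mt : SU n F q → _) :=
  fun _ _ h => Subtype.ext (Subtype.ext h)

theorem mt_mk (M : Matrix (Fin n) (Fin n) F) (hd) (hu) : mt (mk (q := q) M hd hu) = M := rfl

theorem mt_dg (d : Fin n → F) (hd) (hu) : mt (dg (q := q) d hd hu) = diagonal d := rfl

theorem dg_pow (d : Fin n → F) (hd) (hu) : dg (q := q) d hd hu ^ (q + 1) = 1 := mt_inj (by
  rw [map_pow, mt_dg, map_one, diagonal_pow, ← diagonal_one]
  exact congrArg diagonal (funext hu))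

theorem exists_a [Fintype F] (hF : Fintype.card F = q ^ 2) : ∃ a : Fˣ, orderOf a = q + 1 := by
  classical
  obtain ⟨g, hg⟩ := IsCyclic.exists_ofOrder_eq_natCard (α := Fˣ)
  refine ⟨_, orderOf_pow_orderOf_div (orderOf_pos g).ne' ?_⟩
  rw [hg, Nat.card_eq_fintype_card, Fintype.card_units, hF]
  exact ⟨q - 1, by simpa using Nat.sq_sub_sq q 1⟩

theorem d27 {q c N : ℕ} (h3 : q % 3 ≠ 1) (hq : 1 ≤ q) {k : ℕ} (hk : ¬ 3 ∣ k)
    (h : Nat.gcd k (q + 1) * N = q ^ 3 * ((q ^ 2 - 1) * (q ^ 3 + 1) * (q ^ 4 - 1)) * c) :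
    27 ∣ N := by
  refine Nat.Coprime.dvd_of_dvd_mul_left (m := Nat.gcd k (q + 1)) ?_ ?_
  · exact Nat.Coprime.pow_left 3 (Nat.Coprime.coprime_dvd_right (Nat.gcd_dvd_left _ _)
      ((Nat.Prime.coprime_iff_not_dvd Nat.prime_three).2 hk))
  rw [h]
  refine Dvd.dvd.mul_right ?_ _
  by_cases h0 : q % 3 = 0
  · exact Dvd.dvd.mul_right (pow_dvd_pow_of_dvd (Nat.dvd_of_mod_eq_zero h0) 3) _
  · have h2 : q % 3 = 2 := by omega
    refine Dvd.dvd.mul_left (mul_dvd_mul (mul_dvd_mul (a := 3) (c := 3) ?_ ?_) (c := 3) ?_) _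
    · exact (Nat.modEq_iff_dvd' (Nat.one_le_pow _ _ hq)).1 (by simp [Nat.ModEq, Nat.pow_mod, h2])
    · exact Nat.dvd_of_mod_eq_zero (by simp [Nat.add_mod, Nat.pow_mod, h2])
    · exact (Nat.modEq_iff_dvd' (Nat.one_le_pow _ _ hq)).1 (by simp [Nat.ModEq, Nat.pow_mod, h2])

theorem pre [Fintype F] (hF : Fintype.card F = q ^ 2) : 2 ≤ q ∧ ∃ a : F, a ≠ 0 ∧
    a ^ (q + 1) = 1 ∧ ∀ k : ℕ, a ^ k = 1 → q + 1 ∣ k := by
  have hq : 2 ≤ q := by
    by_contra h
    have := Fintype.one_lt_card (α := F)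
    rw [hF] at this
    interval_cases q <;> simp at this
  obtain ⟨a, ha⟩ := exists_a hF
  have ha' : (a : F) ^ (q + 1) = 1 := by rw [← Units.val_pow_eq_pow_val, ← ha, pow_orderOf_eq_one]; rfl
  have hd : ∀ k : ℕ, (a : F) ^ k = 1 → q + 1 ∣ k := fun k hk =>
    ha ▸ orderOf_dvd_of_pow_eq_one (Units.ext (by rwa [Units.val_pow_eq_pow_val]))
  have a0 := a.ne_zero
  exact ⟨hq, a, a0, ha', hd⟩

variable {G : Type u} [Group G] [Fintype F]

theorem u4 (hG : H9.C3.Ord G) (hF : Fintype.card F = q ^ 2) (ho : Odd q) (h8 : q % 8 ≠ 7)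
    (e : G ≃* PSU 4 F q) : False := by
  obtain ⟨hq, a, a0, ha', hd⟩ := pre hF
  by_cases h3 : q % 3 = 1
  swap
  · refine hG.n27 (d27 (c := q ^ 3) h3 (by omega) (k := 4) (by decide) ?_)
    have h := S0280.result hF 4 (by norm_num)
    refine Nat.eq_of_mul_eq_mul_left q.succ_pos ?_
    rw [Nat.card_congr e.toEquiv, mul_left_comm, h]
    simp [Finset.prod_range_succ, show ¬ Even 3 by decide]
    ring
  have := congrArg (fun g => mt g 2 3) (key hG e (m := q + 1)
    (x := mk !![0, 0, 1, 0; 1, 0, 0, 0; 0, 1, 0, 0; 0, 0, 0, 1]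
      (by simp [det_succ_row_zero, Fin.sum_univ_succ, Fin.succAbove])
      fun u v => by simp [hermForm, Fin.sum_univ_four, mulVec, dotProduct]; ring)
    (y := dg ![a, a, a, (a : F)⁻¹ ^ 3] (by simp [Fin.prod_univ_four]; field_simp)
      fun i => by fin_cases i <;> simp [ha', pow_right_comm _ 3 (q + 1)])
    (w := mk !![1, 0, 0, 0; 0, 1, 0, 0; 0, 0, 0, 1; 0, 0, -1, 0]
      (by simp [det_succ_row_zero, Fin.sum_univ_succ, Fin.succAbove])
      fun u v => by simp [hermForm, Fin.sum_univ_four, mulVec, dotProduct, ho.neg_pow]; ring)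
    (mt_inj (by
      rw [map_mul, map_mul, mt_mk, mt_dg]
      ext i j
      fin_cases i <;> fin_cases j <;> simp))
    (mt_inj (by
      rw [map_pow, mt_mk, map_one]
      ext i j
      fin_cases i <;> fin_cases j <;> simp [pow_succ, mul_apply, Fin.sum_univ_four]))
    (dg_pow _ _ _) (by omega) fun h => by
      have := congrArg (fun g => mt g 0 3) h
      simp [mt_mk, mul_apply, Fin.sum_univ_four] at this)
  simp only [map_mul, map_pow, mt_mk, mt_dg, diagonal_pow, mul_diagonal, diagonal_mul] at this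
  simp at this
  have h24 := hd 24 (by field_simp at this; linear_combination -this)
  have := Nat.le_of_dvd (by decide) h24
  obtain ⟨k, rfl⟩ := ho
  have : k ≤ 11 := by omega
  interval_cases k <;> omega

set_option maxHeartbeats 1000000 in
theorem u5 (hG : H9.C3.Ord G) (hF : Fintype.card F = q ^ 2) (ho : Odd q)
    (e : G ≃* PSU 5 F q) : False := by
  obtain ⟨hq, a, a0, ha', hd⟩ := pre hF
  by_cases h3 : q % 3 = 1
  swap
  · refine hG.n27 (d27 (c := q ^ 7 * (q ^ 5 + 1)) h3 (by omega) (k := 5) (by decide) ?_)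
    have h := S0280.result hF 5 (by norm_num)
    refine Nat.eq_of_mul_eq_mul_left q.succ_pos ?_
    rw [Nat.card_congr e.toEquiv, mul_left_comm, h]
    simp [Finset.prod_range_succ, show ¬ Even 3 by decide, show Even 4 by decide]
    ring
  have := congrArg (fun g => mt g 2 3) (key hG e (m := q + 1)
    (x := mk !![0, 0, 1, 0, 0; 1, 0, 0, 0, 0; 0, 1, 0, 0, 0; 0, 0, 0, 1, 0; 0, 0, 0, 0, 1]
      (by simp [det_succ_row_zero, Fin.sum_univ_succ, Fin.succAbove])
      fun u v => by simp [hermForm, Fin.sum_univ_five, mulVec, dotProduct]; ring)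
    (y := dg ![1, 1, 1, a, (a : F)⁻¹] (by simp [Fin.prod_univ_five, a0])
      fun i => by fin_cases i <;> simp [ha'])
    (w := mk !![1, 0, 0, 0, 0; 0, 1, 0, 0, 0; 0, 0, 0, 1, 0; 0, 0, -1, 0, 0; 0, 0, 0, 0, 1]
      (by simp [det_succ_row_zero, Fin.sum_univ_succ, Fin.succAbove])
      fun u v => by simp [hermForm, Fin.sum_univ_five, mulVec, dotProduct, ho.neg_pow]; ring)
    (mt_inj (by
      rw [map_mul, map_mul, mt_mk, mt_dg]
      ext i j
      fin_cases i <;> fin_cases j <;> simp))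
    (mt_inj (by
      rw [map_pow, mt_mk, map_one]
      ext i j
      fin_cases i <;> fin_cases j <;> simp [pow_succ, mul_apply, Fin.sum_univ_five]))
    (dg_pow _ _ _) (by omega) fun h => by
      have := congrArg (fun g => mt g 0 3) h
      simp [mt_mk, mul_apply, Fin.sum_univ_five] at this)
  simp only [map_mul, map_pow, mt_mk, mt_dg, diagonal_pow, mul_diagonal, diagonal_mul] at this
  simp at this
  have := Nat.le_of_dvd (by decide) (hd 6 this)
  obtain ⟨k, rfl⟩ := ho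
  omega

theorem f5 : F5Stmt.{u} := fun _ _ _ hG _ _ _ _ hF ho =>
  ⟨fun h8 ⟨e⟩ => u4 hG hF ho h8 e, fun ⟨e⟩ => u5 hG hF ho e⟩

end Cfsg.Agent.H33.C3F5
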