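import Cfsg.Agent.H96.D4Defs

/-! The invariant quartic form on `Q / Z` for `³D₄(q)`. -/

set_option autoImplicit false

namespace Cfsg.Agent.H33.D4K

open Cfsg.Agent.H96.DF

universe u

variable {F K : Type u} [Field F] [Field K] [Algebra F K] (C : Tri F K)

theorem bf_comm (v w : V F K) : bf C v w = bf C w v := by
  simp only [bf, mul_comm]; ring

theorem n3_12 (a b c : K) : n3 C a b c = n3 C b a c := by
  apply Tri.inj (K := K); simp only [n3]; d4n; ring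

theorem n3_23 (a b c : K) : n3 C a b c = n3 C a c b := by rw [n3, n3, C.cr_comm]

theorem c4_12 (a b c d : V F K) : c4 C a b c d = c4 C b a c d := by rw [c4, c4, C.cr_comm]

theorem c4_34 (a b c d : V F K) : c4 C a b c d = c4 C a b d c := by
  rw [c4, c4, C.cr_comm c.2.2.1]

theorem kap_12 (a b c d : V F K) : kap C a b c d = kap C b a c d := by
  simp only [kap]
  rw [bf_comm C b a, n3_12 C b.2.2.1 a.2.2.1 d.2.2.1, n3_12 C b.2.2.1 a.2.2.1 c.2.2.1,
    n3_12 C b.2.1 a.2.1 d.2.1, n3_12 C b.2.1 a.2.1 c.2.1, c4_12 C b a c d, c4_34 C c d b a]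
  ring

theorem kap_23 (a b c d : V F K) : kap C a b c d = kap C a c b d := by
  simp only [kap]
  rw [bf_comm C c b, n3_12 C c.2.2.1 b.2.2.1 d.2.2.1, n3_23 C a.2.2.1 c.2.2.1 b.2.2.1,
    n3_12 C c.2.1 b.2.1 d.2.1, n3_23 C a.2.1 c.2.1 b.2.1, c4_12 C c b a d, c4_34 C a d c b]
  ring

theorem kap_34 (a b c d : V F K) : kap C a b c d = kap C a b d c := by
  simp only [kap]
  rw [bf_comm C d c, n3_23 C b.2.2.1 d.2.2.1 c.2.2.1, n3_23 C a.2.2.1 d.2.2.1 c.2.2.1,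
    n3_23 C b.2.1 d.2.1 c.2.1, n3_23 C a.2.1 d.2.1 c.2.1, c4_12 C d c a b, c4_34 C a b d c]
  ring

theorem kap_l1 (b c d : V F K) : IsLinearMap F fun v => kap C v b c d where
  map_add v w := by
    simp only [kap, bf, n3, c4, Prod.fst_add, Prod.snd_add, Tri.cr_add, Tri.add_cr, add_mul,
      mul_add, map_add]
    ring
  map_smul r v := by
    simp only [kap, bf, n3, c4, Prod.smul_fst, Prod.smul_snd, Tri.cr_smul, Tri.smul_cr,
      smul_mul_assoc, mul_smul_comm, map_smul, smul_eq_mul]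
    ring

theorem kap_ml : ML4 (kap C) where
  l1 := kap_l1 C
  l2 a c d := by simpa only [kap_12 C a] using kap_l1 C a c d
  l3 a b d := by simpa only [kap_23 C a b, kap_12 C a] using kap_l1 C a b d
  l4 a b c := by simpa only [kap_34 C a b c, kap_23 C a b, kap_12 C a] using kap_l1 C a b c

set_option maxHeartbeats 4000000 in
theorem kap_rho (t : K) (a b c d : V F K) :
    kap C (ρ C t a) (ρ C t b) (ρ C t c) (ρ C t d) = kap C a b c d := by
  obtain ⟨a1, a2, a3, a4⟩ := a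
  obtain ⟨b1, b2, b3, b4⟩ := b
  obtain ⟨c1, c2, c3, c4'⟩ := c
  obtain ⟨d1, d2, d3, d4⟩ := d
  apply Tri.inj (K := K)
  simp only [kap, bf, n3, c4, ρ_apply, rmap]
  d4n
  ring

set_option maxHeartbeats 4000000 in
theorem kap_tor (k : Kˣ × Fˣ) (a b c d : V F K) :
    kap C (torV C k a) (torV C k b) (torV C k c) (torV C k d) =
      (C.N k.1 * (k.2 : F) ^ 2) ^ 2 * kap C a b c d := by
  obtain ⟨a1, a2, a3, a4⟩ := a
  obtain ⟨b1, b2, b3, b4⟩ := b
  obtain ⟨c1, c2, c3, c4'⟩ := c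
  obtain ⟨d1, d2, d3, d4⟩ := d
  apply Tri.inj (K := K)
  simp only [kap, bf, n3, c4, torV_apply, vmap]
  d4n
  ring

theorem gal_σ (θ : K ≃ₐ[F] K) (a : K) : C.σ (θ a) = θ (C.σ a) :=
  (C.aut_σ θ.toRingEquiv a).symm

theorem T_gal (θ : K ≃ₐ[F] K) (a : K) : C.T (θ a) = C.T a := by
  apply Tri.inj (K := K)
  rw [C.hT, gal_σ, gal_σ, ← map_add, ← map_add, ← C.hT, AlgEquiv.commutes]

theorem cr_gal (θ : K ≃ₐ[F] K) (a b : K) : C.cr (θ a) (θ b) = θ (C.cr a b) := by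
  simp only [Tri.cr, gal_σ, map_add, map_mul]

theorem kap_gal (θ : K ≃ₐ[F] K) (a b c d : V F K) :
    kap C (galV θ a) (galV θ b) (galV θ c) (galV θ d) = kap C a b c d := by
  simp only [kap, bf, n3, c4, galV_apply, cr_gal, ← map_mul, T_gal]

theorem kap_diag (v : V F K) : kap C v v v v = 3 * (bf C v v ^ 2 + 16 * v.1 * C.N v.2.2.1 +
    16 * v.2.2.2 * C.N v.2.1 - 16 * C.T (C.sh v.2.1 * C.sh v.2.2.1)) := by
  apply Tri.inj (K := K)
  simp only [kap, bf, n3, c4]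
  d4n
  ring

theorem kap_e0 (w : V F K) : kap C e0 e0 w w = 2 * om C e0 w ^ 2 := by
  simp only [kap, bf, n3, c4, om, e0, Tri.cr_zero, Tri.zero_cr, mul_zero, zero_mul, map_zero]
  ring

theorem kap_t0 (v w : V F K) : kap C e0 v w w - 2 * om C e0 w * om C v w =
    6 * v.2.2.2 * w.1 * w.2.2.2 - 2 * v.2.2.2 * C.T (w.2.1 * w.2.2.1) -
      4 * w.2.2.2 * C.T (v.2.2.1 * w.2.1) + 4 * C.T (v.2.2.1 * C.sh w.2.2.1) := by
  apply Tri.inj (K := K)
  simp only [kap, bf, n3, c4, om, e0]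
  d4n
  ring

theorem kap_t3 (v w : V F K) : kap C e3 v w w - 2 * om C e3 w * om C v w =
    6 * v.1 * w.1 * w.2.2.2 - 2 * v.1 * C.T (w.2.1 * w.2.2.1) -
      4 * w.1 * C.T (v.2.1 * w.2.2.1) + 4 * C.T (v.2.1 * C.sh w.2.1) := by
  apply Tri.inj (K := K)
  simp only [kap, bf, n3, c4, om, e3]
  d4n
  ring

theorem kap_wx (v : V F K) (s : K) : kap C v v (0, s, 0, 0) (0, s, 0, 0) - 2 * om C v (0, s, 0, 0) ^ 2 =
    8 * C.T ((v.2.2.2 • v.2.1 - C.sh v.2.2.1) * C.sh s) := by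
  apply Tri.inj (K := K)
  simp only [kap, bf, n3, c4, om]
  d4n
  ring

theorem kap_wy (v : V F K) (s : K) : kap C v v (0, 0, s, 0) (0, 0, s, 0) - 2 * om C v (0, 0, s, 0) ^ 2 =
    8 * C.T ((v.1 • v.2.2.1 - C.sh v.2.1) * C.sh s) := by
  apply Tri.inj (K := K)
  simp only [kap, bf, n3, c4, om]
  d4n
  ring

theorem kap_wxy (a u : F) (s r : K) : kap C (a, 0, 0, u) (a, 0, 0, u) (0, s, r, 0) (0, s, r, 0) -
    2 * om C (a, 0, 0, u) (0, s, r, 0) ^ 2 = -4 * a * u * C.T (s * r) := by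
  simp only [kap, bf, n3, c4, om, Tri.cr_zero, Tri.zero_cr, mul_zero, zero_mul, map_zero,
    mul_comm r s]
  ring

variable [Finite K]

theorem eq_zero_of_sh (h2 : (2 : F) ≠ 0) {x : K} (h : ∀ s, C.T (x * C.sh s) = 0) : x = 0 := by
  by_contra hx
  refine one_ne_zero (C.cr_eq_zero_odd h2 hx (b := 1) (C.T_nd fun r => ?_))
  have := h (1 + r)
  rw [C.sh_add, mul_add, mul_add, map_add, map_add, h, h, zero_add, add_zero, C.T_cr] at this
  exact this

theorem eight (h2 : (2 : F) ≠ 0) : (8 : F) ≠ 0 := by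
  rw [show (8 : F) = 2 ^ 3 by norm_num]; exact pow_ne_zero _ h2

theorem four (h2 : (2 : F) ≠ 0) : (4 : F) ≠ 0 := by
  rw [show (4 : F) = 2 ^ 2 by norm_num]; exact pow_ne_zero _ h2

theorem crit (h2 : (2 : F) ≠ 0) (c : F) (v : V F K)
    (h : ∀ w, kap C v v w w + c * v.2.2.2 ^ 2 * w.2.2.2 ^ 2 = 2 * om C v w ^ 2) :
    (∃ a : F, v = a • e0) ∨ (c = 0 ∧ ∃ t, ∃ a : F, v = a • ρ C t e3) := by
  have key : ∀ v : V F K,
      (∀ w, kap C v v w w + c * v.2.2.2 ^ 2 * w.2.2.2 ^ 2 = 2 * om C v w ^ 2) →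
      v.2.2.2 • v.2.1 = C.sh v.2.2.1 ∧ v.1 • v.2.2.1 = C.sh v.2.1 := fun v h =>
    ⟨sub_eq_zero.1 (eq_zero_of_sh C h2 fun s => (mul_eq_zero.1 (by
        rw [← kap_wx]; linear_combination h (0, s, 0, 0))).resolve_left (eight h2)),
      sub_eq_zero.1 (eq_zero_of_sh C h2 fun s => (mul_eq_zero.1 (by
        rw [← kap_wy]; linear_combination h (0, 0, s, 0))).resolve_left (eight h2))⟩
  by_cases hu : v.2.2.2 = 0
  · obtain ⟨h3, h4⟩ := key v h
    rw [hu, zero_smul, eq_comm, C.sh_eq_zero] at h3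
    rw [h3, smul_zero, eq_comm, C.sh_eq_zero] at h4
    exact .inl ⟨v.1, Prod.ext (by simp [e0]) (Prod.ext (by simp [e0, h4])
      (Prod.ext (by simp [e0, h3]) (by simp [e0, hu])))⟩
  right
  obtain ⟨t, ht⟩ : ∃ t, t = v.2.2.2⁻¹ • v.2.2.1 := ⟨_, rfl⟩
  obtain ⟨v', hv⟩ : ∃ v', v' = ρ C (-t) v := ⟨_, rfl⟩
  have e : v = ρ C t v' := by
    rw [hv, ρ_apply, ρ_apply, rmap_rmap, add_neg_cancel, rmap_zero]
  have u' : v'.2.2.2 = v.2.2.2 := by rw [hv]; rfl
  have y' : v'.2.2.1 = 0 := by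
    rw [hv, ρ_apply, rmap, ht]
    simp [smul_smul, hu]
  have h' : ∀ w, kap C v' v' w w + c * v'.2.2.2 ^ 2 * w.2.2.2 ^ 2 = 2 * om C v' w ^ 2 := fun w => by
    have := h (ρ C t w)
    rw [e, kap_rho, om_ρ] at this
    exact this
  have x' : v'.2.1 = 0 := by
    have := (key v' h').1
    rw [y', C.sh_zero, smul_eq_zero, u'] at this
    exact this.resolve_left hu
  obtain ⟨a, x, y, u⟩ := v'
  dsimp only at u' y' x'
  subst x' y' u'
  have a' : a = 0 := by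
    obtain ⟨r, hr⟩ := C.T_onto (one_ne_zero (α := K)) 1
    have h5 := kap_wxy C a v.2.2.2 1 r
    have h6 := h' (0, 1, r, 0)
    rw [hr] at h5
    have : 4 * (a * v.2.2.2) = 0 := by linear_combination h5 - h6
    exact (mul_eq_zero.1 ((mul_eq_zero.1 this).resolve_left (four h2))).resolve_right hu
  subst a'
  refine ⟨?_, t, v.2.2.2, ?_⟩
  · have := h' (0, 0, 0, 1)
    simpa [kap, bf, n3, c4, om, hu] using this
  · rw [← map_smul]
    refine e.trans (congrArg _ ?_)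
    simp [e3]

theorem tan0 (h2 : (2 : F) ≠ 0) (v : V F K) :
    (∀ w, kap C e0 v w w = 2 * om C e0 w * om C v w) ↔ v.2.2.1 = 0 ∧ v.2.2.2 = 0 := by
  constructor
  · intro h
    have hy : v.2.2.1 = 0 := C.T_nd fun s => by
      have h1 := kap_t0 C v (0, s, 0, 1)
      rw [h, sub_self] at h1
      simpa [four h2] using h1
    obtain ⟨r, hr⟩ := C.T_onto (one_ne_zero (α := K)) 1
    have h1 := kap_t0 C v (0, 1, r, 0)
    rw [h, sub_self, hy] at h1
    dsimp only at h1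
    rw [hr] at h1
    exact ⟨hy, by simpa [h2] using h1⟩
  · rintro ⟨h3, h4⟩ w
    rw [← sub_eq_zero, kap_t0, h3, h4]
    simp

theorem tan3 (h2 : (2 : F) ≠ 0) (v : V F K) :
    (∀ w, kap C e3 v w w = 2 * om C e3 w * om C v w) ↔ v.1 = 0 ∧ v.2.1 = 0 := by
  constructor
  · intro h
    have hy : v.2.1 = 0 := C.T_nd fun s => by
      have h1 := kap_t3 C v (1, 0, s, 0)
      rw [h, sub_self] at h1
      simpa [four h2] using h1
    obtain ⟨r, hr⟩ := C.T_onto (one_ne_zero (α := K)) 1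
    have h1 := kap_t3 C v (0, 1, r, 0)
    rw [h, sub_self, hy] at h1
    dsimp only at h1
    rw [hr] at h1
    exact ⟨by simpa [h2] using h1, hy⟩
  · rintro ⟨h3, h4⟩ w
    rw [← sub_eq_zero, kap_t3, h3, h4]
    simp

theorem kapS : Kap C where
  ml := kap_ml C
  rho := kap_rho C
  tor := kap_tor C
  gal := kap_gal C
  diag h v := by rw [kap_diag, h, zero_mul]
  e0 := kap_e0 C
  crit := crit C
  tan0 := tan0 C
  tan3 := tan3 C

end Cfsg.Agent.H33.D4K
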