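import Mathlib

/-! Counting tools for minimal degree arguments. -/

set_option autoImplicit false
set_option linter.unusedSectionVars false

namespace Cfsg.Agent.H33

open Finset

/-- An element of prime order fixes every point of an invariant set with fewer than `p` points. -/
theorem smul_eq_of_card_lt {G α : Type*} [Group G] [MulAction G α] {p : ℕ} (hp : p.Prime) {g : G}
    (hg : g ^ p = 1) (S : Finset α) (hS : ∀ a ∈ S, g • a ∈ S) (hc : S.card < p) {a : α}
    (ha : a ∈ S) : g • a = a := by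
  classical
  by_contra hne
  have h1 : MulAction.period g a ∣ p := by
    rw [← MulAction.pow_smul_eq_iff_period_dvd, hg, one_smul]
  have h2 : MulAction.period g a = p := by
    rcases (Nat.dvd_prime hp).1 h1 with h | h
    · exact absurd (MulAction.period_eq_one_iff.1 h) hne
    · exact h
  have hmem : ∀ k : ℕ, g ^ k • a ∈ S := by
    intro k
    induction k with
    | zero => simpa using ha
    | succ k ih => rw [pow_succ', mul_smul]; exact hS _ ih
  have hinj : Set.InjOn (fun k : ℕ => g ^ k • a) (range p : Set ℕ) := by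
    have key : ∀ i j : ℕ, i ≤ j → j < p → g ^ i • a = g ^ j • a → i = j := by
      intro i j hij hj h
      obtain ⟨k, rfl⟩ := Nat.exists_eq_add_of_le hij
      rw [pow_add, mul_smul, smul_left_cancel_iff] at h
      have := MulAction.pow_smul_eq_iff_period_dvd.1 h.symm
      rw [h2] at this
      have := Nat.eq_zero_of_dvd_of_lt this (by omega)
      omega
    intro i hi j hj h
    simp only [coe_range, Set.mem_Iio] at hi hj
    rcases le_total i j with hij | hij
    · exact key i j hij hj h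
    · exact (key j i hij hi h.symm).symm
  have := card_le_card_of_injOn (t := S) _ (fun k _ => hmem k) hinj
  rw [card_range] at this
  omega

/-- Double counting for an invariant relation between two transitive actions. -/
theorem double_count {G α Ω : Type*} [Group G] [MulAction G α] [MulAction G Ω] [Fintype Ω]
    (X : Finset α) (ρ : α → Ω → Prop) [∀ a ω, Decidable (ρ a ω)]
    (hρ : ∀ (g : G) a ω, ρ a ω → ρ (g • a) (g • ω)) (hX : ∀ (g : G), ∀ a ∈ X, g • a ∈ X)
    {a₀ : α} (ha : ∀ a ∈ X, ∃ g : G, g • a₀ = a) {ω₀ : Ω} (hω : ∀ ω, ∃ g : G, g • ω₀ = ω) :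
    X.card * (univ.filter (fun ω => ρ a₀ ω)).card =
      Fintype.card Ω * (X.filter (fun a => ρ a ω₀)).card := by
  classical
  have hρ' : ∀ (g : G) a ω, ρ (g • a) (g • ω) ↔ ρ a ω := fun g a ω =>
    ⟨fun h => by simpa using hρ g⁻¹ _ _ h, hρ g a ω⟩
  have h1 : ∀ a ∈ X, (univ.filter (fun ω => ρ a ω)).card = (univ.filter (fun ω => ρ a₀ ω)).card := by
    intro a haX
    obtain ⟨g, rfl⟩ := ha a haX
    symm
    apply card_bij (fun ω _ => g • ω)
    · intro ω hω; simpa [hρ'] using hω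
    · intro ω _ ω' _ h; exact smul_left_cancel g h
    · intro ω hω
      refine ⟨g⁻¹ • ω, ?_, by simp⟩
      rw [mem_filter] at hω ⊢
      exact ⟨mem_univ _, by rw [← hρ' g, smul_inv_smul]; exact hω.2⟩
  have h2 : ∀ ω ∈ (univ : Finset Ω),
      (X.filter (fun a => ρ a ω)).card = (X.filter (fun a => ρ a ω₀)).card := by
    intro ω _
    obtain ⟨g, rfl⟩ := hω ω
    symm
    apply card_bij (fun a _ => g • a)
    · intro a ha
      rw [mem_filter] at ha ⊢
      exact ⟨hX g a ha.1, hρ g _ _ ha.2⟩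
    · intro a _ a' _ h; exact smul_left_cancel g h
    · intro a ha
      refine ⟨g⁻¹ • a, ?_, by simp⟩
      rw [mem_filter] at ha ⊢
      exact ⟨hX _ a ha.1, by rw [← hρ' g, smul_inv_smul]; exact ha.2⟩
  rw [← card_univ, ← smul_eq_mul, ← smul_eq_mul, ← sum_eq_card_nsmul h1, ← sum_eq_card_nsmul h2]
  simp only [card_filter]
  exact sum_comm

/-- A set of non-zero vectors closed under non-zero scalars: counting its points. -/
theorem card_eq_mul_card_image_span {F V : Type*} [Field F] [Fintype F] [AddCommGroup V]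
    [Module F V] [DecidableEq (Submodule F V)] (X : Finset V) (h0 : (0 : V) ∉ X)
    (hX : ∀ v ∈ X, ∀ c : F, c ≠ 0 → c • v ∈ X) :
    X.card = (Fintype.card F - 1) * (X.image (fun v => F ∙ v)).card := by
  classical
  rw [card_eq_sum_card_image (fun v => F ∙ v) X, mul_comm, ← smul_eq_mul, ← sum_eq_card_nsmul]
  intro p hp
  obtain ⟨v, hv, rfl⟩ := mem_image.1 hp
  have hv0 : v ≠ 0 := fun h => h0 (h ▸ hv)
  rw [← card_univ, ← card_erase_of_mem (mem_univ (0 : F))]
  symm
  apply card_bij (fun c _ => c • v)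
  · intro c hc
    have hc0 := ne_of_mem_erase hc
    rw [mem_filter]
    exact ⟨hX v hv c hc0, Submodule.span_singleton_smul_eq (Ne.isUnit hc0) v⟩
  · intro c _ c' _ h; exact smul_left_injective F hv0 h
  · intro w hw
    rw [mem_filter] at hw
    have : w ∈ F ∙ v := hw.2 ▸ Submodule.mem_span_singleton_self w
    obtain ⟨c, rfl⟩ := Submodule.mem_span_singleton.1 this
    refine ⟨c, mem_erase.2 ⟨?_, mem_univ _⟩, rfl⟩
    rintro rfl
    exact h0 (by simpa using hw.1)

theorem sub_one_dvd_card {F V : Type*} [Field F] [Fintype F] [AddCommGroup V]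
    [Module F V] (X : Finset V) (h0 : (0 : V) ∉ X)
    (hX : ∀ v ∈ X, ∀ c : F, c ≠ 0 → c • v ∈ X) : Fintype.card F - 1 ∣ X.card := by
  classical
  exact ⟨_, card_eq_mul_card_image_span X h0 hX⟩

section fam

variable {Ω Y : Type*} [Fintype Ω] [Fintype Y]

open Classical in
/-- The number of classes of `o` that meet the set of points with property `P`. -/
noncomputable def ncl (o : Ω → Finset Ω) (P : Ω → Prop) : ℕ := ((univ.filter P).image o).card

open Classical in
/-- Counting the points of a union of orbits through the characters that occur in each orbit. -/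
theorem card_filter_eq_sum_ncl (o : Ω → Finset Ω) (ho : ∀ ω, ω ∈ o ω)
    (ho' : ∀ ω, ∀ ω' ∈ o ω, o ω' = o ω) (P : Ω → Prop) (hP : ∀ ω, ∀ ω' ∈ o ω, P ω → P ω')
    (A : Ω → Y → Prop) (hA : ∀ ω, ∀ ω' ∈ o ω, ∀ y, A ω y → A ω' y)
    (hc : ∀ ω, (o ω).card = (univ.filter (A ω)).card) :
    (univ.filter P).card = ∑ y, ncl o (fun ω => P ω ∧ A ω y) := by
  have hsym : ∀ ω ω', o ω' = o ω → ω' ∈ o ω := fun ω ω' h => h ▸ ho ω'
  rw [card_eq_sum_card_image o (univ.filter P)]
  have h1 : ∀ O ∈ (univ.filter P).image o, ((univ.filter P).filter (fun ω => o ω = O)).card =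
      ∑ y, if ∃ ω, o ω = O ∧ A ω y then 1 else 0 := by
    intro O hO
    obtain ⟨ω, hω, rfl⟩ := mem_image.1 hO
    have : (univ.filter P).filter (fun ω' => o ω' = o ω) = o ω := by
      ext ω'
      simp only [mem_filter, mem_univ, true_and] at hω ⊢
      exact ⟨fun h => hsym _ _ h.2, fun h => ⟨hP ω ω' h hω, ho' ω ω' h⟩⟩
    rw [this, hc, card_filter]
    refine sum_congr rfl (fun y _ => ?_)
    congr 1
    apply propext
    exact ⟨fun h => ⟨ω, rfl, h⟩, fun ⟨ω', h1, h2⟩ => hA ω' ω (hsym _ _ h1.symm) y h2⟩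
  rw [sum_congr rfl h1, sum_comm]
  refine sum_congr rfl (fun y _ => ?_)
  rw [← card_filter, ncl]
  congr 1
  ext O
  simp only [mem_filter, mem_image, mem_univ, true_and]
  constructor
  · rintro ⟨⟨ω, hω, rfl⟩, ω', h1, h2⟩
    exact ⟨ω', ⟨hP ω ω' (hsym _ _ h1) hω, h2⟩, h1⟩
  · rintro ⟨ω, ⟨h1, h2⟩, rfl⟩
    exact ⟨⟨ω, h1, rfl⟩, ω, rfl, h2⟩

open Classical in
theorem card_filter_le_mul_ncl (o : Ω → Finset Ω) (ho : ∀ ω, ω ∈ o ω)
    (P : Ω → Prop) {a : ℕ} (ha : ∀ ω, P ω → (o ω).card ≤ a) :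
    (univ.filter P).card ≤ a * ncl o P := by
  rw [ncl]
  apply card_le_mul_card_image
  intro O hO
  obtain ⟨ω, hω, rfl⟩ := mem_image.1 hO
  refine le_trans (card_le_card ?_) (ha ω (mem_filter.1 hω).2)
  intro ω' hω'
  rw [← (mem_filter.1 hω').2]
  exact ho ω'

open Classical in
theorem card_filter_eq_mul_ncl (o : Ω → Finset Ω) (ho : ∀ ω, ω ∈ o ω)
    (ho' : ∀ ω, ∀ ω' ∈ o ω, o ω' = o ω) (P : Ω → Prop) (hP : ∀ ω, ∀ ω' ∈ o ω, P ω → P ω')
    {a : ℕ} (ha : ∀ ω, P ω → (o ω).card = a) :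
    (univ.filter P).card = a * ncl o P := by
  rw [card_eq_sum_card_image o (univ.filter P), ncl, mul_comm, ← smul_eq_mul, ← sum_eq_card_nsmul]
  intro O hO
  obtain ⟨ω, hω, rfl⟩ := mem_image.1 hO
  rw [← ha ω (mem_filter.1 hω).2]
  congr 1
  ext ω'
  simp only [mem_filter, mem_univ, true_and] at hω ⊢
  exact ⟨fun h => h.2 ▸ ho ω', fun h => ⟨hP ω ω' h hω, ho' ω ω' h⟩⟩

theorem ncl_mono (o : Ω → Finset Ω) {P P' : Ω → Prop} (h : ∀ ω, P ω → P' ω) :
    ncl o P ≤ ncl o P' := by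
  classical
  unfold ncl
  apply card_le_card
  intro O hO
  simp only [mem_image, mem_filter, mem_univ, true_and] at hO ⊢
  obtain ⟨ω, hω, rfl⟩ := hO
  exact ⟨ω, h ω hω, rfl⟩

theorem ncl_congr (o : Ω → Finset Ω) {P P' : Ω → Prop} (h : ∀ ω, P ω ↔ P' ω) :
    ncl o P = ncl o P' :=
  le_antisymm (ncl_mono o fun ω => (h ω).1) (ncl_mono o fun ω => (h ω).2)

theorem ncl_pos (o : Ω → Finset Ω) {P : Ω → Prop} {ω : Ω} (h : P ω) : 0 < ncl o P := by
  classical
  unfold ncl
  rw [card_pos]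
  refine ⟨o ω, ?_⟩
  simp only [mem_image, mem_filter, mem_univ, true_and]
  exact ⟨ω, h, rfl⟩

theorem ncl_eq_zero (o : Ω → Finset Ω) {P : Ω → Prop} (h : ncl o P = 0) (ω : Ω) : ¬ P ω :=
  fun h' => (ncl_pos o h').ne' h

theorem ncl_succ_le (o : Ω → Finset Ω) (ho : ∀ ω, ω ∈ o ω) {P P' : Ω → Prop}
    (h : ∀ ω, P ω → P' ω) {ω₀ : Ω} (h0 : P' ω₀) (h1 : ∀ ω, P ω → ω₀ ∉ o ω) :
    ncl o P + 1 ≤ ncl o P' := by
  classical
  unfold ncl
  apply card_lt_card
  rw [ssubset_iff_of_subset]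
  · refine ⟨o ω₀, ?_, ?_⟩
    · simp only [mem_image, mem_filter, mem_univ, true_and]
      exact ⟨ω₀, h0, rfl⟩
    · simp only [mem_image, mem_filter, mem_univ, true_and]
      rintro ⟨ω, hω, he⟩
      exact h1 ω hω (he ▸ ho ω₀)
  · intro O hO
    simp only [mem_image, mem_filter, mem_univ, true_and] at hO ⊢
    obtain ⟨ω, hω, rfl⟩ := hO
    exact ⟨ω, h ω hω, rfl⟩

/-- Transport of classes along a permutation. -/
theorem ncl_le_of_equiv (o o' : Ω → Finset Ω) (e : Ω ≃ Ω)
    (he : ∀ ω ω', e ω' ∈ o' (e ω) ↔ ω' ∈ o ω) {P P' : Ω → Prop} (h : ∀ ω, P ω → P' (e ω)) :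
    ncl o P ≤ ncl o' P' := by
  classical
  unfold ncl
  have key : ∀ ω, (o ω).map e.toEmbedding = o' (e ω) := by
    intro ω
    ext ω'
    obtain ⟨ω', rfl⟩ := e.surjective ω'
    rw [he]
    exact mem_map' _
  apply card_le_card_of_injOn (fun O => O.map e.toEmbedding)
  · intro O hO
    simp only [coe_image, coe_filter, mem_univ, true_and, Set.mem_image, Set.mem_ofPred_eq] at hO ⊢
    obtain ⟨ω, hω, rfl⟩ := hO
    exact ⟨e ω, h ω hω, (key ω).symm⟩
  · intro O _ O' _ h
    exact map_injective _ h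

/-- An element of prime order `p` that permutes fewer than `p` classes fixes each of them. -/
theorem smul_mem_of_ncl_lt {G : Type*} [Group G] [MulAction G Ω] (o : Ω → Finset Ω)
    (ho : ∀ ω, ω ∈ o ω) {p : ℕ} (hp : p.Prime) {g : G} (hg : g ^ p = 1)
    (he : ∀ ω ω', g • ω' ∈ o (g • ω) ↔ ω' ∈ o ω) {P : Ω → Prop} (h : ∀ ω, P ω → P (g • ω))
    (hc : ncl o P < p) {ω : Ω} (hω : P ω) : g • ω ∈ o ω := by
  classical
  open scoped Pointwise in
  have key : ∀ ω, g • o ω = o (g • ω) := by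
    intro ω
    ext ω'
    rw [← smul_inv_smul g ω', he, smul_mem_smul_finset_iff]
  open scoped Pointwise in
  have := smul_eq_of_card_lt hp hg ((univ.filter P).image o) (by
    intro O hO
    simp only [mem_image, mem_filter, mem_univ, true_and] at hO ⊢
    obtain ⟨ω, hω, rfl⟩ := hO
    exact ⟨g • ω, h ω hω, (key ω).symm⟩) (by unfold ncl at hc; convert hc) (a := o ω) (by
    simp only [mem_image, mem_filter, mem_univ, true_and]
    exact ⟨ω, hω, rfl⟩)
  rw [← this, key]
  exact ho _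

/-- Covering a set by the classes. -/
theorem card_le_mul_ncl {Z : Type*} (o : Ω → Finset Ω) (ho : ∀ ω, ω ∈ o ω) {P : Ω → Prop}
    (S : Finset Z)
    (A : Ω → Z → Prop) (hA : ∀ ω, ∀ ω' ∈ o ω, ∀ z, A ω' z → A ω z)
    (hS : ∀ z ∈ S, ∃ ω, P ω ∧ A ω z) {a : ℕ}
    (ha : ∀ ω, P ω → ∀ T ⊆ S, (∀ z ∈ T, A ω z) → T.card ≤ a) : S.card ≤ a * ncl o P := by
  classical
  rcases S.eq_empty_or_nonempty with rfl | ⟨z₀, hz₀⟩
  · simp
  haveI : Nonempty Ω := ⟨(hS z₀ hz₀).choose⟩
  choose! f hf using hS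
  have hne : ∀ z ∈ S, o (f z) ∈ (univ.filter P).image o := fun z hz =>
    mem_image.2 ⟨f z, by simpa using (hf z hz).1, rfl⟩
  have := card_le_mul_card_image_of_maps_to hne a (by
    intro O hO
    obtain ⟨ω, hω, rfl⟩ := mem_image.1 hO
    refine ha ω (mem_filter.1 hω).2 _ (filter_subset _ _) (fun z hz => ?_)
    rw [mem_filter] at hz
    exact hA ω (f z) (hz.2 ▸ ho _) z (hf z hz.1).2)
  unfold ncl
  convert this

end fam

end Cfsg.Agent.H33
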