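import Cfsg.Agent.H50.DerDefs
import Cfsg.Agent.H11.PermChar
import Cfsg.Agent.S0669

/-! Project DER (S3550, S5732): the piece CH1, the multiplicity table. -/

set_option autoImplicit false
set_option linter.unusedSectionVars false

namespace Cfsg.Agent.H33.DerCh1

open Cfsg Cfsg.Agent.H11 Cfsg.Agent.H50.Der MulAction
open scoped ComplexConjugate

universe u v

section lin
variable {V : Type*} [CommGroup V] [Fintype V]

/-- a linear character as a function -/
def fn (l : V →* ℂˣ) : V → ℂ := fun z => (l z : ℂ)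

theorem fn_irr (l : V →* ℂˣ) : IsIrrCharacter V (fn l) := isIrrCharacter_monoidHom l

theorem fn_char (l : V →* ℂˣ) : IsCharacter V (fn l) := isCharacter_monoidHom l

theorem fn_inj {l k : V →* ℂˣ} (e : fn l = fn k) : l = k :=
  MonoidHom.ext fun z => Units.ext (congrFun e z)

theorem fn_one : fn (1 : V →* ℂˣ) = fun _ => 1 := by
  ext z; simp [fn]

open Classical in
theorem fn_inner (l k : V →* ℂˣ) : classInner (fn l) (fn k) = if l = k then 1 else 0 := by
  split_ifs with e
  · rw [e]; exact classInner_irr_self (fn_irr k)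
  · exact classInner_irr_of_ne (fn_irr l) (fn_irr k) fun h => e (fn_inj h)

theorem fn_exp [Fintype (V →* ℂˣ)] (φ : V → ℂ) :
    φ = ∑ l : V →* ℂˣ, classInner φ (fn l) • fn l := by
  let _ : Fintype (IrrCharacter V) := Fintype.ofFinite _
  let e : (V →* ℂˣ) → IrrCharacter V := fun l => ⟨fn l, fn_irr l⟩
  have he : Function.Bijective e := ⟨fun l k h => fn_inj (congrArg Subtype.val h), fun χ => by
    obtain ⟨l, hl⟩ := exists_monoidHom_of_apply_one_eq_one (irr_isCharacter χ)
      (irr_apply_one_of_comm mul_comm χ.2)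
    exact ⟨l, Subtype.ext hl.symm⟩⟩
  conv_lhs => rw [classFun_eq_sum (isClassFunction_of_comm mul_comm φ)]
  exact (he.sum_comp fun χ => classInner φ χ • (χ : V → ℂ)).symm

theorem inner_shift (l k : V →* ℂˣ) (φ : V → ℂ) :
    classInner (fn l * fun z => conj (φ z)) (fn k) = classInner (fn (l * k⁻¹)) φ := by
  rw [classInner_def, classInner_def]
  congr 1
  refine Finset.sum_congr rfl fun z _ => ?_
  simp only [fn, Pi.mul_apply, conj_monoidHom_apply, MonoidHom.mul_apply, MonoidHom.inv_apply,
    map_inv, Units.val_mul]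
  ring

end lin

section ind
variable {X V : Type u} [Group X] [Fintype X] [CommGroup V] [Fintype V] (ι : V →* X)

open Classical in
/-- induction along `ι` -/
noncomputable def ind (θ : V → ℂ) : X → ℂ := fun g =>
  (Nat.card V : ℂ)⁻¹ * ∑ x : X, ∑ z : V, if x * ι z * x⁻¹ = g then θ z else 0

theorem ind_class (θ : V → ℂ) : IsClassFunction X (ind ι θ) := fun g h => by
  classical
  unfold ind
  congr 1
  rw [← Equiv.sum_comp (Equiv.mulLeft h)]
  refine Finset.sum_congr rfl fun x _ => Finset.sum_congr rfl fun z _ => ?_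
  refine if_congr ?_ rfl rfl
  simp only [Equiv.coe_mulLeft]
  constructor
  · intro e
    calc x * ι z * x⁻¹ = h⁻¹ * (h * x * ι z * (h * x)⁻¹) * h := by group
      _ = g := by rw [e]; group
  · rintro rfl; group

theorem ind_inner (θ : V → ℂ) {χ : X → ℂ} (hχ : IsClassFunction X χ) :
    classInner (ind ι θ) χ = classInner θ fun z => χ (ι z) := by
  classical
  have k : ∑ g : X, (∑ x : X, ∑ z : V, if x * ι z * x⁻¹ = g then θ z else 0) * conj (χ g) =
      (Nat.card X : ℂ) * ∑ z : V, θ z * conj (χ (ι z)) := by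
    simp only [Finset.sum_mul, ite_mul, zero_mul]
    rw [Finset.sum_comm]
    have : ∀ x : X, ∑ g : X, ∑ z : V, (if x * ι z * x⁻¹ = g then θ z * conj (χ g) else 0) =
        ∑ z : V, θ z * conj (χ (ι z)) := fun x => by
      rw [Finset.sum_comm]
      refine Finset.sum_congr rfl fun z _ => ?_
      rw [Finset.sum_ite_eq, if_pos (Finset.mem_univ _), hχ]
    simp only [this, Finset.sum_const, Finset.card_univ, nsmul_eq_mul, Nat.card_eq_fintype_card]
  rw [classInner_def, classInner_def]
  simp only [ind, mul_assoc (Nat.card V : ℂ)⁻¹]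
  rw [← Finset.mul_sum, k]
  have := card_ne_zero X
  field_simp

end ind

section main
variable {X : Type u} {Ω : Type v} {V : Type u} [Group X] [Fintype X] [MulAction X Ω]
  [CommGroup V] [Fintype V] {q : ℕ} {ι : V →* X} {ω : Ω} {E : Subgroup X} {act : E →* MulAut V}
  (h : CC q ι ω E act)
include h

theorem inj {z w : V} (e : ι z • ω = ι w • ω) : z = w := by
  refine (inv_mul_eq_one.1 (h.free _ ?_)).symm
  rw [map_mul, mul_smul, e, ← mul_smul, ← map_mul, inv_mul_cancel, map_one, one_smul]

theorem inj' {z w : V} (e : ι z = ι w) : z = w := inj h (by rw [e])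

theorem ind_val [Fintype E]
    (hc : ∀ z : V, z ≠ 1 → ∀ g : X, g * ι z = ι z * g → ∃ z' : V, g = ι z')
    {θ : V → ℂ} (h1 : θ 1 = 0) (y : V) : ind ι θ (ι y) = ∑ e : E, θ (act e y) := by
  classical
  let φ : V × E → X := fun p => ι p.1 * (p.2 : X)⁻¹
  have fx : ∀ e : E, (e : X)⁻¹ • ω = ω := fun e => ((h.memE _).1 (inv_mem e.2)).1
  have hφ : Function.Injective φ := fun p p' e => by
    have e1 : p.1 = p'.1 := inj h (by
      have := congrArg (· • ω) e
      simpa only [φ, mul_smul, fx] using this)
    refine Prod.ext e1 (Subtype.ext (inv_injective ?_))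
    have e' : ι p.1 * (p.2 : X)⁻¹ = ι p'.1 * (p'.2 : X)⁻¹ := e
    rwa [e1, mul_right_inj] at e'
  have k := Fintype.sum_of_injective φ hφ (fun p => θ (act p.2 y))
    (fun x => ∑ z : V, if x * ι z * x⁻¹ = ι y then θ z else 0) (fun x hx => by
      refine Finset.sum_eq_zero fun z _ => ?_
      split_ifs with e
      · by_contra n
        have z1 : z ≠ 1 := fun e' => n (e' ▸ h1)
        have y1 : y ≠ 1 := fun e' => z1 (inj' h (by
          rw [e', map_one] at e
          rw [map_one]
          simpa using e))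
        obtain ⟨v, hv⟩ := h.tr (x • ω)
        have m : (ι v)⁻¹ * x ∈ E := (h.memE _).2 ⟨by rw [mul_smul, ← hv, inv_smul_smul], fun w => by
          obtain ⟨w', hw⟩ := hc y y1 (x * ι w * x⁻¹) (by
            rw [← e]
            calc _ = x * ι (w * z) * x⁻¹ := by rw [map_mul]; group
              _ = _ := by rw [mul_comm w z, map_mul]; group)
          exact ⟨v⁻¹ * w' * v, by rw [map_mul, map_mul, ← hw, map_inv]; group⟩⟩
        exact hx ⟨(v, ⟨_, m⟩⁻¹), by simp [φ]⟩
      · rfl) (fun p => by
      have : ∀ z : V, φ p * ι z * (φ p)⁻¹ = ι y ↔ act p.2 y = z := fun z => by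
        have c : ι p.1 * ι y = ι y * ι p.1 := by rw [← map_mul, mul_comm, map_mul]
        constructor
        · intro e
          refine inj' h ?_
          rw [h.act_eq]
          calc _ = (p.2 : X) * ((ι p.1)⁻¹ * (ι p.1 * ι y)) * (p.2 : X)⁻¹ := by group
            _ = (p.2 : X) * ((ι p.1)⁻¹ * (φ p * ι z * (φ p)⁻¹ * ι p.1)) * (p.2 : X)⁻¹ := by
              rw [c, e]
            _ = _ := by simp only [φ]; group
        · rintro rfl
          rw [h.act_eq]
          calc _ = ι p.1 * ι y * (ι p.1)⁻¹ := by simp only [φ]; group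
            _ = _ := by rw [c]; group
      simp only [this, Finset.sum_ite_eq, Finset.mem_univ, if_true])
  rw [ind, ← k, Fintype.sum_prod_type]
  simp only [Finset.sum_const, Finset.card_univ, nsmul_eq_mul, Nat.card_eq_fintype_card]
  rw [← mul_assoc, inv_mul_cancel₀ (by exact_mod_cast Fintype.card_ne_zero), one_mul]

theorem dual_semi {g : E} {l : V →* ℂˣ} (l1 : l ≠ 1) (e : dual act g l = l) : g = 1 := by
  by_contra g1
  let f : V →* V := (act g).toMonoidHom / MonoidHom.id V
  have fi : Function.Injective f := (injective_iff_map_eq_one f).2 fun z hz => by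
    by_contra z1
    exact g1 (h.semi g z z1 (div_eq_one.1 hz))
  refine l1 (MonoidHom.ext fun w => ?_)
  obtain ⟨z, rfl⟩ := Finite.surjective_of_injective fi w
  have : l (act g z) = l z := DFunLike.congr_fun e z
  show l (act g z / z) = 1
  rw [map_div, this, div_self']

theorem perm_res [Finite Ω] : (fun z => permChar X Ω (ι z)) = regChar V := by
  ext z
  by_cases z1 : z = 1
  · rw [z1, map_one, permChar_one, regChar_one]
    congr 1
    exact (Nat.card_eq_of_bijective (fun w : V => ι w • ω) ⟨fun _ _ => inj h, h.tr⟩).symm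
  · rw [regChar_of_ne_one z1, permChar_apply]
    have : fixedBy Ω (ι z) = ∅ := Set.eq_empty_of_forall_notMem fun a ha => by
      obtain ⟨w, rfl⟩ := h.tr a
      have e : ι (z * w) • ω = ι w • ω := by rw [map_mul, mul_smul]; exact ha
      exact z1 (mul_eq_right.1 (inj h e))
    simp [this]

end main

theorem ch1 : Ch1Stmt.{u, v} := by
  intro X Ω V _ _ _ _ _ _ _ q ι ω E act h hc gen
  classical
  let _ : Fintype X := Fintype.ofFinite _
  let _ : Fintype V := Fintype.ofFinite _
  let _ : Fintype E := Fintype.ofFinite _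
  let _ : Fintype (IrrCharacter X) := Fintype.ofFinite _
  have : IsPretransitive X Ω := ⟨fun a b => by
    obtain ⟨z, rfl⟩ := h.tr a
    obtain ⟨w, rfl⟩ := h.tr b
    exact ⟨ι w * (ι z)⁻¹, by rw [mul_smul, inv_smul_smul]⟩⟩
  have : Nonempty Ω := ⟨ω⟩
  have rc : ∀ ψ : IrrCharacter X, IsCharacter V fun z => ψ.1 (ι z) := fun ψ =>
    isCharacter_comp (irr_isCharacter ψ) ι
  choose m hm using fun (ψ : IrrCharacter X) (l : V →* ℂˣ) =>
    exists_nat_classInner (rc ψ) (fn_char l)
  have hm' : ∀ ψ l, classInner (fn l) (fun z => ψ.1 (ι z)) = m ψ l := fun ψ l => by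
    rw [classInner_comm_of_isCharacter (fn_char l) (rc ψ), hm]
  have ex : ∀ ψ : IrrCharacter X, (fun z => ψ.1 (ι z)) = ∑ l, (m ψ l : ℂ) • fn l := fun ψ => by
    conv_lhs => rw [fn_exp fun z => ψ.1 (ι z)]
    simp only [hm]
  have res : ∀ (a : IrrCharacter X → ℕ) (φ : X → ℂ),
      φ = ∑ ψ : IrrCharacter X, (a ψ : ℂ) • (ψ : X → ℂ) → ∀ k,
      classInner (fun z => φ (ι z)) (fn k) = ((∑ j, a j * m j k : ℕ) : ℂ) := fun a φ e k => by
    have : (fun z => φ (ι z)) = ∑ ψ : IrrCharacter X, (a ψ : ℂ) • fun z => ψ.1 (ι z) := by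
      ext z; rw [e]; simp
    rw [this, classInner_sum_left]
    simp only [classInner_smul_left, hm]
    push_cast; rfl
  obtain ⟨c, hc1, hc2⟩ := exists_eq_sum_nat (isCharacter_permChar (G := X) Ω)
  let one : IrrCharacter X := ⟨fun _ => 1, isIrrCharacter_one⟩
  have mo : ∀ l, (m one l : ℂ) = if 1 = l then 1 else 0 := fun l => by
    rw [← hm, ← fn_inner, fn_one]
  refine ⟨⟨IrrCharacter X, one, m, c, fun i g l => ?_, fun l k l1 k1 ne => ?_, fun l => ?_, ?_,
    fun l l1 => ?_, ?_, fun i => ?_, ?_, fun i i1 => ?_, fun i => ?_⟩⟩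
  · have e := classInner_comp_mulEquiv (act g) (fun z => i.1 (ι z)) (fn l)
    have e' : (fun z => i.1 (ι (act g z))) = fun z => i.1 (ι z) := by
      ext z; rw [h.act_eq, isClassFunction_of_irr i.2]
    simp only [e'] at e
    have : (m i (dual act g l) : ℂ) = m i l := by rw [← hm, ← hm]; exact e
    exact_mod_cast this
  · have a1 : ∀ ψ : IrrCharacter X, classInner (ind ι (fn l - fn k)) ψ =
        (((m ψ l : ℤ) - m ψ k : ℤ) : ℂ) := fun ψ => by
      rw [ind_inner ι _ (isClassFunction_of_irr ψ.2), classInner_sub_left, hm', hm']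
      push_cast; rfl
    have a2 := classInner_self_eq_sum_int (ind_class ι (fn l - fn k)) _ a1
    have a3 : (fun z => ind ι (fn l - fn k) (ι z)) =
        ∑ e : E, (fn (dual act e l) - fn (dual act e k)) := by
      ext z
      rw [ind_val h hc (by simp [fn]), Finset.sum_apply]
      rfl
    have s1 : ∀ l' : V →* ℂˣ, l' ≠ 1 → ∀ e : E, (l' = dual act e l') ↔ 1 = e := fun l' n e =>
      ⟨fun e' => (dual_semi h n e'.symm).symm, fun e' => by subst e'; ext z; simp [dual]⟩
    have s2 : ∀ e : E, ¬ k = dual act e l := fun e e' => ne e e'.symm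
    have s3 : ∀ e : E, ¬ l = dual act e k := fun e e' => ne e⁻¹ (by
      rw [e']; ext z; simp [dual])
    rw [ind_inner ι _ (ind_class ι _), a3, classInner_sum_right] at a2
    simp only [classInner_sub_left, classInner_sub_right, fn_inner, s1 l l1, s1 k k1, s2, s3,
      if_false, sub_zero, zero_sub, sub_neg_eq_add, Finset.sum_add_distrib, Finset.sum_ite_eq,
      Finset.mem_univ, if_true] at a2
    have : ((∑ ψ : IrrCharacter X, ((m ψ l : ℤ) - m ψ k) ^ 2 : ℤ) : ℂ) = ((2 : ℤ) : ℂ) := by
      rw [← a2]; norm_num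
    exact_mod_cast this
  · have := res c _ hc2 l
    rw [perm_res h, classInner_regChar_left] at this
    have e : ((∑ j, c j * m j l : ℕ) : ℂ) = 1 := by rw [← this]; simp [fn]
    exact_mod_cast e
  · have : (c one : ℂ) = 1 := by
      rw [← hc1]; exact classInner_permChar_one_of_isPretransitive Ω
    exact_mod_cast this
  · have := mo l
    rw [if_neg l1.symm] at this
    exact_mod_cast this
  · have := mo 1
    rw [if_pos rfl] at this
    exact_mod_cast this
  · by_contra n
    push Not at n
    have := congrFun (ex i) 1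
    simp only [Nat.le_zero.1 (n _), map_one, Nat.cast_zero, zero_smul, Finset.sum_const_zero,
      Pi.zero_apply] at this
    exact irr_apply_one_ne_zero i.2 this
  · have a := classInner_self_eq_sum_int (isClassFunction_of_isCharacter
      (isCharacter_permChar (G := X) Ω)) (fun ψ => (c ψ : ℤ)) (fun ψ => by rw [hc1]; simp)
    rw [classInner_permChar_permChar, Cfsg.Agent.S0669.result ω] at a
    exact_mod_cast a.symm
  · by_contra n
    push Not at n
    have v : ∀ z, i.1 (ι z) = m i 1 := fun z => by
      have := congrFun (ex i) z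
      rw [Finset.sum_apply, Finset.sum_eq_single 1 (fun l _ l1 => by
        simp [Nat.le_zero.1 (n l l1)]) (by simp)] at this
      simpa [fn] using this
    refine i1 (Subtype.ext (irr_eq_one_of_charKer_eq_top i.2 (gen _
      (charKer_normal (isClassFunction_of_irr i.2)) fun z => (mem_charKer_irr_iff i.2).2 ?_)))
    rw [v z, ← v 1, map_one]
  · obtain ⟨a, ha1, ha2⟩ := exists_eq_sum_nat (isCharacter_mul (irr_isCharacter i)
      (isCharacter_conj (irr_isCharacter i)))
    refine ⟨a, ?_, fun k => ?_⟩
    · have : (a one : ℂ) = 1 := by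
        rw [← ha1, ← classInner_irr_self i.2, classInner_eq_mul_conj_one i.1 i.1]
      exact_mod_cast this
    · have e := res a _ ha2 k
      have e' : (fun z => (i.1 * fun g => conj (i.1 g)) (ι z)) =
          ∑ l, (m i l : ℂ) • (fn l * fun z => conj (i.1 (ι z))) := by
        ext z
        have := congrFun (ex i) z
        simp only [Finset.sum_apply, Pi.smul_apply, smul_eq_mul, Pi.mul_apply] at this ⊢
        simp only [← mul_assoc]
        rw [← Finset.sum_mul, ← this]
      rw [e', classInner_sum_left] at e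
      simp only [classInner_smul_left, inner_shift, hm'] at e
      exact_mod_cast e.symm

end Cfsg.Agent.H33.DerCh1
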