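import Cfsg.Agent.H37.FkKit
import Cfsg.Agent.H42.SuzT
import Cfsg.Agent.H42.CoQ
import Cfsg.Agent.H74.NetF2
import Cfsg.Agent.H61.L34Rec
import Cfsg.Agent.H49.V8
import Cfsg.Agent.H59.PermMod
import Cfsg.Agent.S0303
import Cfsg.Agent.S0270
import Cfsg.Agent.S0246
import Cfsg.Agent.S0249

/-! S5161, piece SM2: the small groups in characteristic two. -/

set_option autoImplicit false

namespace Cfsg.Agent.H33.FkSm2

open Cfsg Subgroup Cfsg.Agent.H37.FK

section

variable {G : Type} [Group G]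

theorem nas_of_card (h : IsSimpleGroup G) (hc : ¬ (Nat.card G).Prime) : NAS G :=
  ⟨h, fun e => hc (by
    letI : CommGroup G := { mul_comm := e.1.1 }
    exact IsSimpleGroup.prime_card)⟩

theorem equiv_center (h : NAS G) : Nonempty (G ≃* G ⧸ center G) := by
  have := h.1
  rcases IsSimpleGroup.eq_bot_or_eq_top_of_normal (center G) inferInstance with e | e
  · exact ⟨QuotientGroup.quotientBot.symm.trans (QuotientGroup.quotientMulEquivOfEq e.symm)⟩
  · exact absurd ⟨⟨fun a b => mem_center_iff.1 (e ▸ mem_top b) a⟩⟩ h.2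

variable [Finite G]

theorem ti_count (h : TI G) (S : Sylow 2 G) : ∃ r, Nat.card (Sylow 2 G) +
    Nat.card (S : Subgroup G) = r * Nat.card (S : Subgroup G) + 1 := by
  classical
  have := Fintype.ofFinite (S : Subgroup G)
  have := Fintype.ofFinite (Sylow 2 G)
  have := Fintype.ofFinite (Quotient (MulAction.orbitRel (S : Subgroup G) (Sylow 2 G)))
  have h1 := MulAction.sum_card_fixedBy_eq_card_orbits_mul_card_group (S : Subgroup G) (Sylow 2 G)
  have h2 : ∀ s ∈ Finset.univ.erase (1 : (S : Subgroup G)),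
      Fintype.card (MulAction.fixedBy (Sylow 2 G) s) = 1 := fun s hs => by
    refine Fintype.card_eq_one_iff.2 ⟨⟨S, Sylow.smul_eq_iff_mem_normalizer.2 (le_normalizer s.2)⟩,
      fun ⟨R, hR⟩ => Subtype.ext (by_contra fun n => (Finset.ne_of_mem_erase hs) ?_)⟩
    have h3 : (s : G) ∈ (S : Subgroup G) ⊓ normalizer (R : Set G) :=
      ⟨s.2, Sylow.smul_eq_iff_mem_normalizer.1 hR⟩
    rw [S.isPGroup'.inf_normalizer_sylow R, h S R (Ne.symm n)] at h3
    exact Subtype.ext h3
  rw [← Finset.add_sum_erase _ _ (Finset.mem_univ 1), Finset.sum_congr rfl h2] at h1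
  simp only [MulAction.fixedBy_one_eq_univ, Fintype.card_setUniv, Finset.sum_const, smul_eq_mul,
    mul_one, Finset.card_erase_of_mem (Finset.mem_univ _), Finset.card_univ] at h1
  have h4 : 0 < Fintype.card (S : Subgroup G) := Fintype.card_pos
  refine ⟨Fintype.card (Quotient (MulAction.orbitRel (S : Subgroup G) (Sylow 2 G))), ?_⟩
  rw [Nat.card_eq_fintype_card, Nat.card_eq_fintype_card, ← h1]
  omega

theorem not_ti (h : NAS G) {k m : ℕ} (hc : Nat.card G = 2 ^ k * m) (hm : ¬ 2 ∣ m) (k0 : 1 < 2 ^ k)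
    (m1 : 1 < m) (hd : ∀ j ≤ m / 2 ^ k, (j * 2 ^ k + 1) ∣ m → j = 0) : ¬ TI G := fun t => by
  obtain ⟨S⟩ : Nonempty (Sylow 2 G) := inferInstance
  have hS : Nat.card (S : Subgroup G) = 2 ^ k := by
    rw [S.card_eq_multiplicity, hc, Nat.factorization_mul (by positivity) (by omega),
      Finsupp.add_apply, Nat.factorization_eq_zero_of_not_dvd hm, Nat.prime_two.factorization_pow]
    simp
  have hi : (S : Subgroup G).index = m := by
    have := (S : Subgroup G).card_mul_index
    rw [hc, hS] at this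
    exact Nat.eq_of_mul_eq_mul_left (by positivity) this
  obtain ⟨r, hr⟩ := ti_count t S
  have h1 := S.card_dvd_index
  have h2 : 0 < Nat.card (Sylow 2 G) := Nat.card_pos
  rw [hS] at hr
  obtain ⟨j, rfl⟩ : ∃ j, r = j + 1 := ⟨r - 1, by rcases r with - | r <;> omega⟩
  have h3 : Nat.card (Sylow 2 G) = j * 2 ^ k + 1 := by rw [add_mul] at hr; omega
  rw [hi, h3] at h1
  obtain rfl := hd j ((Nat.le_div_iff_mul_le (by positivity)).2
    (by have := Nat.le_of_dvd (by omega) h1; omega)) h1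
  have : Subsingleton (Sylow 2 G) := (Nat.card_eq_one_iff_unique.1 (by simpa using h3)).1
  have := h.1
  rcases IsSimpleGroup.eq_bot_or_eq_top_of_normal _ S.normal_of_subsingleton with e | e
  · rw [e, card_bot] at hS
    omega
  · rw [e, index_top] at hi
    omega

theorem nsc_of (bn : BnStmt.{0}) (h : NAS G) (hl : IsLieTypeChar 2 G) {k m : ℕ}
    (hc : Nat.card G = 2 ^ k * m) (hm : ¬ 2 ∣ m) (k0 : 1 < 2 ^ k) (m1 : 1 < m)
    (hd : ∀ j ≤ m / 2 ^ k, (j * 2 ^ k + 1) ∣ m → j = 0) : NAS G ∧ NSC G :=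
  ⟨h, ((bn G h hl).resolve_right (not_ti h hc hm k0 m1 hd)).1⟩

/-- A faithful module over `𝔽₂` with a regular unipotent element. -/
theorem ns_of_regular {V : Type} [AddCommGroup V] [Module (ZMod 2) V] [Nontrivial V]
    (ρ : Representation (ZMod 2) G V) (hρ : Function.Injective ρ) {u : G} (hu : Two u) {e : V}
    (he : ∀ x, ρ u x = x → x = 0 ∨ x = e) : NS G := by
  obtain ⟨S, hS⟩ := hu.zpowers.exists_le_sylow
  have uS : u ∈ (S : Subgroup G) := hS (mem_zpowers u)
  have : CharP (Module.End (ZMod 2) V) 2 :=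
    charP_of_injective_algebraMap (algebraMap (ZMod 2) (Module.End (ZMod 2) V)).injective 2
  have pw : ∀ (g : G) (k : ℕ), (ρ g - 1) ^ 2 ^ k = ρ (g ^ 2 ^ k) - 1 := fun g k => by
    rw [sub_pow_char_pow_of_commute 2 k (Commute.one_right _), one_pow, map_pow]
  obtain ⟨F, hF⟩ : ∃ F : ℕ → Submodule (ZMod 2) V, ∀ i v, v ∈ F i ↔ ((ρ u - 1) ^ i) v = 0 :=
    ⟨fun i => LinearMap.ker ((ρ u - 1) ^ i), fun _ _ => Iff.rfl⟩
  have up : ∀ i v, v ∈ F (i + 1) ↔ ρ u v - v ∈ F i := fun i v => by rw [hF, hF, pow_succ]; rfl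
  have mono : ∀ i v, v ∈ F i → v ∈ F (i + 1) := fun i v h => by
    rw [hF, pow_succ', Module.End.mul_apply, (hF i v).1 h, map_zero]
  have two : ∀ i, ∀ v ∈ F (i + 1), ∀ w ∈ F (i + 1), v ∉ F i → w ∉ F i → v - w ∈ F i :=
    fun i v hv w hw nv nw => by
      rw [hF, pow_succ', Module.End.mul_apply] at hv hw
      rw [hF] at nv nw ⊢
      rw [map_sub, (he _ (sub_eq_zero.1 hv)).resolve_left nv,
        (he _ (sub_eq_zero.1 hw)).resolve_left nw, sub_self]
  have inv : ∀ i, ∀ g ∈ normalizer ((S : Subgroup G) : Set G), ∀ v ∈ F i, ρ g v ∈ F i := by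
    intro i
    induction i with
    | zero =>
      intro g _ v hv
      rw [hF, pow_zero, Module.End.one_apply] at hv ⊢
      rw [hv, map_zero]
    | succ i ih =>
      intro g hg v hv
      by_cases n : v ∈ F i
      · exact mono _ _ (ih g hg v n)
      obtain ⟨w, -, w0, hw⟩ := H59.exists_ne_zero_fixed_of_isPGroup S.isPGroup'
        (Representation.quotient (ρ.comp (S : Subgroup G).subtype) (F i)
          fun s v hv => ih s (le_normalizer s.2) v hv) ⊤ (fun _ _ _ => trivial) fun e =>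
            n ((Submodule.Quotient.mk_eq_zero _).1 (e.le Submodule.mem_top))
      obtain ⟨w, rfl⟩ := Submodule.Quotient.mk_surjective _ w
      have w1 : w ∉ F i := fun e => w0 ((Submodule.Quotient.mk_eq_zero _).2 e)
      have w2 : ∀ s ∈ (S : Subgroup G), ρ s w - w ∈ F i := fun s hs =>
        (Submodule.Quotient.eq _).1 (hw ⟨s, hs⟩)
      have h1 : ρ g w ∈ F (i + 1) := by
        have := ih g hg _ (w2 _ ((mem_normalizer_iff''.1 hg u).1 uS))
        rwa [map_sub, ← Module.End.mul_apply, ← map_mul, ← mul_assoc, mul_inv_cancel_left, map_mul,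
          Module.End.mul_apply, ← up] at this
      have h2 := mono _ _ (ih g hg _ (two i v hv w ((up i w).2 (w2 u uS)) n w1))
      rw [map_sub] at h2
      simpa using add_mem h2 h1
  refine ns_of_one S fun g hg ho x _ => ?_
  have hN : g ∈ normalizer ((S : Subgroup G) : Set G) := mem_normalizer_fintype hg
  have down : ∀ i, ∀ v ∈ F i, ((ρ g - 1) ^ i) v = 0 := by
    intro i
    induction i with
    | zero => exact fun v hv => by simpa [hF] using hv
    | succ i ih =>
      intro v hv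
      rw [pow_succ, Module.End.mul_apply]
      refine ih (ρ g v - v) ?_
      by_cases n : v ∈ F i
      · exact sub_mem (inv i g hN v n) n
      · refine two i _ (inv _ g hN v hv) v hv (fun e => n ?_) n
        have := inv i g⁻¹ (inv_mem hN) _ e
        rwa [← Module.End.mul_apply, ← map_mul, inv_mul_cancel, map_one] at this
  obtain ⟨k, hk⟩ := hu
  have h1 : ρ (g ^ 2 ^ k) = ρ 1 := by
    rw [map_one, ← sub_eq_zero, ← pw]
    exact LinearMap.ext fun v => down _ v (by rw [hF, pw, hk, map_one, sub_self]; rfl)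
  rw [Two.eq_one ⟨k, hρ h1⟩ ho, one_mul, inv_one, mul_one]

end

/-- a regular unipotent element of `Sp₆(2)` -/
def u6 : Matrix.symplecticGroup (Fin 3) (ZMod 2) :=
  ⟨Matrix.fromBlocks !![1, 1, 0; 0, 1, 1; 0, 0, 1] !![0, 0, 0; 0, 0, 1; 0, 0, 1] 0
    !![1, 0, 0; 1, 1, 0; 1, 1, 1], SymplecticGroup.mem_iff.2 (by decide +kernel)⟩

theorem ns_sp : NS (Matrix.symplecticGroup (Fin 3) (ZMod 2)) := by
  refine ns_of_regular (V := Fin 3 ⊕ Fin 3 → ZMod 2)
    (Matrix.toLinAlgEquiv'.toAlgHom.toMonoidHom.comp (Submonoid.subtype _))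
    (Matrix.toLinAlgEquiv'.injective.comp Subtype.val_injective) (u := u6)
    ⟨3, Subtype.ext ?_⟩ (e := Pi.single (Sum.inl 0) 1) ?_
  · change u6.1 ^ 8 = 1
    have h2 : u6.1 ^ 2 = Matrix.fromBlocks !![1, 0, 1; 0, 1, 0; 0, 0, 1]
        !![0, 0, 1; 1, 1, 1; 1, 1, 0] 0 !![1, 0, 0; 0, 1, 0; 1, 0, 1] := by
      rw [sq]
      decide +kernel
    have h4 : u6.1 ^ 4 = Matrix.fromBlocks 1 !![0, 1, 0; 1, 0, 0; 0, 0, 0] 0 1 := by
      rw [show 4 = 2 + 2 from rfl, pow_add, h2]
      decide +kernel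
    rw [show 8 = 4 + 4 from rfl, pow_add, h4]
    decide +kernel
  · change ∀ x : Fin 3 ⊕ Fin 3 → ZMod 2, u6.1.mulVec x = x → _
    decide +kernel

/-- **SM2** -/
theorem sm2 (bn : BnStmt.{0}) : Sm2Stmt := by
  refine ⟨?_, ?_, ?_, ?_, fun F _ _ hF => ?_⟩
  · have h := nas_of_card H48.Rec.simple_Omega8 (by rw [H74.card_omega82]; norm_num)
    exact nsc_of bn h (.inr (.inr (.inr (.inr (.inl
      ⟨ZMod 2, inferInstance, inferInstance, inferInstance, 4, le_rfl, equiv_center h⟩)))))
      (k := 12) (m := 42525) H74.card_omega82 (by decide) (by decide) (by decide) (by decide)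
  · have h := nas_of_card H42.SuzT.simple_Omega6 (by rw [H59.card_Omega6]; norm_num)
    have := Fintype.ofFinite (GaloisField 2 2)
    have hK : Fintype.card (GaloisField 2 2) = 2 ^ 2 := by
      rw [← Nat.card_eq_fintype_card, GaloisField.card 2 2 two_ne_zero]
    obtain ⟨e1⟩ := equiv_center h
    obtain ⟨e2⟩ := S0303.result (F := ZMod 2) (q := 2) rfl hK 1 1 (by decide)
    exact nsc_of bn h (.inr (.inr (.inl ⟨GaloisField 2 2, inferInstance, inferInstance,
      inferInstance, 4, 2, hK, by decide, by decide, ⟨e1.trans e2⟩⟩)))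
      (k := 6) (m := 405) H59.card_Omega6 (by decide) (by decide) (by decide) (by decide)
  · have e : Matrix.symplecticGroup (Fin 3) (ZMod 2) ≃* PSp 3 (ZMod 2) :=
      QuotientGroup.quotientBot.symm.trans (QuotientGroup.quotientMulEquivOfEq
        (card_eq_one.1 (S0246.result (F := ZMod 2) (q := 2) rfl 3 (by decide))).symm)
    have := S0270.result (F := ZMod 2) 3 (by decide) (by decide)
    have h := nas_of_card e.isSimpleGroup (by rw [H74.card_sp62]; norm_num)
    have h1 := nsc_of bn h (.inr (.inl ⟨ZMod 2, inferInstance, inferInstance, inferInstance, 3,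
      by decide, by decide, ⟨e⟩⟩)) (k := 9) (m := 2835) H74.card_sp62 (by decide) (by decide)
      (by decide) (by decide)
    exact ⟨h, h1.2, ns_sp⟩
  · have h := nas_of_card H49.SL32_simple (by rw [H49.card_SL32]; norm_num)
    exact nsc_of bn h (.inl ⟨ZMod 2, inferInstance, inferInstance, inferInstance, 3, by decide,
      by decide, equiv_center h⟩) (k := 3) (m := 21) H49.card_SL32 (by decide) (by decide)
      (by decide) (by decide)
  · have : CharP F 2 := charP_of_card_eq_prime_pow (f := 2) hF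
    have h := nas_of_card (S0249.result (F := F) 3 le_rfl) (by rw [H61.card_PSL34 hF]; norm_num)
    exact nsc_of bn h (.inl ⟨F, inferInstance, inferInstance, inferInstance, 3, by decide,
      fun e => absurd e (by decide), ⟨MulEquiv.refl _⟩⟩) (k := 6) (m := 315) (H61.card_PSL34 hF)
      (by decide) (by decide) (by decide) (by decide)

end Cfsg.Agent.H33.FkSm2
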