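import Cfsg.Agent.H42.HtDefs

/-! The piece `X1` of project HT. -/

set_option autoImplicit false

namespace Cfsg.Agent.H33.HtX1

open Cfsg Cfsg.Agent.H63 Cfsg.Agent.H63.SL Cfsg.Agent.H63.AN Subgroup Cfsg.Agent.H42.HT
open Cfsg.Agent.H7.AA
open Cfsg.Agent.H78 (c3 altOn symOn)
open Equiv (swap Perm)
open Equiv.Perm (sign)

universe u

theorem sw : sign w = 1 := by decide
theorem sv : sign v = 1 := by decide
theorem svw : sign (v * w) = 1 := by decide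
theorem sy : sign (c3 0 1 2 : P) = 1 := by decide
theorem sc : sign (d2 0 1 4 5 : P) = 1 := by decide
theorem x3_mem : x3 ∈ B6 := H78.mem_altOn.2 (by decide)

theorem comm_B6 {p σ : P} (hp : p ∈ symOn ({0, 1, 2, 3} : Finset (Fin 10))) (hσ : σ ∈ B6) :
    p * σ = σ * p := H78.commute_of_mem_symOn disjoint_compl_right hp hσ.1

section

variable {G : Type u} [Group G] {ψ : Al →* G} {t g : G}

theorem surj (hi : Function.Injective ψ) (s : Sx ψ t g) {τ : P} (hτ : τ ∈ B6) :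
    ∃ σ ∈ B6, g * ev ψ σ * g⁻¹ = ev ψ τ ∧ (σ.IsThreeCycle → τ.support.card = 6) := by
  choose f h1 h2 h3 using s.gB
  let F : B6 → B6 := fun σ => ⟨f σ σ.2, h1 σ σ.2⟩
  have inj : Function.Injective F := fun a b e => by
    have e1 : f a a.2 = f b b.2 := congrArg Subtype.val e
    have e2 := (h2 a a.2).trans (e1 ▸ (h2 b b.2).symm)
    exact Subtype.ext (ev_inj hi a.2.2 b.2.2 (mul_left_cancel (mul_right_cancel e2)))
  obtain ⟨σ, e⟩ := Finite.surjective_of_injective inj ⟨τ, hτ⟩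
  have e1 : f σ σ.2 = τ := congrArg Subtype.val e
  exact ⟨σ, σ.2, e1 ▸ h2 σ σ.2, e1 ▸ h3 σ σ.2⟩

theorem ne_of (F : Fr ψ t) (s : Sx ψ t g) : NE ψ t := fun q hq hc => by
  obtain ⟨σ, hσ, e, h6⟩ := surj F.inj s x3_mem
  obtain ⟨p, hp⟩ := F.act (q⁻¹ * g) (by
    have : q⁻¹ * g * t * (q⁻¹ * g)⁻¹ = t := by
      calc q⁻¹ * g * t * (q⁻¹ * g)⁻¹ = q⁻¹ * (g * t * g⁻¹) * q := by group
        _ = t := by rw [s.gt, ← hq]; group
    exact mul_inv_eq_iff_eq_mul.1 this)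
  have e1 : ev ψ (p * σ * p⁻¹) = ev ψ x3 := by
    rw [← hp σ hσ.2]
    calc q⁻¹ * g * ev ψ σ * (q⁻¹ * g)⁻¹ = q⁻¹ * (g * ev ψ σ * g⁻¹) * q := by group
      _ = ev ψ x3 := by rw [e, mul_assoc, ← hc.eq]; group
  have e2 := ev_inj F.inj ((sign_conj' p σ).trans hσ.2) x3_mem.2 e1
  have t3 : x3.IsThreeCycle := H78.isThreeCycle_c3 (by decide) (by decide) (by decide)
  have e3 : σ.IsThreeCycle := by
    unfold Equiv.Perm.IsThreeCycle at t3 ⊢
    rw [← t3, ← e2, Equiv.Perm.cycleType_conj]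
  have := h6 e3
  rw [t3.card_support] at this
  omega

theorem kill (F : Fr ψ t) (n : NE ψ t) (gt : g * t * g⁻¹ = t * ev ψ w)
    (gv : g * ev ψ v * g⁻¹ = ev ψ v) {τ : P} (hτ : τ ∈ B6) (gx : g * ev ψ x3 * g⁻¹ = ev ψ τ) :
    False := by
  set y := ev ψ (c3 0 1 2) with hy
  have ym : (c3 0 1 2 : P) ∈ symOn ({0, 1, 2, 3} : Finset (Fin 10)) := H78.mem_symOn.2 (by decide)
  have yt : y * t * y⁻¹ = t := by rw [← KA_ev F.tK, mul_inv_cancel_right]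
  have e1 : y * (t * ev ψ v) * y⁻¹ = t * ev ψ w := by
    rw [← conj_mul, yt, ← ev_conj sy sv, show c3 0 1 2 * v * (c3 0 1 2)⁻¹ = w by decide]
  have e2 : g * (t * ev ψ v) * g⁻¹ = t * ev ψ (w * v) := by
    rw [← conj_mul, gt, gv, ev_mul sw sv, mul_assoc]
  have e3 : y * (t * ev ψ (w * v)) * y⁻¹ = t * ev ψ v := by
    rw [← conj_mul, yt, ← ev_conj sy (by decide),
      show c3 0 1 2 * (w * v) * (c3 0 1 2)⁻¹ = v by decide]
  have c1 : y * ev ψ x3 = ev ψ x3 * y := ev_comm sy x3_mem.2 (comm_B6 ym x3_mem)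
  have c2 : Commute y (g * ev ψ x3 * g⁻¹) := by
    rw [gx]; exact ev_comm sy hτ.2 (comm_B6 ym hτ)
  refine n (y * (g⁻¹ * y⁻¹ * y⁻¹ * g)) ?_ (mul_inv_eq_iff_eq_mul.1 ?_)
  · calc y * (g⁻¹ * y⁻¹ * y⁻¹ * g) * t * (y * (g⁻¹ * y⁻¹ * y⁻¹ * g))⁻¹
        = y * (g⁻¹ * y⁻¹ * y⁻¹ * (g * t * g⁻¹) * y * y * g) * y⁻¹ := by simp [mul_assoc]
      _ = y * (t * ev ψ v) * y⁻¹ := by
        congr 2
        rw [gt, ← e1]
        nth_rewrite 1 [← e3]
        rw [← e2]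
        group
      _ = t * ev ψ w := e1
  · calc y * (g⁻¹ * y⁻¹ * y⁻¹ * g) * ev ψ x3 * (y * (g⁻¹ * y⁻¹ * y⁻¹ * g))⁻¹
        = y * g⁻¹ * ((y * y)⁻¹ * (g * ev ψ x3 * g⁻¹ * (y * y))) * g * y⁻¹ := by simp [mul_assoc]
      _ = y * ev ψ x3 * y⁻¹ := by rw [← (c2.mul_left c2).eq]; group
      _ = ev ψ x3 := by rw [c1, mul_inv_cancel_right]

end

theorem x1 : X1Stmt.{u} := by
  intro ff G _ _ ψ t F _ g s
  have n := ne_of F s
  refine ⟨n, ?_⟩
  have h5 : 5 ≤ Fintype.card (Fin 10) := by simp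
  have vm : v ∈ symOn ({0, 1, 2, 3} : Finset (Fin 10)) := H78.mem_symOn.2 (by decide)
  have WW : ev ψ w * ev ψ w = 1 := by rw [← ev_mul sw sw, show w * w = 1 by decide, ev_one]
  have VV : ev ψ v * ev ψ v = 1 := by rw [← ev_mul sv sv, show v * v = 1 by decide, ev_one]
  have VW : Commute (ev ψ v) (ev ψ w) := ev_comm sv sw (by decide)
  have tE : ∀ σ, Commute t (ev ψ σ) := KA_ev F.tK
  have gw : g * ev ψ w * g⁻¹ = ev ψ w := by rw [s.gw.eq, mul_inv_cancel_right]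
  have gt' : g * (t * ev ψ w) * g⁻¹ = t := by rw [← conj_mul, s.gt, gw, mul_assoc, WW, mul_one]
  have ct : Commute (g * ev ψ v * g⁻¹) t := by
    have := ((tE v).symm.mul_right VW).conj g
    rwa [gt'] at this
  have cw : Commute (g * ev ψ v * g⁻¹) (ev ψ w) := by
    have := VW.conj g
    rwa [gw] at this
  have cB : ∀ τ ∈ B6, Commute (g * ev ψ v * g⁻¹) (ev ψ τ) := fun τ hτ => by
    obtain ⟨σ, hσ, e, -⟩ := surj F.inj s hτ
    rw [← e]
    exact Commute.conj (ev_comm sv hσ.2 (comm_B6 vm hσ)) g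
  have sq : g * ev ψ v * g⁻¹ * (g * ev ψ v * g⁻¹) = 1 := by rw [conj_mul, VV]; simp
  have i2 : Is2 (g * ev ψ v * g⁻¹) := ⟨1, by rw [pow_one, pow_two, sq]⟩
  obtain ⟨p, hp⟩ := F.act _ ct
  have pp : p * p = 1 := (hp.mul hp).uniq h5 F.inj (by rw [sq]; exact acts_one)
  have cjw : IsConj t (t * ev ψ w) := isConj_iff.2 ⟨g, s.gt⟩
  have cjp : ∀ a q : P, sign a = 1 → a * w * a⁻¹ = q → IsConj t (t * ev ψ q) := fun a q ha e =>
    cjw.trans (isConj_iff.2 ⟨ev ψ a, by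
      rw [← conj_mul, ← (tE a).eq, mul_inv_cancel_right, ← ev_conj ha sw, e]⟩)
  have cjv : IsConj t (t * ev ψ v) := cjp (c3 0 1 2)⁻¹ v (by decide) (by decide)
  have cjvw : IsConj t (t * ev ψ (v * w)) := cjp (c3 0 1 2) _ sy (by decide)
  have nv : ¬ IsConj t (g * ev ψ v * g⁻¹) := fun h =>
    F.nl v (h.trans (isConj_iff.2 ⟨g, rfl⟩).symm)
  have eτ : g * (t * ev ψ v) * g⁻¹ = t * ev ψ w * (g * ev ψ v * g⁻¹) := by rw [← conj_mul, s.gt]
  have aτ : Acts ψ (g * (t * ev ψ v) * g⁻¹) (1 * w * p) := by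
    rw [eτ]; exact ((acts_of_KA F.tK).mul (acts_ev sw)).mul hp
  have cτ : Commute (g * (t * ev ψ v) * g⁻¹) t := by
    rw [eτ]; exact ((Commute.refl t).mul_left (tE w).symm).mul_left ct
  have fin : ∀ g', Commute (g' * (t * ev ψ v) * g'⁻¹) t →
      Acts ψ (g' * (t * ev ψ v) * g'⁻¹) (swap 0 1) → D1 ψ t (g' * (t * ev ψ v) * g'⁻¹) (swap 0 1) :=
    fun g' h1 h2 => ⟨cjv.trans (isConj_iff.2 ⟨g', rfl⟩), h1, fun e =>
      absurd (h2.eq_of h5 F.inj (by rw [e]; exact F.tK)) (by decide), h2⟩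
  rcases (ff.d8 p (hp.comm_perm F.inj sw cw) fun σ hσ => hp.comm_perm F.inj hσ.2 (cB σ hσ)).1 pp
    with rfl | rfl | rfl | rfl | rfl | rfl
  · rcases F.r2 _ hp.KA ct i2 with e | e
    · exact absurd (ev_eq_one F.inj sv (conj_eq_one_iff.1 e)) (by decide)
    · exact absurd (e ▸ IsConj.refl _) nv
  · rcases F.ev2 _ _ ct i2 hp sw with e | e
    · exact absurd (ev_inj F.inj sv sw (mul_left_cancel (mul_right_cancel (e.trans gw.symm))))
        (by decide)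
    · exact absurd (mul_left_cancel (mul_right_cancel (e.trans s.gt.symm))) (F.tn v)
  · rcases F.ev2 _ _ ct i2 hp sv with e | e
    · obtain ⟨τ, hτ, e1, -⟩ := s.gB x3 x3_mem
      exact (kill F n s.gt e hτ e1).elim
    · exact absurd (e ▸ cjv) nv
  · rcases F.ev2 _ _ ct i2 hp svw with e | e
    · obtain ⟨τ, hτ, e1, -⟩ := s.gB _ ((ff.cw (d2 0 1 4 5) (show _ * _ = _ * _ by decide)).2 x3 x3_mem)
      refine (kill (g := g * ev ψ (d2 0 1 4 5)) F n ?_ ?_ hτ ?_).elim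
      · rw [← s.gt, mul_assoc g, ← (tE _).eq]; group
      · calc g * ev ψ (d2 0 1 4 5) * ev ψ v * (g * ev ψ (d2 0 1 4 5))⁻¹
            = g * (ev ψ (d2 0 1 4 5) * ev ψ v * (ev ψ (d2 0 1 4 5))⁻¹) * g⁻¹ := by group
          _ = ev ψ v := by
            rw [← ev_conj sc sv, show d2 0 1 4 5 * v * (d2 0 1 4 5)⁻¹ = v * w by decide,
              ev_mul sv sw, ← conj_mul, e, gw, ev_mul sv sw, mul_assoc, WW, mul_one]
      · rw [← e1, ev_conj sc x3_mem.2]; group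
    · exact absurd (e ▸ cjvw) nv
  · have e : ev ψ v * g * (t * ev ψ v) * (ev ψ v * g)⁻¹ =
        ev ψ v * (g * (t * ev ψ v) * g⁻¹) * (ev ψ v)⁻¹ := by group
    refine ⟨ev ψ v * g, ⟨?_, VW.mul_left s.gw, fun σ hσ => ?_⟩, fin _ ?_ ?_⟩
    · calc ev ψ v * g * t * (ev ψ v * g)⁻¹ = ev ψ v * (g * t * g⁻¹) * (ev ψ v)⁻¹ := by group
        _ = t * ev ψ w := by rw [s.gt, ((tE v).symm.mul_right VW).eq, mul_inv_cancel_right]
    · obtain ⟨τ, hτ, e1, e2⟩ := s.gB σ hσ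
      refine ⟨τ, hτ, ?_, e2⟩
      calc ev ψ v * g * ev ψ σ * (ev ψ v * g)⁻¹
          = ev ψ v * (g * ev ψ σ * g⁻¹) * (ev ψ v)⁻¹ := by group
        _ = ev ψ τ := by rw [e1, ev_comm sv hτ.2 (comm_B6 vm hτ), mul_inv_cancel_right]
    · rw [e]
      exact ((tE v).symm.mul_left cτ).mul_left (tE v).symm.inv_left
    · rw [e, ← show v * (1 * w * swap 0 1) * v⁻¹ = swap 0 1 by decide]
      exact (acts_ev sv).conj aτ
  · exact ⟨g, s, fin g cτ (by rw [← show 1 * w * swap 2 3 = swap 0 1 by decide]; exact aτ)⟩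

end Cfsg.Agent.H33.HtX1
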