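import Cfsg.Agent.H54.AbRes
import Cfsg.Agent.H51.Thompson

/-!
Abelian `p`-subgroups of largest order, `p ≥ 5`: linear algebra and Thompson's lemma.
-/

set_option autoImplicit false

namespace Cfsg.Agent.H33.JA

open Subgroup
open scoped commutatorElement

section Lin

variable {W : Type*} [AddCommGroup W] {p : ℕ}

theorem pow_succ_apply (N : AddMonoid.End W) (k : ℕ) (x : W) :
    N ((N ^ k) x) = (N ^ (k + 1)) x := by
  rw [pow_succ']; rfl

theorem pow_apply_eq {α N : AddMonoid.End W} (hN : N = α - 1) {x : W} (h4 : (N ^ 4) x = 0)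
    (i : ℕ) : (α ^ i) x = x + i • N x + i.choose 2 • (N ^ 2) x + i.choose 3 • (N ^ 3) x := by
  have e : ∀ y, α y = y + N y := fun y => by
    rw [hN]; change α y = y + (α y - y); abel
  have s1 : N (N x) = (N ^ 2) x := by rw [pow_two]; rfl
  induction i with
  | zero => simp
  | succ i ih =>
    rw [← pow_succ_apply, e, ih]
    simp only [map_add, map_nsmul, pow_succ_apply, s1, h4, Nat.choose_succ_succ' i 1,
      Nat.choose_succ_succ' i 2, Nat.choose_one_right, add_nsmul, one_nsmul, nsmul_zero,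
      Nat.reduceAdd]
    abel

theorem lin_contra (hp : p.Prime) (hp2 : p ≠ 2) (hW : ∀ w : W, p • w = 0)
    {α N : AddMonoid.End W} (hN : N = α - 1) {x : W} (h4 : (N ^ 4) x = 0) (i : ℕ)
    (h : N (-(N ^ 2) x + ((α ^ i) x - x)) = 0) : (N ^ 3) x = 0 := by
  have s1 : N (N x) = (N ^ 2) x := by rw [pow_two]; rfl
  rw [pow_apply_eq hN h4 i] at h
  simp only [map_add, map_sub, map_neg, map_nsmul, pow_succ_apply, s1, h4, nsmul_zero,
    Nat.reduceAdd] at h
  have h1 : i • (N ^ 2) x + i.choose 2 • (N ^ 3) x = (N ^ 3) x := by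
    rw [← sub_eq_zero, ← h]; abel
  have h2 : i • (N ^ 3) x = 0 := by
    have := congrArg N h1
    simpa only [map_add, map_nsmul, pow_succ_apply, h4, nsmul_zero, add_zero, Nat.reduceAdd]
      using this
  by_contra h3
  have hi : p ∣ i := by
    have h5 : addOrderOf ((N ^ 3) x) = p :=
      haveI := Fact.mk hp
      addOrderOf_eq_prime (hW _) h3
    exact h5 ▸ addOrderOf_dvd_of_nsmul_eq_zero h2
  have hi2 : p ∣ i.choose 2 := by
    have h6 : i.choose 2 * 2 = i * (i - 1) := by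
      rw [Nat.choose_two_right, Nat.div_mul_cancel (Nat.two_dvd_mul_sub_one i)]
    have h7 : p ∣ i.choose 2 * 2 := h6 ▸ hi.mul_right _
    exact ((Nat.coprime_primes hp Nat.prime_two).2 hp2).dvd_of_dvd_mul_right h7
  obtain ⟨u, rfl⟩ := hi
  obtain ⟨v, hv⟩ := hi2
  rw [hv, mul_nsmul, mul_nsmul, hW, hW, nsmul_zero, nsmul_zero, add_zero] at h1
  exact h3 h1.symm

theorem bil_zero (n : W →+ W) (hn : ∀ y, n (n y) = 0) (b : ℕ → ℕ → W)
    (hrel : ∀ i j, b (i + 1) (j + 1) + b (i + 1) j + b i (j + 1) = n (b i j))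
    (h5 : ∀ i, b i 5 = 0) (hd : b 2 2 = 0) : b 2 3 = 0 ∧ b 2 4 = 0 ∧ b 3 4 = 0 := by
  have he : ∀ i j, n (b (i + 1) (j + 1)) + n (b (i + 1) j) + n (b i (j + 1)) = 0 := fun i j => by
    rw [← map_add, ← map_add, hrel, hn]
  have e4 : ∀ i, n (b (i + 1) 4) = 0 := fun i => by simpa [h5] using he i 4
  have e23 : n (b 2 3) = 0 := by simpa [e4 1, e4 0] using he 1 3
  have e13 : n (b 1 3) = 0 := by simpa [e23, hd] using he 1 2
  have e04 : n (b 0 4) = 0 := by simpa [e4 0, e13] using he 0 3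
  have b4 : ∀ i, b (i + 1) 4 = n (b i 4) := fun i => by simpa [h5] using hrel i 4
  have b14 : b 1 4 = 0 := by rw [b4, e04]
  have b24 : b 2 4 = 0 := by rw [b4, e4]
  have b34 : b 3 4 = 0 := by rw [b4, e4]
  refine ⟨?_, b24, b34⟩
  simpa [b14, b24, e13] using hrel 1 3

theorem sub_one_pow_pow {R : Type*} [Ring R] [hp : Fact p.Prime] (hR : (p : R) = 0) (x : R) (k : ℕ) :
    (x - 1) ^ p ^ k = x ^ p ^ k - 1 := by
  rcases subsingleton_or_nontrivial R with h | h
  · exact Subsingleton.elim _ _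
  have : CharP R p := (CharP.charP_iff_prime_eq_zero hp.out).mpr hR
  rw [sub_pow_char_pow_of_commute p k (Commute.one_right x), one_pow]

theorem exists_top_vec (N : AddMonoid.End W) {m j : ℕ} (hm : N ^ m = 0) (hj : N ^ j ≠ 0) :
    ∃ v, (N ^ j) v ≠ 0 ∧ (N ^ (j + 1)) v = 0 := by
  classical
  have hex : ∃ k, N ^ (j + k) = 0 := ⟨m, by rw [pow_add, hm, mul_zero]⟩
  have h1 := Nat.find_spec hex
  obtain ⟨k, hk⟩ : ∃ k, Nat.find hex = k + 1 := by
    refine Nat.exists_eq_succ_of_ne_zero fun h => hj ?_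
    rwa [h, add_zero] at h1
  have h2 : N ^ (j + k) ≠ 0 := Nat.find_min hex (by omega)
  obtain ⟨v, hv⟩ : ∃ v, (N ^ (j + k)) v ≠ 0 := by
    by_contra h
    push Not at h
    exact h2 (AddMonoidHom.ext h)
  refine ⟨(N ^ k) v, by rwa [pow_add] at hv, ?_⟩
  change (N ^ (j + 1) * N ^ k) v = 0
  rw [← pow_add, show j + 1 + k = j + (k + 1) by ring, ← hk, h1]
  rfl

end Lin

section Grp

variable {G : Type*} [Group G] {p : ℕ}

/-- `A` is an abelian `p`-subgroup of largest order. -/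
structure MaxAb (p : ℕ) (A : Subgroup G) : Prop where
  pg : IsPGroup p A
  comm : IsMulCommutative A
  max : ∀ X : Subgroup G, IsPGroup p X → IsMulCommutative X → Nat.card X ≤ Nat.card A

theorem MaxAb.card_le {A X C : Subgroup G} (hA : MaxAb p A) (hX : IsPGroup p X)
    (hXc : IsMulCommutative X) (hCA : C ≤ A) (hC : C ≤ centralizer (X : Set G)) :
    Nat.card X * Nat.card C ≤ Nat.card A * Nat.card (X ⊓ C : Subgroup G) := by
  have hn : C ≤ normalizer (X : Set G) := hC.trans (centralizer_le_normalizer _)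
  rw [mul_comm, ← H3.card_sup_mul_card_inf_of_le_normalizer hn, inf_comm]
  refine Nat.mul_le_mul_right _ (hA.max _ ?_ ?_)
  · exact IsPGroup.to_sup_of_normal_right' (hA.pg.to_le hCA) hX hn
  · exact H51.isMulCommutative_sup (H51.isMulCommutative_of_le hA.comm hCA) hXc
      (le_centralizer_iff.1 hC)

/-- Thompson's lemma -/
theorem MaxAb.thompson [Finite G] {A : Subgroup G} (hA : MaxAb p A) (x : G) {M : Subgroup G}
    (hM : M = closure {m | ∃ c ∈ A, ⁅c, x⁆ = m}) (hMp : IsPGroup p M) (hMc : IsMulCommutative M)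
    {m : G} (hm : m ∈ M) : ∃ c ∈ A, m⁻¹ * ⁅c, x⁆ ∈ centralizer (A : Set G) := by
  have hAc := H51.isMulCommutative_iff_forall.1 hA.comm
  have hMc' := H51.isMulCommutative_iff_forall.1 hMc
  have hmem : ∀ c ∈ A, ⁅c, x⁆ ∈ M := fun c hc => hM ▸ subset_closure ⟨c, hc, rfl⟩
  have hmul : ∀ c d : G, ⁅c * d, x⁆ = c * ⁅d, x⁆ * c⁻¹ * ⁅c, x⁆ := fun c d => by
    simp only [commutatorElement_def]; group
  have hconj : ∀ c ∈ A, ∀ d ∈ A, c * ⁅d, x⁆ * c⁻¹ ∈ M := fun c hc d hd => by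
    have : c * ⁅d, x⁆ * c⁻¹ = ⁅c * d, x⁆ * ⁅c, x⁆⁻¹ := by rw [hmul]; group
    rw [this]
    exact M.mul_mem (hmem _ (A.mul_mem hc hd)) (M.inv_mem (hmem c hc))
  have key : ∀ c ∈ A, ∀ d ∈ A, ⁅c, x⁆⁻¹ * ⁅c * d, x⁆ ∈ centralizer (A : Set G) →
      d ∈ centralizer (M : Set G) := by
    intro c hc d hd h
    have h1 : c * ⁅d, x⁆ * c⁻¹ ∈ centralizer (A : Set G) := by
      rwa [hmul, hMc' _ (hconj c hc d hd) _ (hmem c hc), inv_mul_cancel_left] at h
    have h2 : ⁅d, x⁆ ∈ centralizer (A : Set G) := by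
      have h3 := mem_centralizer_iff.1 h1 c hc
      have h4 : c * ⁅d, x⁆ * c⁻¹ = ⁅d, x⁆ := by
        have h5 : c * (c * ⁅d, x⁆ * c⁻¹) = c * ⁅d, x⁆ := by rw [h3]; group
        exact mul_left_cancel h5
      rwa [h4] at h1
    rw [hM, centralizer_closure, mem_centralizer_iff]
    rintro _ ⟨e, he, rfl⟩
    have h5 := hmul d e
    have h6 := hmul e d
    rw [hAc e he d hd, h5, mem_centralizer_iff.1 h2 e he, mul_inv_cancel_right,
      hMc' _ (hmem d hd) _ (hmem e he)] at h6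
    have h7 := mul_right_cancel h6
    calc ⁅e, x⁆ * d = d * ⁅e, x⁆ * d⁻¹ * d := by rw [h7]
      _ = d * ⁅e, x⁆ := by group
  set C := A ⊓ centralizer (M : Set G) with hC
  set E := M ⊓ centralizer (A : Set G) with hE
  let h : A ⧸ C.subgroupOf A → M ⧸ E.subgroupOf M := fun q =>
    QuotientGroup.mk ⟨⁅((q.out : A) : G), x⁆, hmem _ q.out.2⟩
  have hinj : Function.Injective h := by
    intro q q' hq
    rw [← QuotientGroup.out_eq' q, ← QuotientGroup.out_eq' q', QuotientGroup.eq, mem_subgroupOf]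
    have h1 := (mem_subgroupOf.1 (QuotientGroup.eq.1 hq)).2
    have h2 : ((q.out⁻¹ * q'.out : A) : G) ∈ A := (q.out⁻¹ * q'.out).2
    refine ⟨h2, key _ q.out.2 _ h2 ?_⟩
    simpa using h1
  have hcard : Nat.card (M ⧸ E.subgroupOf M) ≤ Nat.card (A ⧸ C.subgroupOf A) := by
    have h1 := hA.card_le hMp hMc (inf_le_left : C ≤ A) inf_le_right
    have h2 : Nat.card (M ⊓ C : Subgroup G) ≤ Nat.card E :=
      card_le_of_le (inf_le_inf_left _ (inf_le_left.trans
        (H51.isMulCommutative_iff_le_centralizer.1 hA.comm)))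
    have h3 := card_eq_card_quotient_mul_card_subgroup (E.subgroupOf M)
    have h4 := card_eq_card_quotient_mul_card_subgroup (C.subgroupOf A)
    rw [Nat.card_congr (subgroupOfEquivOfLe (inf_le_left : E ≤ M)).toEquiv] at h3
    rw [Nat.card_congr (subgroupOfEquivOfLe (inf_le_left : C ≤ A)).toEquiv] at h4
    have h5 := h1.trans (Nat.mul_le_mul_left _ h2)
    rw [h3, h4] at h5
    refine Nat.le_of_mul_le_mul_right (c := Nat.card E * Nat.card C) ?_
      (Nat.mul_pos Nat.card_pos Nat.card_pos)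
    calc _ = Nat.card (M ⧸ E.subgroupOf M) * Nat.card E * Nat.card C := by ring
      _ ≤ _ := h5
      _ = _ := by ring
  obtain ⟨q, hq⟩ := (hinj.bijective_of_nat_card_le hcard).2 (QuotientGroup.mk ⟨m, hm⟩)
  exact ⟨_, q.out.2, (mem_subgroupOf.1 (QuotientGroup.eq.1 hq.symm)).2⟩

theorem stab_eq_one {x t h : G} {m n : ℕ} (hmn : m.Coprime n) (hx : x ^ m = 1) (hh : h ^ n = 1)
    (hc : x * h = h * x) (ht : x * t * x⁻¹ = t * h) : h = 1 := by
  have key : ∀ n : ℕ, x ^ n * t * (x ^ n)⁻¹ = t * h ^ n := by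
    intro n
    induction n with
    | zero => simp
    | succ n ih =>
      have hc' : x * h ^ n * x⁻¹ = h ^ n := by
        rw [(show Commute x h from hc).pow_right n |>.eq, mul_inv_cancel_right]
      calc x ^ (n + 1) * t * (x ^ (n + 1))⁻¹ = x * (x ^ n * t * (x ^ n)⁻¹) * x⁻¹ := by
            rw [pow_succ']; group
        _ = (x * t * x⁻¹) * (x * h ^ n * x⁻¹) := by rw [ih]; group
        _ = t * h ^ (n + 1) := by rw [ht, hc', pow_succ', mul_assoc]
  have h1 := key m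
  rw [hx] at h1
  have h2 : h ^ m = 1 := by simpa using h1.symm
  have h4 : orderOf h ∣ Nat.gcd m n :=
    Nat.dvd_gcd (orderOf_dvd_of_pow_eq_one h2) (orderOf_dvd_of_pow_eq_one hh)
  rw [hmn] at h4
  exact orderOf_eq_one_iff.1 (Nat.dvd_one.1 h4)

/-- a `p'`-element stabilising the chain `1 ≤ Z ≤ B` of `p`-subgroups centralises `B` -/
theorem mem_centralizer_of_stab {B Z : Subgroup G} (hZ : IsPGroup p Z) {y : G}
    (hy : (orderOf y).Coprime p) (h1 : y ∈ centralizer (Z : Set G))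
    (h2 : ∀ b ∈ B, b⁻¹ * (y * b * y⁻¹) ∈ Z) : y ∈ centralizer (B : Set G) := by
  refine mem_centralizer_iff.2 fun t ht => ?_
  obtain ⟨i, hi⟩ := hZ ⟨_, h2 t ht⟩
  have hi' : (t⁻¹ * (y * t * y⁻¹)) ^ p ^ i = 1 := congrArg Subtype.val hi
  have h6 := stab_eq_one (hy.pow_right i) (pow_orderOf_eq_one y) hi'
    (mem_centralizer_iff.1 h1 _ (h2 t ht)).symm (t := t) (by group)
  calc t * y = t * (t⁻¹ * (y * t * y⁻¹)) * y := by rw [h6]; group
    _ = y * t := by group

end Grp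

end Cfsg.Agent.H33.JA
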