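import Cfsg.Agent.H33.JA1
import Cfsg.Agent.S0058

/-!
For `p ≥ 5`, in a group of characteristic `p` whose `p'`-elements commute modulo `O_p`, each abelian
`p`-subgroup of largest order lies in `O_p`.
-/

set_option autoImplicit false

namespace Cfsg.Agent.H33.JA

open Subgroup
open scoped commutatorElement

universe u

variable {G : Type u} [Group G] {p : ℕ}

/-- an elementary abelian normal section as a module -/
theorem exists_module (B Z : Subgroup G) [hB : B.Normal] [Z.Normal]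
    (hc : ∀ x ∈ B, ∀ y ∈ B, ⁅x, y⁆ ∈ Z) (hp : ∀ x ∈ B, x ^ p ∈ Z) :
    ∃ (W : Type u) (_ : AddCommGroup W) (ρ : G →* AddMonoid.End W) (ι : G → W),
      (∀ w : W, p • w = 0) ∧ (∀ b ∈ B, ι b = 0 ↔ b ∈ Z) ∧
      (∀ b ∈ B, ∀ b' ∈ B, ι (b * b') = ι b + ι b') ∧ (∀ b ∈ B, ι b⁻¹ = - ι b) ∧
      (∀ w, ∃ b ∈ B, ι b = w) ∧ (∀ g, ∀ b ∈ B, ι (g * b * g⁻¹) = ρ g (ι b)) := by
  classical
  let π := QuotientGroup.mk' Z
  let U := B.map π
  have hUn : U.Normal := hB.map _ (QuotientGroup.mk'_surjective Z)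
  let : CommGroup U :=
    { mul_comm := by
        rintro ⟨_, x, hx, rfl⟩ ⟨_, y, hy, rfl⟩
        apply Subtype.ext
        change π x * π y = π y * π x
        rw [← commutatorElement_eq_one_iff_mul_comm, ← map_commutatorElement]
        exact (QuotientGroup.eq_one_iff _).mpr (hc x hx y hy) }
  let ι : G → Additive U := fun g => if h : g ∈ B then Additive.ofMul ⟨π g, g, h, rfl⟩ else 0
  have hι : ∀ b (h : b ∈ B), ι b = Additive.ofMul ⟨π b, b, h, rfl⟩ := fun b h => dif_pos h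
  refine ⟨Additive U, inferInstance, (H54.autToEnd U).comp ((MulAut.conjNormal (H := U)).comp π),
    ι, ?_, fun b hb => ?_, fun b hb b' hb' => ?_, fun b hb => ?_, ?_, fun g b hb => ?_⟩
  · rintro ⟨_, x, hx, rfl⟩
    apply Subtype.ext
    change π x ^ p = 1
    rw [← map_pow]
    exact (QuotientGroup.eq_one_iff _).mpr (hp x hx)
  · rw [hι b hb, ← QuotientGroup.eq_one_iff]
    exact Subtype.ext_iff
  · rw [hι b hb, hι b' hb', hι _ (B.mul_mem hb hb')]
    rfl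
  · rw [hι b hb, hι _ (B.inv_mem hb)]
    rfl
  · rintro ⟨_, x, hx, rfl⟩
    exact ⟨x, hx, hι x hx⟩
  · rw [hι b hb, hι _ (hB.conj_mem b hb g)]
    rfl

theorem natCast_end {W : Type*} [AddCommGroup W] (hW : ∀ w : W, p • w = 0) :
    (p : AddMonoid.End W) = 0 := by
  ext w
  rw [AddMonoid.End.natCast_apply]
  exact hW w

theorem nilp {W : Type*} [AddCommGroup W] [Fact p.Prime] (hW : ∀ w : W, p • w = 0)
    (ρ : G →* AddMonoid.End W) {a : G} {k : ℕ} (ha : a ^ p ^ k = 1) : (ρ a - 1) ^ p ^ k = 0 := by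
  rw [sub_one_pow_pow (natCast_end hW), ← map_pow, ha, map_one, sub_self]

/-- `A` acts quadratically on an elementary abelian normal subgroup on which it induces a cyclic
group -/
theorem quad [Finite G] [hp : Fact p.Prime] (hp3 : 3 ≤ p) {A T Y : Subgroup G} (hA : MaxAb p A)
    {a : G} (ha : a ∈ A) (hcyc : ∀ c ∈ A, ∃ i : ℕ, ∃ t ∈ T, c = a ^ i * t) [hYn : Y.Normal]
    (hYc : IsMulCommutative Y) (hYp : ∀ y ∈ Y, y ^ p = 1) (hTY : T ≤ centralizer (Y : Set G))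
    {y : G} (hy : y ∈ Y) : ⁅a, ⁅a, y⁆⁆ = 1 := by
  have hYc' := H51.isMulCommutative_iff_forall.1 hYc
  have hNY : ∀ y ∈ Y, ⁅a, y⁆ ∈ Y := fun y hy => Y.mul_mem (hYn.conj_mem y hy a) (Y.inv_mem hy)
  obtain ⟨W, _, ρ, ι, hW, h0, hmul, hinv, hsurj, hconj⟩ := exists_module (p := p) Y ⊥
    (fun x hx y hy => commutatorElement_eq_one_iff_mul_comm.2 (hYc' x hx y hy)) hYp
  obtain ⟨N, hN⟩ : ∃ N, N = ρ a - 1 := ⟨_, rfl⟩
  have hιN : ∀ y ∈ Y, ι ⁅a, y⁆ = N (ι y) := fun y hy => by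
    rw [commutatorElement_def, hmul _ (hYn.conj_mem y hy a) _ (Y.inv_mem hy), hconj a y hy,
      hinv y hy, hN, ← sub_eq_add_neg]
    rfl
  have hN2 : ∀ w, (N ^ 2) w = N (N w) := fun w => by rw [pow_two]; rfl
  suffices h : N ^ 2 = 0 by
    refine (h0 _ (hNY _ (hNY y hy))).1 ?_
    rw [hιN _ (hNY y hy), hιN y hy, ← hN2, h]
    rfl
  by_contra hne
  obtain ⟨k, hk⟩ := hA.pg ⟨a, ha⟩
  obtain ⟨v, hv2, hv3⟩ := exists_top_vec N (hN ▸ nilp hW ρ (congrArg Subtype.val hk)) hne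
  obtain ⟨z, hz, rfl⟩ := hsurj v
  set X := Y ⊓ centralizer ({a ^ p} : Set G) with hX
  have hXmem : ∀ y ∈ Y, (N ^ 3) (ι y) = 0 → y ∈ X := by
    intro y hy h3
    refine ⟨hy, mem_centralizer_singleton_iff.2 ?_⟩
    have h1 : ι (a ^ p * y * (a ^ p)⁻¹ * y⁻¹) = 0 := by
      rw [hmul _ (hYn.conj_mem y hy _) _ (Y.inv_mem hy), hconj _ y hy, hinv y hy, map_pow,
        ← sub_eq_add_neg]
      have h2 := sub_one_pow_pow (natCast_end hW) (ρ a) 1
      rw [pow_one, ← hN] at h2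
      change (ρ a ^ p - 1) (ι y) = 0
      rw [← h2, show p = p - 3 + 3 by omega, pow_add]
      change (N ^ (p - 3)) ((N ^ 3) (ι y)) = 0
      rw [h3, map_zero]
    have h2 := (h0 _ (Y.mul_mem (hYn.conj_mem y hy _) (Y.inv_mem hy))).1 h1
    rw [mem_bot, mul_inv_eq_one, mul_inv_eq_iff_eq_mul] at h2
    exact h2.symm
  have hz1 : z ∈ X := hXmem z hz hv3
  have hz2 : ⁅a, z⁆ ∈ X := hXmem _ (hNY z hz) (by
    rw [hιN z hz]
    change (N ^ 3 * N) (ι z) = 0
    rw [← pow_succ, ← pow_succ_apply, hv3, map_zero])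
  set C := A ⊓ centralizer (X : Set G) with hC
  have hAc := H51.isMulCommutative_iff_forall.1 hA.comm
  have hi : Nat.card (A ⧸ C.subgroupOf A) ≤ p := by
    let f : Fin p → A ⧸ C.subgroupOf A := fun i => QuotientGroup.mk (⟨a, ha⟩ ^ (i : ℕ))
    refine (Nat.card_le_card_of_surjective f fun q => ?_).trans (by simp)
    obtain ⟨c, rfl⟩ := QuotientGroup.mk_surjective q
    obtain ⟨i, t, ht, hc⟩ := hcyc c c.2
    refine ⟨⟨i % p, Nat.mod_lt _ hp.out.pos⟩, QuotientGroup.eq.2 (mem_subgroupOf.2 ⟨(_ : A).2, ?_⟩)⟩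
    have h1 : (((⟨a, ha⟩ ^ (i % p) : A)⁻¹ * c : A) : G) = (a ^ p) ^ (i / p) * t := by
      rw [coe_mul, coe_inv, coe_pow, hc, ← pow_mul]
      conv_lhs => rw [show a ^ i = a ^ (i % p) * a ^ (p * (i / p)) by
        rw [← pow_add, Nat.mod_add_div]]
      rw [mul_assoc, inv_mul_cancel_left]
    change (((⟨a, ha⟩ ^ (i % p) : A)⁻¹ * c : A) : G) ∈ _
    rw [h1]
    refine mul_mem (pow_mem ?_ _) (centralizer_le (SetLike.coe_subset_coe.2 inf_le_left) (hTY ht))
    exact mem_centralizer_iff.2 fun x hx => mem_centralizer_singleton_iff.1 hx.2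
  have hXp : IsPGroup p X := fun x => ⟨1, Subtype.ext (by simpa using hYp x x.2.1)⟩
  let ν : X →* G := MonoidHom.mk' (fun x => ⁅a, (x : G)⁆) fun x y => by
    have h1 := hYc' _ (Y.inv_mem x.2.1) _ (hNY y y.2.1)
    calc ⁅a, ((x * y : X) : G)⁆ = a * x * a⁻¹ * (⁅a, (y : G)⁆ * (x : G)⁻¹) := by
          rw [coe_mul]; simp only [commutatorElement_def]; group
      _ = _ := by rw [← h1]; simp only [commutatorElement_def]; group
  have hr : Nat.card ν.range ≤ p := by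
    have h1 := hA.card_le hXp (H51.isMulCommutative_of_le hYc inf_le_left) (inf_le_left : C ≤ A)
      inf_le_right
    have h2 : Nat.card (X ⊓ C : Subgroup G) ≤ Nat.card ν.ker := by
      rw [← card_map_of_injective (K := ν.ker) X.subtype_injective]
      refine card_le_of_le fun x hx => ⟨⟨x, hx.1⟩, ?_, rfl⟩
      exact commutatorElement_eq_one_iff_mul_comm.2 (hAc a ha x hx.2.1)
    have h3 := card_eq_card_quotient_mul_card_subgroup (C.subgroupOf A)
    rw [Nat.card_congr (subgroupOfEquivOfLe (inf_le_left : C ≤ A)).toEquiv] at h3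
    have h4 := card_mul_index ν.ker
    rw [index_ker] at h4
    rw [← h4, h3] at h1
    refine Nat.le_of_mul_le_mul_right (c := Nat.card ν.ker * Nat.card C) ?_
      (Nat.mul_pos Nat.card_pos Nat.card_pos)
    calc _ = Nat.card ν.ker * Nat.card ν.range * Nat.card C := by ring
      _ ≤ _ := h1
      _ ≤ p * Nat.card C * Nat.card ν.ker := Nat.mul_le_mul (Nat.mul_le_mul_right _ hi) h2
      _ = _ := by ring
  have hv : ⁅a, ⁅a, z⁆⁆ ≠ 1 := fun h => hv2 (by
    rw [hN2, ← hιN z hz, ← hιN _ (hNY z hz), h]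
    exact (h0 1 Y.one_mem).2 (mem_bot.2 rfl))
  have hv' : a * ⁅a, ⁅a, z⁆⁆ = ⁅a, ⁅a, z⁆⁆ * a := by
    rw [← commutatorElement_eq_one_iff_mul_comm]
    refine (h0 _ (hNY _ (hNY _ (hNY z hz)))).1 ?_
    rw [hιN _ (hNY _ (hNY z hz)), hιN _ (hNY z hz), hιN z hz, ← hN2 (ι z), pow_succ_apply]
    exact hv3
  have h5 : zpowers ⁅a, ⁅a, z⁆⁆ = ν.range := by
    refine eq_of_le_of_card_ge (zpowers_le.2 ⟨⟨_, hz2⟩, rfl⟩) ?_
    rwa [Nat.card_zpowers, orderOf_eq_prime (hYp _ (hNY _ (hNY z hz))) hv]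
  have h6 : ⁅a, z⁆ ∈ zpowers ⁅a, ⁅a, z⁆⁆ := h5 ▸ ⟨⟨z, hz1⟩, rfl⟩
  obtain ⟨j, hj⟩ := h6
  beta_reduce at hj
  refine hv (commutatorElement_eq_one_iff_commute.2 ?_)
  rw [← hj]
  exact Commute.zpow_right hv' j

theorem cyc [Finite G] [hp : Fact p.Prime] (hR : H54.AbRes p G) {A : Subgroup G}
    (hA : IsPGroup p A) (hAc : IsMulCommutative A) (hAT : ¬ A ≤ pCore p G)
    (hmin : ∀ H : Subgroup G, H ≠ ⊤ → pCore p G ≤ H → A ≤ H → A ≤ (pCore p H).map H.subtype) :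
    ∃ a ∈ A, ∀ c ∈ A, ∃ i : ℕ, ∃ t ∈ pCore p G, c = a ^ i * t := by
  let π := QuotientGroup.mk' (pCore p G)
  have hs : Function.Surjective π := QuotientGroup.mk'_surjective _
  have hO : pCore p (G ⧸ pCore p G) = ⊥ := H3.pCore_quotient_pCore p G
  have hc : ∀ x y : G ⧸ pCore p G, (orderOf x).Coprime p → (orderOf y).Coprime p →
      x * y = y * x := by
    obtain ⟨P, hPn, hP, h⟩ := hR.of_surjective π hs
    intro x y hx hy
    have h1 := H3.le_pCore hP (h x y hx hy)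
    rwa [hO, mem_bot, commutatorElement_eq_one_iff_mul_comm] at h1
  have hRc := H54.pResidual_coprime hc
  have hRn := H8.pResidual_normal (G := G ⧸ pCore p G) p
  have hA' : IsPGroup p (A.map π) := hA.map π
  have hAc' : IsMulCommutative (A.map π) := H51.isMulCommutative_map hAc π
  have hcy : IsCyclic (A.map π) := by
    by_contra hn
    have h1 : pResidual p (G ⧸ pCore p G) ≤ centralizer ((A.map π : Subgroup _) : Set _) := by
      refine H4.le_of_centralizer_singleton_le hn le_normalizer_of_normal ?_ ?_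
      · obtain ⟨k, hk⟩ := IsPGroup.iff_card.1 hA'
        rw [hk]
        exact (Nat.Coprime.pow_right k hRc).symm
      · rintro c hcA hc1 d ⟨hd1, hd2⟩
        have hH : (centralizer ({c} : Set (G ⧸ pCore p G))).comap π ≠ ⊤ := by
          intro h
          obtain ⟨k, hk⟩ := hA' ⟨c, hcA⟩
          have h2 := H54.mem_pCore_of_mem_centralizer_pResidual (congrArg Subtype.val hk)
            (mem_centralizer_iff.2 fun y _ => by
              obtain ⟨y, rfl⟩ := hs y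
              exact mem_centralizer_singleton_iff.1 (mem_comap.1 (h.ge (mem_top y))))
          rw [hO] at h2
          exact hc1 h2
        have h3 := hmin _ hH (fun t ht => by
            rw [mem_comap, show π t = 1 from (QuotientGroup.eq_one_iff t).2 ht]
            exact one_mem _)
          (fun e he => mem_comap.2 (mem_centralizer_singleton_iff.2
            (H51.isMulCommutative_iff_forall.1 hAc' _ ⟨e, he, rfl⟩ _ hcA)))
        obtain ⟨d, rfl⟩ := hs d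
        refine mem_centralizer_iff.2 ?_
        rintro _ ⟨e, he, rfl⟩
        have h4 : ⁅d, e⁆ ∈ (pCore p ((centralizer ({c} : Set (G ⧸ pCore p G))).comap π)).map
            (Subgroup.subtype _) :=
          mul_mem ((mem_normalizer_iff.1 (H3.normalizer_le_normalizer_map_pCore _
            (le_normalizer (mem_comap.2 hd2))) e).1 (h3 he)) (inv_mem (h3 he))
        have h5 : π ⁅d, e⁆ ∈ pResidual p (G ⧸ pCore p G) := by
          rw [map_commutatorElement, commutatorElement_def, mul_assoc, mul_assoc, ← mul_assoc (π e)]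
          exact mul_mem hd1 (hRn.conj_mem _ (inv_mem hd1) _)
        have h6 : π ⁅d, e⁆ = 1 :=
          H8.eq_one_of_mem_of_coprime ((H3.map_pCore_isPGroup _).map π) ⟨_, h4, rfl⟩
            (hRc.coprime_dvd_left (orderOf_dvd_natCard _ h5))
        rw [map_commutatorElement, commutatorElement_eq_one_iff_mul_comm] at h6
        exact h6.symm
    refine hAT fun e he => ?_
    obtain ⟨k, hk⟩ := hA' ⟨π e, e, he, rfl⟩
    have h2 := H54.mem_pCore_of_mem_centralizer_pResidual (congrArg Subtype.val hk)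
      (le_centralizer_iff.1 h1 ⟨e, he, rfl⟩)
    rw [hO] at h2
    exact (QuotientGroup.eq_one_iff e).1 h2
  obtain ⟨⟨_, a, ha, rfl⟩, hg⟩ := IsCyclic.exists_monoid_generator (α := A.map π)
  refine ⟨a, ha, fun c hc => ?_⟩
  obtain ⟨i, hi⟩ := hg ⟨π c, c, hc, rfl⟩
  have hi' : π a ^ i = π c := congrArg Subtype.val hi
  refine ⟨i, (a ^ i)⁻¹ * c, ?_, by group⟩
  rw [← QuotientGroup.eq]
  exact hi'

theorem exists_BZ [Finite G] [hp : Fact p.Prime] (hC : centralizer (pCore p G : Set G) ≤ pCore p G)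
    (hG : pCore p G ≠ ⊤) : ∃ B Z : Subgroup G, IsChiefFactor B Z ∧ B ≤ pCore p G ∧
      B ≤ centralizer (Z : Set G) ∧ pResidual p G ≤ centralizer (Z : Set G) ∧
      ¬ pResidual p G ≤ centralizer (B : Set G) := by
  have hKn := H8.pResidual_normal (G := G) p
  have hT := H3.pCore_isPGroup p G
  have h0 : ¬ pResidual p G ≤ centralizer (pCore p G : Set G) := by
    intro h
    refine hG (H3.pCore_eq_top_iff.2 (H8.pResidual_eq_bot_iff.1 (eq_bot_iff.2 ?_)))
    exact H8.pResidual_le_iff.2 fun y hy =>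
      H8.eq_one_of_mem_of_coprime hT (hC (h (H8.mem_pResidual_of_coprime hy))) hy
  obtain ⟨B, ⟨hBn, hBT, hBK⟩, hmin⟩ := Set.exists_min_image
    {B : Subgroup G | B.Normal ∧ B ≤ pCore p G ∧ ¬ pResidual p G ≤ centralizer (B : Set G)}
    (fun B => Nat.card B) (Set.toFinite _) ⟨_, inferInstance, le_rfl, h0⟩
  have hmin' : ∀ N : Subgroup G, N.Normal → N ≤ B → N ≠ B →
      pResidual p G ≤ centralizer (N : Set G) := by
    intro N hN h1 h2
    by_contra h
    exact h2 (eq_of_le_of_card_ge h1 (hmin N ⟨hN, h1.trans hBT, h⟩))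
  refine ⟨B, B ⊓ centralizer (pResidual p G : Set G), ⟨?_, hBn, inferInstance, fun N hN h1 h2 => ?_⟩,
    hBT, ?_, le_centralizer_iff.1 inf_le_right, hBK⟩
  · exact lt_of_le_of_ne inf_le_left fun h => hBK (le_centralizer_iff.1 (h.ge.trans inf_le_right))
  · by_cases h : N = B
    · exact Or.inr h
    · exact Or.inl (le_antisymm (le_inf h2 (le_centralizer_iff.1 (hmin' N hN h2 h))) h1)
  · have h1 : ⁅B, pResidual p G⁆ = B := by
      by_contra h
      have h2 := hmin' _ inferInstance (commutator_le_left _ _) h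
      refine hBK (H8.pResidual_le_iff.2 fun y hy => ?_)
      have hyK := H8.mem_pResidual_of_coprime hy
      refine mem_centralizer_of_stab (hT.to_le ((commutator_le_left _ _).trans hBT)) hy (h2 hyK)
        fun b hb => ?_
      have := commutator_mem_commutator (B.inv_mem hb) hyK
      simpa [commutatorElement_def, mul_assoc] using this
    exact (h1.ge.trans (commutator_le_right _ _)).trans (le_centralizer_iff.1 inf_le_right)

/-- the Hall-Higman step -/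
theorem hh [Finite G] [hp : Fact p.Prime] (hR : H54.AbRes p G) {W : Type*} [AddCommGroup W]
    (hW : ∀ w : W, p • w = 0) (ρ : G →* AddMonoid.End W) (hT : pCore p G ≤ ρ.ker) {A : Subgroup G}
    {a : G} (hcyc : ∀ c ∈ A, ∃ i : ℕ, ∃ t ∈ pCore p G, c = a ^ i * t) (hAT : ¬ A ≤ pCore p G)
    (hmin : ∀ H : Subgroup G, H ≠ ⊤ → pCore p G ≤ H → A ≤ H → A ≤ (pCore p H).map H.subtype)
    (ha : (ρ a - 1) ^ (p - 1) = 0) {y : G} (hy : (orderOf y).Coprime p) : ρ y = 1 := by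
  let π := QuotientGroup.mk' ρ.ker
  have hs : Function.Surjective π := QuotientGroup.mk'_surjective _
  let σ : G ⧸ ρ.ker →* AddMonoid.End W := QuotientGroup.lift ρ.ker ρ le_rfl
  have hσ : Function.Injective σ := by
    rw [injective_iff_map_eq_one]
    intro x hx
    obtain ⟨x, rfl⟩ := hs x
    exact (QuotientGroup.eq_one_iff x).2 hx
  have hc : ∀ x y : G ⧸ ρ.ker, (orderOf x).Coprime p → (orderOf y).Coprime p → x * y = y * x := by
    obtain ⟨P, hPn, hP, h⟩ := hR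
    intro x y hx hy
    obtain ⟨x, rfl⟩ := hs x
    obtain ⟨y, rfl⟩ := hs y
    obtain ⟨x', hx', ex⟩ := H54.exists_coprime_preimage π x hx
    obtain ⟨y', hy', ey⟩ := H54.exists_coprime_preimage π y hy
    rw [← ex, ← ey, ← commutatorElement_eq_one_iff_mul_comm, ← map_commutatorElement]
    exact (QuotientGroup.eq_one_iff _).2 (hT (H3.le_pCore hP (h x' y' hx' hy')))
  have h1 : π a ∈ pCore p (G ⧸ ρ.ker) :=
    H54.mem_pCore_of_sub_one_pow hc σ hσ (natCast_end hW) ha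
  have hTN : pCore p G ≤ (pCore p (G ⧸ ρ.ker)).comap π := fun t ht => by
    rw [mem_comap, show π t = 1 from (QuotientGroup.eq_one_iff t).2 (hT ht)]
    exact one_mem _
  have h2 : (pCore p (G ⧸ ρ.ker)).comap π = ⊤ := by
    by_contra h
    refine hAT ((hmin _ h hTN fun c hc => ?_).trans (H3.map_pCore_le_pCore _))
    obtain ⟨i, t, ht, rfl⟩ := hcyc c hc
    exact mul_mem (pow_mem (mem_comap.2 h1) i) (hTN ht)
  have h3 : π y = 1 := H8.eq_one_of_mem_of_coprime (H3.pCore_isPGroup p _)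
    (mem_comap.1 (h2.ge (mem_top y))) (hy.coprime_dvd_left (orderOf_map_dvd π y))
  exact (QuotientGroup.eq_one_iff y).1 h3

theorem step [Finite G] [hp : Fact p.Prime] (hp5 : 5 ≤ p) (hR : H54.AbRes p G)
    (hC : centralizer (pCore p G : Set G) ≤ pCore p G) {A : Subgroup G} (hA : MaxAb p A)
    (hmin : ∀ H : Subgroup G, H ≠ ⊤ → pCore p G ≤ H → A ≤ H → A ≤ (pCore p H).map H.subtype) :
    A ≤ pCore p G := by
  by_contra hAT
  obtain ⟨a, ha, hcyc⟩ := cyc hR hA.pg hA.comm hAT hmin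
  obtain ⟨B, Z, hBZ, hBT, hBC, hKZ, hKB⟩ := exists_BZ hC fun h => hAT (h ▸ le_top)
  have hBn := hBZ.2.1
  have hZn := hBZ.2.2.1
  have hZB : Z ≤ B := hBZ.1.le
  have hT := H3.pCore_isPGroup p G
  have hBp : IsPGroup p B := hT.to_le hBT
  have hTB : ∀ t ∈ pCore p G, ∀ b ∈ B, ⁅t, b⁆ ∈ Z := fun t ht b hb => by
    rw [← commutatorElement_inv]
    exact Z.inv_mem (H54.chief_commutator_le_of_isPGroup hBZ hBp hT
      (commutator_mem_commutator hb ht))
  have hc : ∀ x ∈ B, ∀ y ∈ B, ⁅x, y⁆ ∈ Z := fun x hx y hy => hTB x (hBT hx) y hy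
  have hz : ∀ z ∈ Z, ∀ b ∈ B, z * b = b * z := fun z hz b hb => mem_centralizer_iff.1 (hBC hb) z hz
  have hpw : ∀ x ∈ B, x ^ p ∈ Z := fun x hx => H54.chief_pow_mem hBZ hBp hx
  have hl : ∀ x ∈ B, ∀ x' ∈ B, ∀ y ∈ B, ⁅x * x', y⁆ = ⁅x, y⁆ * ⁅x', y⁆ := by
    intro x hx x' hx' y hy
    calc ⁅x * x', y⁆ = x * ⁅x', y⁆ * x⁻¹ * ⁅x, y⁆ := by simp only [commutatorElement_def]; group
      _ = _ := by
        rw [← hz _ (hc x' hx' y hy) x hx, mul_inv_cancel_right,
          hz _ (hc x' hx' y hy) _ (hZB (hc x hx y hy))]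
  have hr : ∀ x ∈ B, ∀ y ∈ B, ∀ y' ∈ B, ⁅x, y * y'⁆ = ⁅x, y⁆ * ⁅x, y'⁆ := by
    intro x hx y hy y' hy'
    calc ⁅x, y * y'⁆ = ⁅x, y⁆ * (y * ⁅x, y'⁆ * y⁻¹) := by simp only [commutatorElement_def]; group
      _ = _ := by rw [← hz _ (hc x hx y' hy') y hy, mul_inv_cancel_right]
  have hzl : ∀ z ∈ Z, ∀ b ∈ B, ⁅z, b⁆ = 1 := fun z hz' b hb =>
    commutatorElement_eq_one_iff_mul_comm.2 (hz z hz' b hb)
  have hzr : ∀ b ∈ B, ∀ z ∈ Z, ⁅b, z⁆ = 1 := fun b hb z hz' =>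
    commutatorElement_eq_one_iff_mul_comm.2 (hz z hz' b hb).symm
  have hcj : ∀ g : G, ∀ x y : G, g * ⁅x, y⁆ * g⁻¹ = ⁅⁅g, x⁆ * x, ⁅g, y⁆ * y⁆ := fun g x y => by
    simp only [commutatorElement_def]; group
  have hNB : ∀ g : G, ∀ b ∈ B, ⁅g, b⁆ ∈ B := fun g b hb =>
    B.mul_mem (hBn.conj_mem b hb g) (B.inv_mem hb)
  -- the derived subgroup of `B`
  have hYZ : ⁅B, B⁆ ≤ Z := commutator_le.2 hc
  have hYc : IsMulCommutative (⁅B, B⁆ : Subgroup G) :=
    H51.isMulCommutative_iff_forall.2 fun x hx y hy => hz x (hYZ hx) y (hZB (hYZ hy))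
  have hYp : ∀ y ∈ ⁅B, B⁆, y ^ p = 1 := by
    intro y hy
    refine H51.pow_eq_one_of_mem_closure hYc ?_ y hy
    rintro _ ⟨x, hx, y, hy, rfl⟩
    have h1 : ∀ n : ℕ, ⁅x ^ n, y⁆ = ⁅x, y⁆ ^ n := fun n => by
      induction n with
      | zero => simp
      | succ n ih => rw [pow_succ, hl _ (B.pow_mem hx n) x hx y hy, ih, pow_succ]
    rw [← h1, hzl _ (hpw x hx) y hy]
  have hTY : pCore p G ≤ centralizer ((⁅B, B⁆ : Subgroup G) : Set G) := by
    refine le_centralizer_iff.1 (commutator_le.2 fun x hx y hy => mem_centralizer_iff.2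
      fun t ht => ?_)
    have h1 := hcj t x y
    rw [hl _ (hNB t x hx) x hx _ (B.mul_mem (hNB t y hy) hy), hzl _ (hTB t ht x hx) _
      (B.mul_mem (hNB t y hy) hy), hr x hx _ (hNB t y hy) y hy, hzr x hx _ (hTB t ht y hy),
      one_mul, one_mul] at h1
    exact mul_inv_eq_iff_eq_mul.1 h1
  have hquad := fun y hy => quad (by omega) hA ha hcyc hYc hYp hTY (y := y) hy
  -- the chief factor as a module
  obtain ⟨W, _, ρ, ι, hW, h0, hmul, hinv, hsurj, hconj⟩ := exists_module (p := p) B Z hc hpw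
  have hιc : ∀ g, ∀ b ∈ B, ι ⁅g, b⁆ = ρ g (ι b) - ι b := fun g b hb => by
    rw [commutatorElement_def, hmul _ (hBn.conj_mem b hb g) _ (B.inv_mem hb), hconj g b hb,
      hinv b hb, ← sub_eq_add_neg]
  have hTρ : pCore p G ≤ ρ.ker := fun t ht => by
    refine AddMonoidHom.ext fun w => ?_
    obtain ⟨b, hb, rfl⟩ := hsurj w
    have := (h0 _ (hNB t b hb)).2 (hTB t ht b hb)
    rwa [hιc t b hb, sub_eq_zero] at this
  obtain ⟨N, hN⟩ : ∃ N, N = ρ a - 1 := ⟨_, rfl⟩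
  have hιN : ∀ b ∈ B, ι ⁅a, b⁆ = N (ι b) := fun b hb => by rw [hιc a b hb, hN]; rfl
  have hN4 : N ^ 4 ≠ 0 := by
    intro h
    refine hKB (H8.pResidual_le_iff.2 fun y hy => ?_)
    have h1 := hh hR hW ρ hTρ hcyc hAT hmin (by
      rw [← hN, show p - 1 = p - 5 + 4 by omega, pow_add, h, mul_zero]) hy
    refine mem_centralizer_of_stab (hBp.to_le hZB) hy (hKZ (H8.mem_pResidual_of_coprime hy))
      fun b hb => (h0 _ (B.mul_mem (B.inv_mem hb) (hBn.conj_mem b hb y))).1 ?_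
    rw [hmul _ (B.inv_mem hb) _ (hBn.conj_mem b hb y), hinv b hb, hconj y b hb, h1]
    exact neg_add_cancel _
  obtain ⟨k, hk⟩ := hA.pg ⟨a, ha⟩
  obtain ⟨v, hv4, hv5⟩ := exists_top_vec N (hN ▸ nilp hW ρ (congrArg Subtype.val hk)) hN4
  obtain ⟨w₀, hw₀, rfl⟩ := hsurj v
  obtain ⟨w, hw0, hws⟩ : ∃ w : ℕ → G, w 0 = w₀ ∧ ∀ i, w (i + 1) = ⁅a, w i⁆ :=
    ⟨fun i => (fun u => ⁅a, u⁆)^[i] w₀, rfl, fun i => Function.iterate_succ_apply' _ _ _⟩
  have hwB : ∀ i, w i ∈ B := fun i => by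
    induction i with
    | zero => rwa [hw0]
    | succ i ih => rw [hws]; exact hNB a _ ih
  have hwι : ∀ i, ι (w i) = (N ^ i) (ι w₀) := fun i => by
    induction i with
    | zero => rw [hw0]; rfl
    | succ i ih => rw [hws, hιN _ (hwB i), ih, pow_succ_apply]
  have hw1 : ∀ i, (N ^ i) (ι (w 1)) = ι (w (i + 1)) := fun i => by
    rw [hwι, hwι, pow_one, pow_succ]; rfl
  have hw5 : w 5 ∈ Z := (h0 _ (hwB 5)).1 (by rw [hwι]; exact hv5)
  -- `w 2`, `w 3`, `w 4` commute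
  have hcomm : ⁅w 2, w 3⁆ = 1 ∧ ⁅w 2, w 4⁆ = 1 ∧ ⁅w 3, w 4⁆ = 1 := by
    obtain ⟨W', _, ρ', ι', -, h0', hmul', hinv', hsurj', hconj'⟩ := exists_module (p := p) ⁅B, B⁆ ⊥
      (fun x hx y hy => hzl x (hYZ hx) y (hZB (hYZ hy))) hYp
    have hYn : (⁅B, B⁆ : Subgroup G).Normal := inferInstance
    have hι' : ∀ y ∈ ⁅B, B⁆, ι' ⁅a, y⁆ = (ρ' a - 1) (ι' y) := fun y hy => by
      rw [commutatorElement_def, hmul' _ (hYn.conj_mem y hy a) _ (inv_mem hy), hconj' a y hy,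
        hinv' y hy, ← sub_eq_add_neg]
      rfl
    have hm : ∀ i j, ⁅w i, w j⁆ ∈ ⁅B, B⁆ := fun i j => commutator_mem_commutator (hwB i) (hwB j)
    have h1 : ι' 1 = 0 := (h0' 1 (one_mem _)).2 (mem_bot.2 rfl)
    obtain ⟨e1, e2, e3⟩ := bil_zero (ρ' a - 1 : AddMonoid.End W') (fun y => by
        obtain ⟨y, hy, rfl⟩ := hsurj' y
        change (ρ' a - 1) ((ρ' a - 1) (ι' y)) = 0
        rw [← hι' y hy, ← hι' ⁅a, y⁆ (mul_mem (hYn.conj_mem y hy a) (inv_mem hy)), ← h1]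
        exact congrArg ι' (hquad y hy))
      (fun i j => ι' ⁅w i, w j⁆) (fun i j => by
        change _ = ρ' a (ι' ⁅w i, w j⁆) - ι' ⁅w i, w j⁆
        rw [← hconj' a _ (hm i j), hcj, ← hws, ← hws,
          hl _ (hwB _) _ (hwB _) _ (B.mul_mem (hwB _) (hwB _)), hr _ (hwB _) _ (hwB _) _ (hwB _),
          hr _ (hwB _) _ (hwB _) _ (hwB _), hmul' _ (mul_mem (hm _ _) (hm _ _)) _
            (mul_mem (hm _ _) (hm _ _)), hmul' _ (hm _ _) _ (hm _ _), hmul' _ (hm _ _) _ (hm _ _)]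
        abel)
      (fun i => by rw [hzr _ (hwB i) _ hw5, h1]) (by rw [commutatorElement_self, h1])
    exact ⟨(h0' _ (hm _ _)).1 e1, (h0' _ (hm _ _)).1 e2, (h0' _ (hm _ _)).1 e3⟩
  have hιpow : ∀ b ∈ B, ∀ n : ℕ, ι (b ^ n) = n • ι b := fun b hb n => by
    induction n with
    | zero => rw [pow_zero, zero_nsmul]; exact (h0 1 B.one_mem).2 Z.one_mem
    | succ n ih => rw [pow_succ, hmul _ (B.pow_mem hb n) b hb, ih, succ_nsmul]
  have hN4' : (N ^ 4) (ι (w 1)) = 0 := by rw [hw1, hwι]; exact hv5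
  have hρc : ∀ c ∈ A, ∃ i : ℕ, ρ c = ρ a ^ i := fun c hc => by
    obtain ⟨i, t, ht, rfl⟩ := hcyc c hc
    exact ⟨i, by rw [map_mul, show ρ t = 1 from hTρ ht, mul_one, map_pow]⟩
  obtain ⟨M, hM⟩ : ∃ M, M = closure {m | ∃ c ∈ A, ⁅c, w 1⁆ = m} := ⟨_, rfl⟩
  have hM₁ : M ≤ closure ({w 2, w 3, w 4} ∪ (Z : Set G)) := by
    rw [hM, closure_le]
    rintro _ ⟨c, hc, rfl⟩
    obtain ⟨i, hi⟩ := hρc c hc
    have h1 : w 2 ^ i * w 3 ^ i.choose 2 * w 4 ^ i.choose 3 ∈ B :=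
      B.mul_mem (B.mul_mem (B.pow_mem (hwB 2) _) (B.pow_mem (hwB 3) _)) (B.pow_mem (hwB 4) _)
    have h2 : (w 2 ^ i * w 3 ^ i.choose 2 * w 4 ^ i.choose 3)⁻¹ * ⁅c, w 1⁆ ∈ Z := by
      refine (h0 _ (B.mul_mem (B.inv_mem h1) (hNB c _ (hwB 1)))).1 ?_
      rw [hmul _ (B.inv_mem h1) _ (hNB c _ (hwB 1)), hinv _ h1, hιc c _ (hwB 1), hi,
        pow_apply_eq hN hN4' i, hmul _ (B.mul_mem (B.pow_mem (hwB 2) _) (B.pow_mem (hwB 3) _)) _
          (B.pow_mem (hwB 4) _), hmul _ (B.pow_mem (hwB 2) _) _ (B.pow_mem (hwB 3) _),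
        hιpow _ (hwB 2), hιpow _ (hwB 3), hιpow _ (hwB 4), hw1, hw1, ← hιN _ (hwB 1), ← hws]
      abel
    have h3 : ⁅c, w 1⁆ = (w 2 ^ i * w 3 ^ i.choose 2 * w 4 ^ i.choose 3) *
      ((w 2 ^ i * w 3 ^ i.choose 2 * w 4 ^ i.choose 3)⁻¹ * ⁅c, w 1⁆) := by group
    change ⁅c, w 1⁆ ∈ Subgroup.closure _
    rw [h3]
    refine mul_mem (mul_mem (mul_mem (pow_mem ?_ _) (pow_mem ?_ _)) (pow_mem ?_ _))
      (subset_closure (Or.inr h2)) <;> exact subset_closure (Or.inl (by simp))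
  have hM₁c : IsMulCommutative (closure ({w 2, w 3, w 4} ∪ (Z : Set G))) := by
    obtain ⟨e1, e2, e3⟩ := hcomm
    rw [commutatorElement_eq_one_iff_mul_comm] at e1 e2 e3
    refine isMulCommutative_closure ?_
    rintro x ((rfl | rfl | rfl) | hx) y ((rfl | rfl | rfl) | hy) <;>
      first
      | rfl
      | assumption
      | (symm; assumption)
      | exact hz _ hx _ (hwB _)
      | exact (hz _ hy _ (hwB _)).symm
      | exact hz _ hx _ (hZB hy)
  have hMB : M ≤ B := by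
    rw [hM, closure_le]
    rintro _ ⟨c, -, rfl⟩
    exact hNB c _ (hwB 1)
  have hw3 : w 3 ∈ M := by
    have h1 : w 3 = ⁅a * a, w 1⁆ * ⁅a, w 1⁆⁻¹ * ⁅a, w 1⁆⁻¹ := by
      rw [hws 2, hws 1]; simp only [commutatorElement_def]; group
    rw [h1, hM]
    exact mul_mem (mul_mem (subset_closure ⟨_, A.mul_mem ha ha, rfl⟩)
      (inv_mem (subset_closure ⟨_, ha, rfl⟩))) (inv_mem (subset_closure ⟨_, ha, rfl⟩))
  obtain ⟨c, hc', hcc⟩ := hA.thompson (w 1) hM (hBp.to_le hMB)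
    (H51.isMulCommutative_of_le hM₁c hM₁) hw3
  obtain ⟨i, hi⟩ := hρc c hc'
  have h7 : (w 3)⁻¹ * ⁅c, w 1⁆ ∈ B := B.mul_mem (B.inv_mem (hwB 3)) (hNB c _ (hwB 1))
  have h8 := hιN _ h7
  rw [commutatorElement_eq_one_iff_mul_comm.2 (mem_centralizer_iff.1 hcc a ha),
    (h0 1 B.one_mem).2 Z.one_mem, hmul _ (B.inv_mem (hwB 3)) _ (hNB c _ (hwB 1)), hinv _ (hwB 3),
    hιc c _ (hwB 1), hi, ← hw1 2] at h8
  have h9 := lin_contra hp.out (by omega) hW hN hN4' i h8.symm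
  rw [hw1, hwι] at h9
  exact hv4 h9

theorem le_pCore [hp : Fact p.Prime] (hp5 : 5 ≤ p) (n : ℕ) :
    ∀ (G : Type u) [Group G] [Finite G], Nat.card G = n → H54.AbRes p G →
      centralizer (pCore p G : Set G) ≤ pCore p G → ∀ A : Subgroup G, MaxAb p A →
      A ≤ pCore p G := by
  induction n using Nat.strong_induction_on with
  | _ n ih =>
  intro G _ _ hn hR hC A hA
  refine step hp5 hR hC hA fun H hH hTH hAH => ?_
  have hlt : Nat.card H < n := by
    rw [← hn, ← card_mul_index H]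
    exact lt_mul_of_one_lt_right Nat.card_pos (one_lt_index_of_ne_top hH)
  have h1 := ih _ hlt H rfl (hR.of_injective H.subtype H.subtype_injective)
    (fun x hx => H3.pCore_subgroupOf_le H (mem_subgroupOf.2 (hC (mem_centralizer_iff.2
      fun t ht => congrArg Subtype.val (mem_centralizer_iff.1 hx ⟨t, hTH ht⟩
        (H3.pCore_subgroupOf_le H ht))))))
    (A.subgroupOf H) ⟨hA.pg.comap_subtype, haveI := hA.comm; inferInstance, fun X h1 h2 => by
      rw [Nat.card_congr (subgroupOfEquivOfLe hAH).toEquiv,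
        ← card_map_of_injective (K := X) H.subtype_injective]
      exact hA.max _ (h1.map _) (H51.isMulCommutative_map h2 _)⟩
  exact (map_subgroupOf_eq_of_le hAH).ge.trans (map_mono h1)

end Cfsg.Agent.H33.JA
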