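import Mathlib
import Cfsg.Agent.H12.K5Defs
import Cfsg.Agent.H30.Herm

/-! Hermite's bound in dimension five. -/

set_option autoImplicit false

namespace Cfsg.Agent.H33.K5Herm

open Matrix Cfsg.Agent.H12.K5

theorem quad (B : Matrix (Fin 5) (Fin 5) ℤ) (x : Fin 5 → ℤ) :
    x ⬝ᵥ (B * Bᵀ) *ᵥ x = ∑ j, (Matrix.vecMul x B j) ^ 2 := by
  rw [← mulVec_mulVec, dotProduct_mulVec, mulVec_transpose]
  exact Finset.sum_congr rfl fun j _ => (sq _).symm

theorem herm : HermStmt := by
  intro B hB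
  have hp : H30.Herm.PD (B * Bᵀ) := by
    intro x hx
    rw [quad]
    refine lt_of_le_of_ne (Finset.sum_nonneg fun j _ => sq_nonneg _) fun e => hx ?_
    refine Matrix.eq_zero_of_vecMul_eq_zero hB (funext fun j => ?_)
    exact pow_eq_zero_iff two_ne_zero |>.1
      ((Finset.sum_eq_zero_iff_of_nonneg fun j _ => sq_nonneg _).1 e.symm j (Finset.mem_univ j))
  obtain ⟨U, hU, h⟩ := H30.Herm.herm 4 (B * Bᵀ) (by rw [transpose_mul, transpose_transpose]) hp
  refine ⟨fun k => U k 0, fun e => hU.ne_zero (det_eq_zero_of_column_eq_zero 0 fun i => congrFun e i),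
    ?_⟩
  rw [H30.Herm.ent, quad, det_mul, det_transpose, ← sq] at h
  exact h

end Cfsg.Agent.H33.K5Herm
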