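import Cfsg.Agent.H93.LT4Defs

/-! The basic facts on the frame `St`; `K' = cj g h.K`, `N' = cj g h.N`. -/

set_option autoImplicit false

namespace Cfsg.Agent.H33.LT4

open Subgroup Cfsg.Agent.H85 Cfsg.Agent.H93.LT Cfsg.Agent.H10.LT DihedralGroup

universe u

variable {G : Type u} [Group G]

/-- `K` has index at most two in `L` -/
def Two (K L : Subgroup G) : Prop := ∀ x ∈ L, ∀ y ∈ L, x ∉ K → y ∉ K → x⁻¹ * y ∈ K

theorem Two.le {K L M : Subgroup G} (h : Two K L) (hM : K ≤ M) : M.relIndex L ≤ 2 :=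
  not_lt.1 fun k => by
    obtain ⟨a, ha, b, hb, h1, h2, h3⟩ := H2.exists_two_indep k
    exact h3 (hM (h a ha b hb (mt (@hM a) h1) (mt (@hM b) h2)))

theorem Two.le_of {K L M : Subgroup G} (h : Two K L) (hM : K ≤ M) {n : G} (h1 : n ∈ L) (h2 : n ∉ K)
    (h3 : n ∈ M) : L ≤ M := fun x hx => by_contra fun k =>
  k ((mul_mem_cancel_left (inv_mem h3)).1 (hM (h n h1 x hx h2 (mt (@hM x) k))))

theorem Two.comap {K L : Subgroup G} (h : Two K L) {X : Type*} [Group X] (ι : X →* G) :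
    Two (K.comap ι) (L.comap ι) := fun x hx y hy h1 h2 => by
  simpa using h _ hx _ hy h1 h2

theorem card_le_two {Q : Subgroup G} (h : ∀ q ∈ Q, ∀ q' ∈ Q, q ≠ 1 → q' ≠ 1 → q⁻¹ * q' = 1) :
    Nat.card Q ≤ 2 := relIndex_bot_left Q ▸ Two.le (K := ⊥) h le_rfl

/-- a nontrivial `2`-subgroup contains an involution -/
theorem exists_inv {T : Subgroup G} (hT : IsPGroup 2 T) {u : G} (hu : u ∈ T) (h1 : u ≠ 1) :
    ∃ m : ℕ, u ^ m ≠ 1 ∧ u ^ m * u ^ m = 1 := by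
  obtain ⟨k, hk⟩ := hT ⟨u, hu⟩
  have hk' : u ^ 2 ^ k = 1 := congrArg Subtype.val hk
  clear hk
  induction k with
  | zero => exact absurd (by simpa using hk') h1
  | succ k ih =>
    by_cases e : u ^ 2 ^ k = 1
    · exact ih e
    · exact ⟨_, e, by rw [← pow_two, ← pow_mul, ← pow_succ, hk']⟩

section D

variable {D : Subgroup G} {a b z x y : G} (h : D8 D a b z)
include h

theorem d_nz (hx : x ∈ D) (h1 : x ≠ 1) : x = z ∨ ∃ d ∈ D, x⁻¹ * cn x d = z := by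
  obtain ⟨ψ, hi, rfl, rfl, rfl, rfl⟩ := h
  obtain ⟨x, rfl⟩ := hx
  simp only [Ne, hi.eq_iff, map_eq_one_iff ψ hi] at h1 ⊢
  exact ((by decide : ∀ x : DihedralGroup 4, ¬ x = 1 → x = r 2 ∨ ∃ d, x⁻¹ * (d⁻¹ * x * d) = r 2)
    x h1).imp_right fun ⟨d, e⟩ => ⟨_, ⟨d, rfl⟩, by simp only [cn, ← map_mul, ← map_inv, e]⟩

theorem d_nc (hx : x ∈ D) (h1 : x * (a * b) ≠ a * b * x) :
    x = a ∨ x = a * z ∨ x = b ∨ x = b * z := by
  obtain ⟨ψ, hi, rfl, rfl, rfl, rfl⟩ := h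
  obtain ⟨x, rfl⟩ := hx
  simp only [Ne, ← map_mul, hi.eq_iff] at h1 ⊢
  revert x; decide

theorem d_cu (hx : x ∈ D) (h1 : x * (a * b) = a * b * x) :
    x = 1 ∨ x = z ∨ x = a * b ∨ x = a * b * z := by
  obtain ⟨ψ, hi, rfl, rfl, rfl, rfl⟩ := h
  obtain ⟨x, rfl⟩ := hx
  simp only [← map_mul, hi.eq_iff, map_eq_one_iff ψ hi] at h1 ⊢
  revert x; decide

theorem d_two (hx : x ∈ D) (hy : y ∈ D) (h1 : x * (a * b) ≠ a * b * x)
    (h2 : y * (a * b) ≠ a * b * y) : x⁻¹ * y * (a * b) = a * b * (x⁻¹ * y) := by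
  obtain ⟨ψ, hi, rfl, rfl, rfl, rfl⟩ := h
  obtain ⟨x, rfl⟩ := hx
  obtain ⟨y, rfl⟩ := hy
  simp only [Ne, ← map_mul, ← map_inv, hi.eq_iff] at h1 h2 ⊢
  revert x y; decide

theorem d_cn (hx : x ∈ D) : cn a x = a ∨ cn a x = a * z := by
  obtain ⟨ψ, hi, rfl, rfl, rfl, rfl⟩ := h
  obtain ⟨x, rfl⟩ := hx
  simp only [cn, ← map_mul, ← map_inv, hi.eq_iff]
  revert x; decide

theorem d_mix (hx : x = a ∨ x = a * z) (hy : y = b ∨ y = b * z) :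
    (x * y * (a * b) = a * b * (x * y) ∧ a * (x * y) ≠ x * y * a) ∧
      y * x * (a * b) = a * b * (y * x) ∧ a * (y * x) ≠ y * x * a := by
  obtain ⟨ψ, hi, rfl, rfl, rfl, rfl⟩ := h
  rcases hx with rfl | rfl <;> rcases hy with rfl | rfl <;>
    simp only [Ne, ← map_mul, hi.eq_iff] <;> decide

end D

variable (h : St G) {c c' u v x y g : G}

theorem DT : h.D ≤ h.T := h.DA.ge.trans inf_le_left
theorem DA : h.D ≤ h.A := h.DA.ge.trans inf_le_right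
theorem TN : h.T ≤ h.N := h.syl.le
theorem AN : h.A ≤ h.N := le_normalizer
theorem KN : h.K ≤ h.N := centralizer_le_normalizer _
theorem NK : h.N ≤ normalizer (h.K : Set G) := normalizer_le_normalizer_centralizer h.A
theorem TnD : h.T ≤ normalizer (h.D : Set G) := h.DA ▸ le_normalizer_inf le_normalizer (TN h)
theorem TnR : h.T ≤ normalizer (h.R : Set G) := le_normalizer_inf le_normalizer ((TN h).trans (NK h))
theorem TnC : h.T ≤ normalizer (h.C0 : Set G) :=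
  le_normalizer_inf le_normalizer ((TnD h).trans (normalizer_le_normalizer_centralizer h.D))
theorem TnT0 : h.T ≤ normalizer (h.T0 : Set G) := le_normalizer_sup (TnD h) (TnC h)
theorem T0T : h.T0 ≤ h.T := sup_le (DT h) inf_le_left
theorem aD : h.a ∈ h.D := h.d8.aD
theorem bD : h.b ∈ h.D := h.d8.symm.aD
theorem zD : h.z ∈ h.D := h.d8.zD
theorem aa : h.a * h.a = 1 := h.d8.rel.1
theorem bb : h.b * h.b = 1 := h.d8.symm.rel.1
theorem zz : h.z * h.z = 1 := h.d8.rel.2.1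
theorem z1 : h.z ≠ 1 := h.d8.rel.2.2.1
theorem za : h.z * h.a = h.a * h.z := h.d8.zc h.d8.aD
theorem zT (hu : u ∈ h.T) : cn h.z u = h.z := (h.d8.adj (TnD h hu)).1
theorem zT' (hu : u ∈ h.T) : h.z * u = u * h.z := of_cn (zT h hu)
theorem zC : h.z ∈ h.C0 := ⟨DT h (zD h), fun _ hd => (h.d8.zc hd).symm⟩
theorem RC : h.R ≤ h.C0 := inf_le_inf_left _ (centralizer_le (DA h))
theorem RF : h.R ≤ h.F1 := le_inf (RC h) fun _ hx => c1.2 (hx.2 _ h.hr.mem).symm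
theorem azr : cn (h.a * h.z) h.r = h.z := by
  rw [cn_mul, h.hr.zr, h.hr.ar, mul_assoc, za, ← mul_assoc, aa, one_mul]
theorem zF : h.z ∉ h.F1 := fun k =>
  h.d8.rel.2.2.2.2.2.1 (h.hr.zr.symm.trans (cn_of (c1.1 k.2)))

theorem odd_AK (h1 : x ∈ h.A) (h2 : x ∈ h.K) : Odd (orderOf x) := by
  have : (⟨x, h1⟩ : h.A) ∈ center h.A := mem_center_iff.2 fun y => Subtype.ext (h2 y y.2)
  exact h.sd.2.1.of_dvd_nat (orderOf_coe (⟨x, h1⟩ : h.A) ▸ orderOf_dvd_natCard _ this)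

theorem DK (h1 : x ∈ h.D) (h2 : x ∈ h.K) : x = 1 := by
  obtain ⟨k, hk⟩ := h.sylD.isPGroup ⟨x, h1⟩
  exact orderOf_eq_one_iff.1 (Nat.eq_one_of_dvd_coprimes
    ((Nat.coprime_two_right.2 (odd_AK h (DA h h1) h2)).pow_right k) dvd_rfl
    (orderOf_dvd_of_pow_eq_one (congrArg Subtype.val hk)))

theorem fix1 (hc : c ∈ h.C0) : c ∈ h.F1 ∨ c * h.z ∈ h.F1 :=
  (h.hr.fix c hc).imp (fun e => ⟨hc, c1.2 e.symm⟩) fun e => ⟨mul_mem hc (zC h), c1.2 e.symm⟩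

theorem not_both (h1 : c ∈ h.F1) : c * h.z ∉ h.F1 := fun h2 =>
  zF h ((mul_mem_cancel_left h1).1 h2)

/-- `F₁ ∩ F₂ = R` -/
theorem F12 (h1 : c ∈ h.F1) (h2 : c ∈ h.symm.F1) : c ∈ h.R :=
  ⟨h1.1.1, h.iso c h1.1 (c1.1 h1.2).symm (c1.1 h2.2).symm⟩

theorem czz (hc : c ∈ h.T) (hc' : c' ∈ h.T) : c * h.z * (c' * h.z) = c * c' := by
  rw [mul_assoc, ← mul_assoc h.z, zT' h hc', mul_assoc, zz, mul_one]

theorem twoF : Two h.F1 h.C0 := fun x hx y hy h1 h2 =>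
  czz h (inv_mem hx.1) hy.1 ▸ mul_mem ((fix1 h (inv_mem hx)).resolve_left (mt inv_mem_iff.1 h1))
    ((fix1 h hy).resolve_left h2)

theorem twoR : Two h.R h.F1 := fun x hx y hy h1 h2 =>
  F12 h (mul_mem (inv_mem hx) hy)
    (twoF h.symm x hx.1 y hy.1 (fun k => h1 (F12 h hx k)) fun k => h2 (F12 h hy k))

theorem sqF (hc : c ∈ h.C0) : c * c ∈ h.F1 :=
  (fix1 h hc).elim (fun k => mul_mem k k) fun k => czz h hc.1 hc.1 ▸ mul_mem k k

theorem sqR (hc : c ∈ h.C0) : c * c ∈ h.R := F12 h (sqF h hc) (sqF h.symm hc)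

theorem idxF : h.F1.relIndex h.C0 ≤ 2 := (twoF h).le le_rfl
theorem idxR : h.R.relIndex h.F1 ≤ 2 := (twoR h).le le_rfl
theorem idxC : h.R.relIndex h.C0 ≤ 4 :=
  relIndex_mul_relIndex _ _ _ (RF h) (inf_le_left : h.F1 ≤ h.C0) ▸
    Nat.mul_le_mul (idxR h) (idxF h)

theorem memT0 : u ∈ h.T0 ↔ ∃ d ∈ h.D, ∃ c ∈ h.C0, d * c = u :=
  mem_sup_of_le_normalizer (inf_le_left.trans (TnD h))

theorem CT0 : h.C0 ≤ h.T0 := le_sup_right
theorem DT0 : h.D ≤ h.T0 := le_sup_left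

theorem cnT0 (hu : u ∈ h.T0) : cn h.a u = h.a ∨ cn h.a u = h.a * h.z := by
  obtain ⟨d, hd, c, hc, rfl⟩ := (memT0 h).1 hu
  rw [cn_cn, cn_of (hc.2 _ (cn_mem (le_normalizer hd) (aD h)))]
  exact d_cn h.d8 hd

theorem out' (hv : v ∈ h.T) (h0 : v ∉ h.T0) :
    ∃ d ∈ h.D, cn h.a (v * d) = h.b ∧ cn h.b (v * d) = h.a := by
  obtain ⟨d, hd, e | e⟩ := (h.d8.adj (TnD h hv)).2
  · exact absurd ((mul_mem_cancel_right (DT0 h hd)).1 (CT0 h ⟨mul_mem hv (DT h hd),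
      h.d8.cen (of_cn e.1).symm (of_cn e.2).symm⟩)) h0
  · exact ⟨d, hd, e⟩

/-- an element outside `T₀` swaps `a` and `b` modulo `z` -/
theorem swap (hv : v ∈ h.T) (h0 : v ∉ h.T0) : cn h.a v = h.b ∨ cn h.a v = h.b * h.z := by
  obtain ⟨d, hd, e, -⟩ := out' h hv h0
  rw [← mul_inv_cancel_right v d, cn_cn, e]
  exact d_cn h.d8.symm (inv_mem hd)

theorem twoT : Two h.T0 h.T := fun x hx y hy h1 h2 => by
  obtain ⟨d, hd, e1, e2⟩ := out' h (inv_mem hx) (mt inv_mem_iff.1 h1)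
  obtain ⟨d', hd', e3, e4⟩ := out' h hy h2
  have k : x⁻¹ * d * (y * d') ∈ h.T0 :=
    CT0 h ⟨h.T.mul_mem (mul_mem (inv_mem hx) (DT h hd)) (mul_mem hy (DT h hd')),
    h.d8.cen (of_cn (by rw [cn_cn, e1, e4])).symm (of_cn (by rw [cn_cn, e2, e3])).symm⟩
  rw [show x⁻¹ * d * (y * d') = x⁻¹ * y * (cn d y * d') by simp only [cn]; group] at k
  exact (mul_mem_cancel_right (DT0 h (mul_mem (cn_mem (TnD h hy) hd) hd'))).1 k

/-- the involutions of `T₀` -/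
theorem invT0 (hu : u ∈ h.T0) (h2 : u * u = 1) :
    u ∈ h.C0 ∨ (∃ c ∈ h.C0, u = h.a * c) ∨ ∃ c ∈ h.C0, u = h.b * c := by
  obtain ⟨d, hd, c, hc, rfl⟩ := (memT0 h).1 hu
  rw [mul_assoc, ← mul_assoc c, ← hc.2 d hd, mul_assoc, ← mul_assoc, mul_eq_one_iff_eq_inv] at h2
  have hz := mul_mem (zC h) hc
  rcases h.d8.inv hd (DK h (mul_mem hd hd) (h2 ▸ inv_mem (sqR h hc).2)) with
    rfl | rfl | rfl | rfl | rfl | rfl
  exacts [.inl (by simpa using hc), .inl hz, .inr (.inl ⟨c, hc, rfl⟩),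
    .inr (.inl ⟨_, hz, mul_assoc _ _ _⟩), .inr (.inr ⟨c, hc, rfl⟩),
    .inr (.inr ⟨_, hz, mul_assoc _ _ _⟩)]

/-- a nontrivial subgroup of `D` normalised by `D` contains `z` -/
theorem z_mem {Q : Subgroup G} (hQ : ∀ d ∈ h.D, ∀ q ∈ Q, cn q d ∈ Q) (h1 : x ∈ h.D) (h2 : x ∈ Q)
    (h3 : x ≠ 1) : h.z ∈ Q := by
  rcases d_nz h.d8 h1 h3 with rfl | ⟨d, hd, e⟩
  exacts [h2, e ▸ mul_mem (inv_mem h2) (hQ d hd x h2)]

/-- `K ∩ K'` has no involution -/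
theorem ti1 (hg : g ∉ h.N) (h2 : u * u = 1) (h1 : u ∈ h.K) (h3 : u ∈ cj g h.K) : u = 1 :=
  by_contra fun k => hg (h.ti u g h2 k h1 (mem_cj.1 h3))

theorem ti1' (hg : g ∉ h.N) (h1 : u ∈ h.R) (h3 : u ∈ cj g h.K) : u = 1 := by_contra fun k => by
  obtain ⟨m, e1, e2⟩ := exists_inv h.syl.isPGroup h1.1 k
  exact e1 (ti1 h hg e2 (pow_mem h1.2 m) (pow_mem h3 m))

/-- an element commuting with an involution of `K'` lies in `N'` -/
theorem tiN (h2 : u * u = 1) (h1 : u ≠ 1) (h3 : u ∈ cj g h.K) (hx : u * x = x * u) :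
    x ∈ cj g h.N :=
  mem_cj.2 (h.ti (cn u g) _ (by rw [← cn_mul, h2]; simp [cn]) (fun e => h1 (by rw [← cn_inv e]; simp)) (mem_cj.1 h3)
    (by rw [cn_of (x := cn u g) (g := cn x g) (by rw [← cn_mul, ← cn_mul, hx])]; exact mem_cj.1 h3))

theorem cnK (hx : x ∈ cj g h.N) (hu : u ∈ cj g h.K) : cn u x ∈ cj g h.K := mem_cj.2 (by
  have := cn_mem (NK h (mem_cj.1 hx)) (mem_cj.1 hu)
  simpa [cn, mul_assoc] using this)

theorem TN' (hg : g ∈ normalizer (h.T : Set G)) : h.T ≤ cj g h.N := fun _ ht =>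
  mem_cj.2 (TN h (cn_mem hg ht))

/-- (I') -/
theorem I' {Q : Subgroup G} (h1 : Q ≤ h.C0) (h2 : Q ≤ cj g h.K) (h4 : 4 ≤ Nat.card Q)
    (hR : ∀ q ∈ Q, q ∈ h.R → q = 1) : h.z * h.a ∈ cj g h.K := by
  obtain ⟨p, hp, hpF⟩ : ∃ p ∈ Q, p ∉ h.F1 := by_contra fun k => by
    push Not at k
    have := card_le_two (Q := Q) fun q hq q' hq' e e' => hR _ (mul_mem (inv_mem hq) hq')
      (twoR h q (k q hq) q' (k q' hq') (mt (hR q hq) e) (mt (hR q' hq') e'))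
    omega
  obtain ⟨q, hq, hq1, hqF⟩ : ∃ q ∈ Q, q ≠ 1 ∧ q ∈ h.F1 := by_contra fun k => by
    push Not at k
    have := card_le_two (Q := Q) fun q hq q' hq' e e' => by_contra fun e'' =>
      k _ (mul_mem (inv_mem hq) hq') e'' (twoF h q (h1 hq) q' (h1 hq') (k q hq e) (k q' hq' e'))
    omega
  have k := mul_mem (inv_mem (h2 hp)) (cnK h
    (tiN h (hR _ (mul_mem hq hq) (sqR h (h1 hq))) hq1 (h2 hq) (c1.1 hqF.2)) (h2 hp))
  have e := cn_of (c1.1 ((fix1 h (h1 hp)).resolve_left hpF).2)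
  rw [cn_mul, h.hr.zr, ← eq_mul_inv_iff_mul_eq, inv_eq_of_mul_eq_one_right (aa h)] at e
  rwa [e, mul_assoc, inv_mul_cancel_left] at k

/-- (J), for `u = a c`; `a z c` is `a (z c)`, and `h.symm` gives `b` -/
theorem J (hc : c ∈ h.C0) (h2 : h.a * c * (h.a * c) = 1) (h3 : h.a * c ∈ cj g h.K) :
    (∃ ρ ∈ h.A, ∀ x ∈ h.D, cn x ρ ∈ cj g h.N) ∧ (h.z ∈ cj g h.K → h.a ∈ cj g h.K) := by
  have h1 : h.a * c ≠ 1 := fun e => h.d8.rel.2.2.2.2.2.2.2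
    ((eq_inv_of_mul_eq_one_left e ▸ inv_mem hc : h.a ∈ h.C0).2 _ (bD h)).symm
  have key : ∀ ρ c', c' ∈ h.C0 → c' * ρ = ρ * c' → h.a * c = cn h.z ρ * c' →
      ∀ x ∈ h.D, cn x ρ ∈ cj g h.N := fun ρ c' k1 k2 k3 x hx => tiN h h2 h1 h3 (by
    rw [k3, ← cn_of k2, ← cn_mul, ← cn_mul, ← cn_mul, mul_assoc, ← k1.2 x hx, ← mul_assoc,
      h.d8.zc hx, mul_assoc])
  have ab := h.d8.rel.2.2.2.1
  rcases fix1 h hc with k | k
  · have := key _ c hc (c1.1 k.2) (by rw [h.hr.zr])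
    refine ⟨⟨_, h.hr.mem, this⟩, fun hz => ?_⟩
    have k1 := cnK h (this _ (bD h)) hz
    rw [← azr h, show cn (cn (h.a * h.z) h.r) (cn h.b h.r) = cn (cn (h.a * h.z) h.b) h.r by
      simp only [cn]; group, cn_mul h.a, ab, zT h (DT h (bD h)), mul_assoc, zz, mul_one, h.hr.ar] at k1
    exact (mul_mem_cancel_right hz).1 k1
  · have := key (h.r * h.r) _ k.1 ((show Commute _ _ from c1.1 k.2).mul_right (c1.1 k.2))
      (by rw [cn_cn, h.hr.zr, h.hr.ar, czz h (DT h (aD h)) hc.1])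
    refine ⟨⟨_, mul_mem h.hr.mem h.hr.mem, this⟩, fun hz => ?_⟩
    have k1 := cnK h (this _ (bD h)) hz
    have e : cn h.a (h.r * h.r) = h.z := by rw [cn_cn, h.hr.ar, azr]
    rwa [← e, show cn (cn h.a (h.r * h.r)) (cn h.b (h.r * h.r)) = cn (cn h.a h.b) (h.r * h.r) by
      simp only [cn]; group, ab, cn_cn, azr, h.hr.zr] at k1

end Cfsg.Agent.H33.LT4
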