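import Cfsg.Agent.H33.LT4B

/-! Pieces Nz and TSec. -/

set_option autoImplicit false

namespace Cfsg.Agent.H33.LT4

open Subgroup Cfsg.Agent.H85 Cfsg.Agent.H93.LT Cfsg.Agent.H10.LT

universe u

theorem nz : NzStmt.{u} := by
  intro G _ _ h h4 g hg hN
  have hQ : ∀ t ∈ h.T, ∀ q ∈ h.T ⊓ cj g h.K, cn q t ∈ h.T ⊓ cj g h.K := fun t ht q hq =>
    ⟨cn_mem (le_normalizer ht) hq.1, cnK h (TN' h hg ht) hq.2⟩
  refine mem_cj.1 (by_contra fun k => ?_)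
  have h1 : ∀ x ∈ h.D, x ∈ h.T ⊓ cj g h.K → x = 1 := fun x hx hx' => by_contra fun e =>
    k (z_mem h (fun d hd => hQ d (DT h hd)) hx hx' e).2
  have hza := mul_mem (zD h) (aD h)
  refine h.d8.rel.2.2.2.2.2.1 (mul_left_cancel ((h1 _ hza ⟨DT h hza, I' h (Q := h.T ⊓ cj g h.K)
    (fun q hq => ⟨hq.1, fun d hd => ?_⟩) inf_le_right ?_ fun q hq hR => ti1' h hN hR hq.2⟩).trans
      (zz h).symm))
  · refine (of_cn (inv_mul_eq_one.1 (h1 _ ?_ (mul_mem (inv_mem hq) (hQ d (DT h hd) q hq)))).symm).symm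
    rw [cn, ← mul_assoc, ← mul_assoc]
    exact mul_mem (cn_mem (TnD h hq.1) (inv_mem hd)) hd
  · rwa [← cj_eq_iff_mem_normalizer.2 hg, ← cj_inf, card_cj]

variable {G : Type u} [Group G] (h : St G) {x y v : G}

abbrev U0 : Subgroup G := h.T0 ⊓ centralizer {h.a * h.b}

theorem abD : h.a * h.b ∈ h.D := mul_mem (aD h) (bD h)

theorem CU : h.C0 ≤ U0 h := le_inf (CT0 h) fun _ hc => c1.2 (hc.2 _ (abD h)).symm

theorem nU {d c : G} (hd : d ∈ h.D) (hc : c ∈ h.C0) :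
    d * c ∈ U0 h ↔ d * (h.a * h.b) = h.a * h.b * d :=
  (mul_mem_cancel_right (CU h hc)).trans ⟨fun k => c1.1 k.2, fun k => ⟨DT0 h hd, c1.2 k⟩⟩

theorem twoU : Two (U0 h) h.T0 := fun x hx y hy h1 h2 => by
  obtain ⟨d, hd, c, hc, rfl⟩ := (memT0 h).1 hx
  obtain ⟨d', hd', c', hc', rfl⟩ := (memT0 h).1 hy
  rw [show (d * c)⁻¹ * (d' * c') = c⁻¹ * (d⁻¹ * d' * c') by group]
  exact mul_mem (inv_mem (CU h hc)) ((nU h (mul_mem (inv_mem hd) hd') hc').2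
    (d_two h.d8 hd hd' (mt (nU h hd hc).2 h1) (mt (nU h hd' hc').2 h2)))

theorem memU (hy : y ∈ U0 h) (h1 : y ∉ h.C0) : ∃ c ∈ h.C0, y = h.a * h.b * c := by
  obtain ⟨d, hd, c, hc, rfl⟩ := (memT0 h).1 hy.1
  have hz := mul_mem (zC h) hc
  rcases d_cu h.d8 hd ((nU h hd hc).1 hy) with rfl | rfl | rfl | rfl
  exacts [absurd (by simpa using hc) h1, absurd hz h1, ⟨c, hc, rfl⟩, ⟨_, hz, mul_assoc _ _ _⟩]

theorem twoC : Two h.C0 (U0 h) := fun x hx y hy h1 h2 => by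
  obtain ⟨c, hc, rfl⟩ := memU h hx h1
  obtain ⟨c', hc', rfl⟩ := memU h hy h2
  simpa [mul_assoc] using mul_mem (inv_mem hc) hc'

theorem sqU (hy : y ∈ U0 h) (h1 : y ∉ h.C0) : y * y ∈ h.C0 ∧ y * y ∉ h.F1 := by
  obtain ⟨c, hc, rfl⟩ := memU h hy h1
  rw [mul_assoc, ← mul_assoc c, ← hc.2 _ (abD h), mul_assoc _ c, ← mul_assoc, h.d8.rel.2.2.2.2.1]
  exact ⟨mul_mem (zC h) (mul_mem hc hc), fun k => zF h ((mul_mem_cancel_right (sqF h hc)).1 k)⟩

theorem swap' (hv : v ∈ h.T) (h0 : v ∉ h.T0) (hx : x = h.a ∨ x = h.a * h.z) :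
    cn x v = h.b ∨ cn x v = h.b * h.z := by
  rcases hx with rfl | rfl
  · exact swap h hv h0
  · rw [cn_mul, zT h hv]
    exact (swap h hv h0).symm.imp (fun e => by rw [e, mul_assoc, zz, mul_one]) fun e => by rw [e]

theorem cmU (hv : v ∈ h.T) (h0 : v ∉ h.T0) (hx : x ∈ h.T0) (h1 : x ∉ U0 h) :
    x * cn x v ∈ U0 h ∧ x * cn x v ∉ h.C0 := by
  obtain ⟨d, hd, c, hc, rfl⟩ := (memT0 h).1 hx
  have hd' := cn_mem (TnD h hv) hd
  have hc' := mul_mem hc (cn_mem (TnC h hv) hc)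
  rw [cn_mul, mul_assoc, ← mul_assoc c, ← hc.2 _ hd', mul_assoc, ← mul_assoc,
    nU h (mul_mem hd hd') hc', mul_mem_cancel_right hc']
  suffices k : d * cn d v * (h.a * h.b) = h.a * h.b * (d * cn d v) ∧
      h.a * (d * cn d v) ≠ d * cn d v * h.a from ⟨k.1, fun e => k.2 (e.2 _ (aD h))⟩
  rcases or_assoc.2 (d_nc h.d8 hd (mt (nU h hd hc).2 h1)) with e | e
  · exact (d_mix h.d8 e (swap' h hv h0 e)).1
  · exact (d_mix h.d8 (swap' h.symm hv h0 e) e).2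

theorem tsec : TSecStmt.{u} := by
  intro G _ _ h hF H N hN
  let ι : H →* G := h.T.subtype.comp H.subtype
  have hT : ∀ x, x ∈ h.T.comap ι := fun x => x.1.2
  have j4 : N.relIndex (h.F1.comap ι) ≤ 4 := hF.of_injective
    ((ι.comp (h.F1.comap ι).subtype).codRestrict h.F1 fun x => x.2)
    (fun a b e => Subtype.ext (Subtype.ext (Subtype.ext (Subtype.mk.inj e)))) _ fun x => hN x
  have j0 := ((twoT h).comap ι).le (le_sup_right (a := N))
  have j1 := ((twoU h).comap ι).le (le_sup_right (a := N))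
  have j2 := ((twoC h).comap ι).le (le_sup_right (a := N))
  have j3 := ((twoF h).comap ι).le (le_sup_right (a := N))
  have ex : ∀ K L : Subgroup H, (N ⊔ K).relIndex L ≠ 1 → ∃ x ∈ L, x ∉ K := fun K L e =>
    SetLike.not_le_iff_exists.1 fun k => e (relIndex_eq_one.2 (k.trans le_sup_right))
  have k3 : ∀ y ∈ (U0 h).comap ι, y ∉ h.C0.comap ι →
      (N ⊔ h.F1.comap ι).relIndex (h.C0.comap ι) = 1 := fun y h1 h2 =>
    relIndex_eq_one.2 (((twoF h).comap ι).le_of le_sup_right (n := y * y) (sqU h h1 h2).1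
      (sqU h h1 h2).2 (mem_sup_left (hN y)))
  rw [← relIndex_top_right, ← (eq_top_iff' _).2 hT, H2.rel_split hN (comap_mono (T0T h)),
    H2.rel_split hN (comap_mono (inf_le_left : U0 h ≤ h.T0)), H2.rel_split hN (comap_mono (CU h)),
    H2.rel_split hN (comap_mono (inf_le_left : h.F1 ≤ h.C0))]
  by_cases e : (N ⊔ h.T0.comap ι).relIndex (h.T.comap ι) = 1 ∨
      (N ⊔ (U0 h).comap ι).relIndex (h.T0.comap ι) = 1
  · rw [← mul_assoc, ← mul_assoc _ _ (N.relIndex _)]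
    refine Nat.mul_le_mul (n₂ := 2) ?_ (Nat.mul_le_mul (n₂ := 2) ?_ j4)
    · rcases e with e | e <;> rw [e]
      exacts [(one_mul _).trans_le j1, (mul_one _).trans_le j0]
    by_cases e2 : (N ⊔ h.C0.comap ι).relIndex ((U0 h).comap ι) = 1
    · rw [e2]; exact (one_mul _).trans_le j3
    · obtain ⟨y, h1, h2⟩ := ex _ _ e2
      rw [k3 y h1 h2]; exact (mul_one _).trans_le j2
  obtain ⟨v, hv, h0⟩ := ex _ _ (not_or.1 e).1
  obtain ⟨x, hx, h1⟩ := ex _ _ (not_or.1 e).2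
  obtain ⟨k1, k2⟩ := cmU h hv h0 hx h1
  have k4 : x * cn x v ∈ N := by
    rw [show x * cn x v = x * v⁻¹ * (x * v⁻¹) * (v * v) by simp only [cn]; group]
    exact mul_mem (hN _) (hN _)
  rw [k3 (x * cn x v) k1 k2, relIndex_eq_one.2 (((twoC h).comap ι).le_of le_sup_right
    (n := x * cn x v) k1 k2 (mem_sup_left k4)), one_mul, one_mul]
  exact Nat.mul_le_mul j0 (Nat.mul_le_mul j1 j4)

end Cfsg.Agent.H33.LT4
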