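import Cfsg.Agent.H33.DegBasic
import Cfsg.Agent.H30.OrthMaxTS
import Cfsg.Agent.H32.AbelOrbit

/-! Actions of orthogonal groups of small degree: the groups `Q_x` of Siegel transformations. -/

set_option autoImplicit false
set_option linter.unusedSectionVars false

namespace Cfsg.Agent.H33.OD

open Cfsg.Agent.H30 QuadraticMap Module Finset

variable {F V : Type*} [Field F] [AddCommGroup V] [Module F V] {Q : QuadraticForm F V}

/-! ### The group generated by the Siegel transformations -/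

theorem smul_def (g : eichGroup Q) (v : V) : g • v = g.1.1 v := rfl

theorem Q_gsmul (g : eichGroup Q) (v : V) : Q (g • v) = Q v := O_map g.1 v

theorem polar_gsmul (g : eichGroup Q) (v w : V) : polar Q (g • v) (g • w) = polar Q v w :=
  O_polar g.1 v w

theorem polar_gsmul_left (g : eichGroup Q) (v w : V) :
    polar Q (g • v) w = polar Q v (g⁻¹ • w) := by
  rw [← polar_gsmul g v, smul_inv_smul]

theorem gsmul_smul (g : eichGroup Q) (c : F) (v : V) : g • c • v = c • g • v := map_smul g.1.1 c v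

theorem gsmul_add (g : eichGroup Q) (v w : V) : g • (v + w) = g • v + g • w := map_add g.1.1 v w

theorem gsmul_sub (g : eichGroup Q) (v w : V) : g • (v - w) = g • v - g • w := map_sub g.1.1 v w

theorem gsmul_neg (g : eichGroup Q) (v : V) : g • (-v) = -(g • v) := map_neg g.1.1 v

theorem gsmul_zero (g : eichGroup Q) : g • (0 : V) = 0 := map_zero g.1.1

theorem gsmul_ne_zero (g : eichGroup Q) {v : V} (hv : v ≠ 0) : g • v ≠ 0 := fun h =>
  hv (O_apply_eq_zero.1 h)

variable (Q) in
/-- The Siegel transformation as an element of the group. -/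
noncomputable def T (x u : V) : eichGroup Q := ⟨eich Q x u, eich_mem_eichGroup x u⟩

theorem T_smul {x u : V} (hx : Q x = 0) (hu : polar Q x u = 0) (v : V) :
    T Q x u • v = v + polar Q v x • u - polar Q v u • x - (Q u * polar Q v x) • x :=
  eich_apply hx hu v

theorem T_smul_of_orth {x u v : V} (h1 : polar Q v x = 0) (h2 : polar Q v u = 0) :
    T Q x u • v = v := eich_apply_of_orth h1 h2

theorem T_mul {x u w : V} (hx : Q x = 0) (hu : polar Q x u = 0) (hw : polar Q x w = 0) :
    T Q x u * T Q x w = T Q x (u + w) := Subtype.ext (eich_mul hx hu hw)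

theorem T_zero (x : V) : T Q x 0 = 1 := Subtype.ext (eich_zero x)

theorem T_inv (x u : V) : (T Q x u)⁻¹ = T Q x (-u) := Subtype.ext (eich_inv x u)

theorem T_conj (g : eichGroup Q) (x u : V) : g * T Q x u * g⁻¹ = T Q (g • x) (g • u) :=
  Subtype.ext (eich_conj g.1 x u)

theorem mul_T (g : eichGroup Q) (x u : V) : g * T Q x u = T Q (g • x) (g • u) * g := by
  rw [← T_conj, inv_mul_cancel_right]

theorem T_smul_left {a : F} (ha : a ≠ 0) (x u : V) : T Q (a • x) u = T Q x (a • u) :=
  Subtype.ext (eich_smul_left ha x u)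

theorem T_add_smul (x u : V) (a : F) : T Q x (u + a • x) = T Q x u :=
  Subtype.ext (eich_add_smul x u a)

theorem T_smul_self (x : V) (a : F) : T Q x (a • x) = 1 := Subtype.ext (eich_smul_self x a)

theorem T_swap {x u : V} (hx : Q x = 0) (hu : Q u = 0) : T Q x u = T Q u (-x) :=
  Subtype.ext (eich_swap hx hu)

theorem T_pow {x u : V} (hx : Q x = 0) (hu : polar Q x u = 0) (k : ℕ) :
    T Q x u ^ k = T Q x ((k : F) • u) := by
  induction k with
  | zero => simp [T_zero]
  | succ k ih =>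
    rw [pow_succ, ih, T_mul hx (by rw [polar_smul_right', hu, mul_zero]) hu, Nat.cast_succ,
      add_smul, one_smul]

theorem T_pow_char {x u : V} (hx : Q x = 0) (hu : polar Q x u = 0) :
    T Q x u ^ ringChar F = 1 := by
  rw [T_pow hx hu, ringChar.Nat.cast_ringChar, zero_smul, T_zero]

theorem polar_self_zero {x : V} (hx : Q x = 0) : polar Q x x = 0 := by
  rw [polar_self', hx, mul_zero]

/-! ### Geometry -/

theorem mem_span_pair' {x v z : V} : z ∈ Submodule.span F {x, v} ↔ ∃ a b : F, z = a • x + b • v := by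
  rw [Submodule.mem_span_pair]
  exact ⟨fun ⟨a, b, h⟩ => ⟨a, b, h.symm⟩, fun ⟨a, b, h⟩ => ⟨a, b, h.symm⟩⟩

theorem mem_span_triple' {x v y z : V} :
    z ∈ Submodule.span F {x, v, y} ↔ ∃ a b c : F, z = a • x + b • v + c • y := by
  rw [Submodule.mem_span_insert]
  simp only [mem_span_pair']
  constructor
  · rintro ⟨a, _, ⟨b, c, rfl⟩, rfl⟩
    exact ⟨a, b, c, by abel⟩
  · rintro ⟨a, b, c, rfl⟩
    exact ⟨a, _, ⟨b, c, rfl⟩, by abel⟩

theorem mem_perp_pair {x v z : V} :
    z ∈ perp Q (Submodule.span F {x, v}) ↔ polar Q x z = 0 ∧ polar Q v z = 0 := by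
  simp [mem_perp_span]

theorem mem_perp_triple {x v y z : V} :
    z ∈ perp Q (Submodule.span F {x, v, y}) ↔
      polar Q x z = 0 ∧ polar Q v z = 0 ∧ polar Q y z = 0 := by
  simp [mem_perp_span]

theorem finrank_span_pair_le (x v : V) : finrank F (Submodule.span F {x, v}) ≤ 2 := by
  classical
  have := finrank_span_finset_le_card (R := F) ({x, v} : Finset V)
  rw [Set.finrank, coe_insert, coe_singleton] at this
  exact this.trans card_le_two

theorem finrank_span_triple_le (x v y : V) : finrank F (Submodule.span F {x, v, y}) ≤ 3 := by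
  classical
  have := finrank_span_finset_le_card (R := F) ({x, v, y} : Finset V)
  rw [Set.finrank, coe_insert, coe_insert, coe_singleton] at this
  exact this.trans card_le_three

variable [FiniteDimensional F V]

theorem exists_nondegOn_le_perp (hQ : (polarBilin Q).Nondegenerate) (X : Submodule F V) :
    ∃ C ≤ perp Q X, NondegOn Q C ∧ finrank F V ≤ finrank F C + 2 * finrank F X := by
  obtain ⟨D, hD⟩ := Submodule.exists_isCompl (perp Q X ⊓ X)
  refine ⟨perp Q X ⊓ D, inf_le_left, ?_, ?_⟩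
  · intro z hz hz'
    have hsup : (perp Q X ⊓ X) ⊔ (perp Q X ⊓ D) = perp Q X := by
      rw [inf_comm (perp Q X) D, ← sup_inf_assoc_of_le _ inf_le_left, hD.sup_eq_top, top_inf_eq]
    have hzX : z ∈ X := by
      rw [← perp_perp hQ X, mem_perp']
      intro w hw
      rw [← hsup] at hw
      obtain ⟨a, ha, b, hb, rfl⟩ := Submodule.mem_sup.1 hw
      rw [polar_add_right, hz' b hb, add_zero, polar_comm]
      exact mem_perp.1 hz.1 a ha.2
    have : z ∈ (perp Q X ⊓ X) ⊓ D := ⟨⟨hz.1, hzX⟩, hz.2⟩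
    rwa [hD.inf_eq_bot, Submodule.mem_bot] at this
  · have h1 := Submodule.finrank_sup_add_finrank_inf_eq (perp Q X) D
    have h2 : perp Q X ⊔ D = ⊤ := by
      rw [eq_top_iff, ← hD.sup_eq_top]
      exact sup_le_sup_right inf_le_left _
    have h3 := Submodule.finrank_add_eq_of_isCompl hD
    have h4 := finrank_add_finrank_perp hQ X
    have h5 : finrank F ↥(perp Q X ⊓ X) ≤ finrank F X := Submodule.finrank_mono inf_le_right
    rw [h2, finrank_top] at h1
    omega

theorem exists_polar_ne_zero_perp (hQ : (polarBilin Q).Nondegenerate) (X : Submodule F V)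
    (h : 2 * finrank F X < finrank F V) :
    ∃ u ∈ perp Q X, ∃ u' ∈ perp Q X, polar Q u u' = 1 := by
  obtain ⟨C, hC, hnd, hd⟩ := exists_nondegOn_le_perp hQ X
  obtain ⟨u, hu, hu0⟩ := Submodule.exists_mem_ne_zero_of_ne_bot
    (ne_bot_of_finrank_pos (W := C) (by omega))
  obtain ⟨u', hu', h⟩ := hnd.exists_polar_eq_one hu hu0
  exact ⟨u, hC hu, u', hC hu', h⟩

theorem exists_nonsing_perp (hQ : (polarBilin Q).Nondegenerate) (X : Submodule F V)
    (h : 2 * finrank F X < finrank F V) : ∃ u ∈ perp Q X, Q u ≠ 0 := by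
  obtain ⟨C, hC, hnd, hd⟩ := exists_nondegOn_le_perp hQ X
  obtain ⟨u, hu, hu0⟩ := hnd.exists_Q_ne_zero (ne_bot_of_finrank_pos (W := C) (by omega))
  exact ⟨u, hC hu, hu0⟩

variable [Finite F]

theorem exists_hyp_perp (hQ : (polarBilin Q).Nondegenerate) (X : Submodule F V)
    (h : 2 * finrank F X + 3 ≤ finrank F V) :
    ∃ e f n, IsHyp Q e f ∧ e ∈ perp Q X ∧ f ∈ perp Q X ∧ n ∈ perp Q X ∧ n ∈ hperp Q e f ∧
      Q n ≠ 0 := by
  obtain ⟨C, hC, hnd, hd⟩ := exists_nondegOn_le_perp hQ X
  obtain ⟨e, he, he0, hQe⟩ := exists_singular_mem Q C (by omega)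
  obtain ⟨f, hf, h⟩ := hnd.exists_isHyp he hQe he0
  obtain ⟨h1, h2⟩ := hnd.inf_hperp h he hf
  obtain ⟨n, hn, hn0⟩ := h1.exists_Q_ne_zero (ne_bot_of_finrank_pos (by omega))
  exact ⟨e, f, n, h, hC he, hC hf, hC hn.1, hn.2, hn0⟩

theorem exists_singular_perp_not_orth (hQ : (polarBilin Q).Nondegenerate) (X : Submodule F V)
    (h : 2 * finrank F X + 3 ≤ finrank F V) {z : V} (hz : z ∉ X) :
    ∃ y ∈ perp Q X, Q y = 0 ∧ polar Q z y = 1 := by
  obtain ⟨e, f, -, hef, he, hf, -⟩ := exists_hyp_perp hQ X h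
  by_contra hcon
  apply hz
  rw [← perp_perp hQ X, mem_perp']
  intro w hw
  refine mem_perp_singleton.1 (mem_of_singular hef he hf (perp Q (F ∙ z)).toAddSubgroup ?_ hw)
  intro y hy hQy
  by_contra hne
  have hne' : polar Q z y ≠ 0 := fun h => hne (mem_perp_singleton.2 h)
  exact hcon ⟨(polar Q z y)⁻¹ • y, Submodule.smul_mem _ _ hy, by rw [Q_smul, hQy, mul_zero],
    by rw [polar_smul_right', inv_mul_cancel₀ hne']⟩

theorem exists_eich_eq_on (hQ : (polarBilin Q).Nondegenerate) (X : Submodule F V)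
    (h : 2 * finrank F X + 3 ≤ finrank F V) (h5 : 5 ≤ finrank F V) (g : O Q) :
    ∃ k : eichGroup Q, ∀ x ∈ X, k • x = g.1 x := by
  obtain ⟨C, hC, hnd, hd⟩ := exists_nondegOn_le_perp hQ X
  obtain ⟨k, hk, hkx⟩ := exists_kerDS_eq_on_of_nondegOn hQ (X : Set V) hnd (by omega)
    (fun x hx w hw => mem_perp.1 (hC hw) x hx) g
  rw [← eichGroup_eq_kerDS hQ (not_isExc_of_finrank (by omega)) (by omega)] at hk
  exact ⟨⟨k, hk⟩, hkx⟩

theorem exists_smul_eq_one (hQ : (polarBilin Q).Nondegenerate) (h5 : 5 ≤ finrank F V) {x y : V}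
    (hx : x ≠ 0) (hy : y ≠ 0) (h : Q x = Q y) : ∃ g : eichGroup Q, g • x = y := by
  obtain ⟨g, hg⟩ := witt_one hQ hx hy h
  obtain ⟨k, hk⟩ := exists_eich_eq_on hQ (F ∙ x) (by rw [finrank_span_singleton hx]; omega) h5 g
  exact ⟨k, by rw [hk x (Submodule.mem_span_singleton_self x), hg]⟩

theorem exists_smul_eq_two (hQ : (polarBilin Q).Nondegenerate) (h7 : 7 ≤ finrank F V)
    {x v w : V} (hx0 : x ≠ 0) (hx : Q x = 0) (hv : polar Q x v = 0) (hw : polar Q x w = 0)
    (hvx : v ∉ F ∙ x) (hwx : w ∉ F ∙ x) {t : F} (ht : t ≠ 0) (h : Q v = t * t * Q w) :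
    ∃ g : eichGroup Q, g • x = t • x ∧ g • v = t • w := by
  obtain ⟨g, hg1, hg2⟩ := witt_two hQ (u := x) (u' := v) (v := t • x) (v' := t • w)
    (linearIndependent_pair_of_not_mem hx0 fun a h => hvx (Submodule.mem_span_singleton.2 ⟨a, h⟩))
    (linearIndependent_pair_of_not_mem (smul_ne_zero ht hx0) fun a h => hwx
      (Submodule.mem_span_singleton.2 ⟨a, smul_right_injective V ht (by
        simp only [← h, smul_smul, mul_comm])⟩))
    (by rw [Q_smul, hx, mul_zero]) (by rw [Q_smul, h])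
    (by rw [polar_smul_left', polar_smul_right', hv, hw]; simp)
  obtain ⟨k, hk⟩ := exists_eich_eq_on hQ (Submodule.span F {x, v})
    (by have := finrank_span_pair_le (F := F) x v; omega) (by omega) g
  exact ⟨k, by rw [hk x (Submodule.subset_span (by simp)), hg1],
    by rw [hk v (Submodule.subset_span (by simp)), hg2]⟩

/-! ### Stabilisers, annihilators and orbits -/

variable (F) in
/-- A non-trivial additive character. -/
noncomputable def ps : AddChar F ℂ := (H32.exists_addChar_ne_one F).choose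

theorem eq_zero_of_ps {a : F} (h : ∀ c, ps F (c * a) = 1) : a = 0 :=
  H32.eq_zero_of_forall_addChar (H32.exists_addChar_ne_one F).choose_spec h

theorem ps_add {a b : F} (ha : ps F a = 1) (hb : ps F b = 1) : ps F (a + b) = 1 := by
  rw [AddChar.map_add_eq_mul, ha, hb, one_mul]

theorem ps_neg {a : F} (ha : ps F a = 1) : ps F (-a) = 1 := by
  have := (ps F).map_add_eq_mul a (-a)
  rw [add_neg_cancel, AddChar.map_zero_eq_one, ha, one_mul] at this
  exact this.symm

theorem ps_sub {a b : F} (ha : ps F a = 1) (hb : ps F b = 1) : ps F (a - b) = 1 := by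
  rw [sub_eq_add_neg]; exact ps_add ha (ps_neg hb)

variable {Ω : Type*} [MulAction (eichGroup Q) Ω]

variable (Q) in
/-- `T x u` fixes `ω`. -/
def St (x : V) (ω : Ω) (u : V) : Prop := polar Q x u = 0 ∧ T Q x u • ω = ω

variable (Q) in
/-- The characters of `Q_x` that occur in the orbit of `ω`. -/
def An (x : V) (ω : Ω) : AddSubgroup V where
  carrier := {w | polar Q x w = 0 ∧ ∀ u, St Q x ω u → ps F (polar Q w u) = 1}
  add_mem' {a b} ha hb := ⟨by rw [polar_add_right, ha.1, hb.1, add_zero], fun u hu => by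
    rw [polar_add_left]; exact ps_add (ha.2 u hu) (hb.2 u hu)⟩
  zero_mem' := ⟨by simp, fun u _ => by simp⟩
  neg_mem' {a} ha := ⟨by rw [polar_neg_right, ha.1, neg_zero], fun u hu => by
    rw [polar_neg_left]; exact ps_neg (ha.2 u hu)⟩

theorem mem_An {x w : V} {ω : Ω} :
    w ∈ An Q x ω ↔ polar Q x w = 0 ∧ ∀ u, St Q x ω u → ps F (polar Q w u) = 1 := Iff.rfl

theorem smul_mem_An {x : V} (hx : Q x = 0) (ω : Ω) (c : F) : c • x ∈ An Q x ω :=
  ⟨by rw [polar_smul_right', polar_self_zero hx, mul_zero], fun u hu => by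
    rw [polar_smul_left', hu.1, mul_zero, AddChar.map_zero_eq_one]⟩

theorem St.smul_self {x : V} (hx : Q x = 0) (ω : Ω) (c : F) : St Q x ω (c • x) :=
  ⟨by rw [polar_smul_right', polar_self_zero hx, mul_zero], by rw [T_smul_self, one_smul]⟩

theorem St.add {x : V} (hx : Q x = 0) {ω : Ω} {u w : V} (hu : St Q x ω u) (hw : St Q x ω w) :
    St Q x ω (u + w) :=
  ⟨by rw [polar_add_right, hu.1, hw.1, add_zero], by
    rw [← T_mul hx hu.1 hw.1, mul_smul, hw.2, hu.2]⟩

theorem St.neg {x : V} {ω : Ω} {u : V} (hu : St Q x ω u) : St Q x ω (-u) :=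
  ⟨by rw [polar_neg_right, hu.1, neg_zero], by rw [← T_inv, inv_smul_eq_iff, hu.2]⟩

theorem St.swap {x y : V} (hx : Q x = 0) (hy : Q y = 0) {ω : Ω} (h : St Q x ω y) :
    St Q y ω x := by
  have : St Q y ω (-x) := ⟨by rw [polar_neg_right, polar_comm, h.1, neg_zero], by
    rw [← T_swap hx hy, h.2]⟩
  simpa using this.neg

theorem T_smul_eq_iff {x : V} (hx : Q x = 0) {ω : Ω} {u w : V} (hu : polar Q x u = 0)
    (hw : polar Q x w = 0) : T Q x u • ω = T Q x w • ω ↔ St Q x ω (u - w) := by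
  have hw' : polar Q x (-w) = 0 := by rw [polar_neg_right, hw, neg_zero]
  rw [← inv_smul_eq_iff, ← mul_smul, T_inv, T_mul hx hw' hu, St, neg_add_eq_sub, polar_sub_right,
    hu, hw, sub_zero]
  simp

theorem St_T_smul {x : V} (hx : Q x = 0) {ω : Ω} {s u : V} (hs : polar Q x s = 0) :
    St Q x (T Q x s • ω) u ↔ St Q x ω u := by
  refine and_congr_right fun hu => ?_
  rw [← mul_smul, T_mul hx hu hs, add_comm, ← T_mul hx hs hu, mul_smul, smul_left_cancel_iff]

theorem St_gsmul {x x' : V} {g : eichGroup Q} {t : F} (ht : t ≠ 0) (hg : g • x = t • x') {ω : Ω}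
    {u : V} : St Q x' (g • ω) (t • g • u) ↔ St Q x ω u := by
  refine and_congr ?_ ?_
  · rw [polar_smul_right', ← polar_smul_left', ← hg, polar_gsmul]
  · rw [← T_smul_left ht, ← hg, ← T_conj, mul_smul, inv_smul_smul, mul_smul, smul_left_cancel_iff]

theorem An_gsmul {x x' : V} {g : eichGroup Q} {t : F} (ht : t ≠ 0) (hg : g • x = t • x') {ω : Ω}
    {w : V} : t⁻¹ • g • w ∈ An Q x' (g • ω) ↔ w ∈ An Q x ω := by
  refine and_congr ?_ ?_
  · rw [← polar_gsmul g x w, hg, polar_smul_right', polar_smul_left']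
    simp [ht]
  · have key : ∀ u, polar Q (t⁻¹ • g • w) (t • g • u) = polar Q w u := fun u => by
      rw [polar_smul_left', polar_smul_right', polar_gsmul, inv_mul_cancel_left₀ ht]
    constructor
    · intro h u hu
      rw [← key]
      exact h _ ((St_gsmul ht hg).2 hu)
    · intro h u hu
      have : u = t • g • (t⁻¹ • g⁻¹ • u) := by
        rw [gsmul_smul, smul_inv_smul, smul_inv_smul₀ ht]
      rw [this] at hu ⊢
      rw [key]
      exact h _ ((St_gsmul ht hg).1 hu)

theorem An_gsmul' {x x' : V} {g : eichGroup Q} (hg : g • x = x') {ω : Ω}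
    {w : V} : g • w ∈ An Q x' (g • ω) ↔ w ∈ An Q x ω := by
  have := An_gsmul (x := x) (x' := x') (g := g) one_ne_zero (by rw [one_smul, hg]) (ω := ω) (w := w)
  rwa [inv_one, one_smul] at this

theorem St_gsmul' {x x' : V} {g : eichGroup Q} (hg : g • x = x') {ω : Ω}
    {u : V} : St Q x' (g • ω) (g • u) ↔ St Q x ω u := by
  have := St_gsmul (x := x) (x' := x') (g := g) one_ne_zero (by rw [one_smul, hg]) (ω := ω) (u := u)
  rwa [one_smul] at this

variable [Fintype Ω]

variable (Q) in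
open Classical in
/-- The orbit of `ω` under `Q_x`. -/
noncomputable def orb (x : V) (ω : Ω) : Finset Ω :=
  univ.filter (fun ω' => ∃ u, polar Q x u = 0 ∧ T Q x u • ω = ω')

theorem mem_orb {x : V} {ω ω' : Ω} :
    ω' ∈ orb Q x ω ↔ ∃ u, polar Q x u = 0 ∧ T Q x u • ω = ω' := by
  simp [orb]

theorem mem_orb_self (x : V) (ω : Ω) : ω ∈ orb Q x ω :=
  mem_orb.2 ⟨0, by simp, by rw [T_zero, one_smul]⟩

theorem orb_eq {x : V} (hx : Q x = 0) (ω : Ω) : ∀ ω' ∈ orb Q x ω, orb Q x ω' = orb Q x ω := by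
  intro ω' h
  obtain ⟨s, hs, rfl⟩ := mem_orb.1 h
  ext ω''
  simp only [mem_orb]
  constructor
  · rintro ⟨u, hu, rfl⟩
    exact ⟨u + s, by rw [polar_add_right, hu, hs, add_zero], by rw [← mul_smul, T_mul hx hu hs]⟩
  · rintro ⟨u, hu, rfl⟩
    have : polar Q x (u - s) = 0 := by rw [polar_sub_right, hu, hs, sub_zero]
    exact ⟨u - s, this, by rw [← mul_smul, T_mul hx this hs, sub_add_cancel]⟩

theorem mem_orb_symm {x : V} (hx : Q x = 0) {ω ω' : Ω} (h : ω' ∈ orb Q x ω) : ω ∈ orb Q x ω' := by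
  rw [orb_eq hx ω ω' h]; exact mem_orb_self x ω

theorem St_of_mem_orb {x : V} (hx : Q x = 0) {ω ω' : Ω} (h : ω' ∈ orb Q x ω) {u : V} :
    St Q x ω' u ↔ St Q x ω u := by
  obtain ⟨s, hs, rfl⟩ := mem_orb.1 h
  exact St_T_smul hx hs

theorem An_of_mem_orb {x : V} (hx : Q x = 0) {ω ω' : Ω} (h : ω' ∈ orb Q x ω) :
    An Q x ω' = An Q x ω := by
  ext w
  simp only [mem_An, St_of_mem_orb hx h]

theorem orb_gsmul {x x' : V} {g : eichGroup Q} {t : F} (ht : t ≠ 0) (hg : g • x = t • x')
    (ω ω' : Ω) : g • ω' ∈ orb Q x' (g • ω) ↔ ω' ∈ orb Q x ω := by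
  simp only [mem_orb]
  have key : ∀ u, T Q x' (t • g • u) • g • ω = g • T Q x u • ω := fun u => by
    rw [← T_smul_left ht, ← hg, ← T_conj, mul_smul, inv_smul_smul, mul_smul]
  have key2 : ∀ u, polar Q x' (t • g • u) = polar Q x u := fun u => by
    rw [polar_smul_right', ← polar_smul_left', ← hg, polar_gsmul]
  constructor
  · rintro ⟨u, hu, h⟩
    have : u = t • g • (t⁻¹ • g⁻¹ • u) := by
      rw [gsmul_smul, smul_inv_smul, smul_inv_smul₀ ht]
    rw [this] at hu h
    rw [key, smul_left_cancel_iff] at h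
    exact ⟨_, key2 _ ▸ hu, h⟩
  · rintro ⟨u, hu, rfl⟩
    exact ⟨_, (key2 u).trans hu, key u⟩

theorem card_orb_gsmul {x x' : V} {g : eichGroup Q} {t : F} (ht : t ≠ 0) (hg : g • x = t • x')
    (ω : Ω) : (orb Q x' (g • ω)).card = (orb Q x ω).card := by
  symm
  apply card_bij (fun ω' _ => g • ω')
  · intro ω' h; exact (orb_gsmul ht hg ω ω').2 h
  · intro a _ b _ h; exact smul_left_cancel g h
  · intro ω' h
    exact ⟨g⁻¹ • ω', (orb_gsmul ht hg ω _).1 (by rwa [smul_inv_smul]), by simp⟩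

section hyp

variable {x x' : V}

theorem hproj_eq (h : IsHyp Q x x') {w : V} (hw : polar Q x w = 0) :
    w = hproj Q x x' w + polar Q w x' • x := by
  rw [hproj, polar_comm Q w x, hw, zero_smul]; abel

theorem hperp_polar {w : V} (hw : w ∈ hperp Q x x') : polar Q x w = 0 := by
  rw [polar_comm]; exact hw.1

theorem not_mem_span_of_hperp (h : IsHyp Q x x') {w : V} (hw : w ∈ hperp Q x x') (h0 : w ≠ 0) :
    w ∉ F ∙ x := by
  intro hm
  obtain ⟨a, rfl⟩ := Submodule.mem_span_singleton.1 hm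
  have := hw.2
  rw [polar_smul_left', h.pol, mul_one] at this
  exact h0 (by rw [this, zero_smul])

theorem hproj_mem_An (h : IsHyp Q x x') {ω : Ω} {w : V} (hw : polar Q x w = 0) :
    hproj Q x x' w ∈ An Q x ω ↔ w ∈ An Q x ω := by
  conv_rhs => rw [hproj_eq h hw]
  exact ((An Q x ω).add_mem_cancel_right (smul_mem_An h.left ω _)).symm

theorem St_hproj (h : IsHyp Q x x') {ω : Ω} {w : V} (hw : polar Q x w = 0) :
    St Q x ω (hproj Q x x' w) ↔ St Q x ω w := by
  conv_rhs => rw [hproj_eq h hw]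
  rw [St, St, T_add_smul, ← hproj_eq h hw, hw, hperp_polar (h.hproj_mem w)]

theorem Q_hproj (h : IsHyp Q x x') {w : V} (hw : polar Q x w = 0) : Q (hproj Q x x' w) = Q w := by
  rw [h.Q_eq w, polar_comm Q w x, hw, mul_zero, zero_add]

/-- The pairing given by the polar form on the complement of a hyperbolic plane. -/
noncomputable def pairing (hQ : (polarBilin Q).Nondegenerate) (h : IsHyp Q x x') :
    H32.CPairing (hperp Q x x') (hperp Q x x') where
  p w u := ps F (polar Q (w : V) u)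
  zero_left a := by simp
  zero_right a := by simp
  add_left y z a := by rw [Submodule.coe_add, polar_add_left, AddChar.map_add_eq_mul]
  add_right y a b := by rw [Submodule.coe_add, polar_add_right, AddChar.map_add_eq_mul]
  sep a ha := by
    obtain ⟨y, hy, h1⟩ := (h.nondegOn_hperp hQ).exists_polar_eq_one a.2
      (fun h0 => ha (Subtype.ext h0))
    by_contra hcon
    push Not at hcon
    refine one_ne_zero (eq_zero_of_ps (F := F) fun c => ?_)
    have := hcon ⟨c • y, Submodule.smul_mem _ c hy⟩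
    rwa [polar_smul_left', polar_comm, h1] at this

/-- The stabiliser inside the complement. -/
def StP (h : IsHyp Q x x') (ω : Ω) : AddSubgroup (hperp Q x x') where
  carrier := {u | St Q x ω u}
  add_mem' ha hb := St.add h.left ha hb
  zero_mem' := by simpa using St.smul_self h.left ω 0
  neg_mem' ha := St.neg ha

theorem mem_perp_StP (hQ : (polarBilin Q).Nondegenerate) (h : IsHyp Q x x') {ω : Ω}
    {w : hperp Q x x'} : w ∈ (pairing hQ h).perp (StP h ω) ↔ (w : V) ∈ An Q x ω := by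
  constructor
  · intro hw
    refine ⟨hperp_polar w.2, fun u hu => ?_⟩
    rw [hproj_eq h hu.1, polar_add_right, polar_smul_right', w.2.1, mul_zero, add_zero]
    exact hw ⟨_, h.hproj_mem u⟩ ((St_hproj h hu.1).2 hu)
  · intro hw u hu
    exact hw.2 u hu

theorem card_orb_mul (h : IsHyp Q x x') (ω : Ω) :
    (orb Q x ω).card * Nat.card (StP h ω) = Nat.card (hperp Q x x') := by
  classical
  have : Finite V := Module.finite_of_finite F
  have := Fintype.ofFinite (hperp Q x x')
  rw [Nat.card_eq_fintype_card (α := hperp Q x x'), ← card_univ,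
    card_eq_sum_card_fiberwise (f := fun u : hperp Q x x' => T Q x u • ω) (t := orb Q x ω)
      (fun u _ => mem_orb.2 ⟨u, hperp_polar u.2, rfl⟩), ← smul_eq_mul, ← sum_eq_card_nsmul]
  intro ω' hω'
  obtain ⟨s, hs, rfl⟩ := mem_orb.1 hω'
  rw [Nat.card_eq_fintype_card, Fintype.card_subtype]
  let s' : hperp Q x x' := ⟨_, h.hproj_mem s⟩
  have hs' : T Q x s = T Q x s' := by
    conv_lhs => rw [hproj_eq h hs, T_add_smul]
  apply card_bij (fun u _ => u - s')
  · intro u hu
    simp only [mem_filter, mem_univ, true_and] at hu ⊢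
    rw [hs'] at hu
    exact (T_smul_eq_iff h.left (hperp_polar u.2) (hperp_polar s'.2)).1 hu
  · intro a _ b _ h; exact sub_left_injective h
  · intro u hu
    simp only [mem_filter, mem_univ, true_and] at hu ⊢
    refine ⟨u + s', ?_, by simp⟩
    rw [hs', T_smul_eq_iff h.left (hperp_polar (u + s').2) (hperp_polar s'.2), Submodule.coe_add, add_sub_cancel_right]
    exact hu

theorem card_orb_eq (hQ : (polarBilin Q).Nondegenerate) (h : IsHyp Q x x') (ω : Ω) :
    (orb Q x ω).card = Nat.card {w : hperp Q x x' // (w : V) ∈ An Q x ω} := by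
  have : Finite V := Module.finite_of_finite F
  have h1 := (pairing hQ h).card_perp_mul (StP h ω)
  rw [← card_orb_mul h ω] at h1
  rw [← Nat.eq_of_mul_eq_mul_right Nat.card_pos h1]
  exact Nat.card_congr (Equiv.subtypeEquivRight fun w => mem_perp_StP hQ h)

/-- The stabiliser is the annihilator of the characters that occur. -/
theorem St_of_An (hQ : (polarBilin Q).Nondegenerate) {x : V} (hx0 : x ≠ 0) (hx : Q x = 0) {ω : Ω}
    {u : V} (hu : polar Q x u = 0) (h : ∀ w ∈ An Q x ω, ps F (polar Q w u) = 1) : St Q x ω u := by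
  have : Finite V := Module.finite_of_finite F
  obtain ⟨x', h'⟩ := exists_isHyp hQ hx hx0
  let P := pairing hQ h'
  have h1 := P.card_perp_mul (StP h' ω)
  have h2 := P.card_perp_mul (P.perp (StP h' ω))
  have hle : StP h' ω ≤ P.perp (P.perp (StP h' ω)) := fun a ha w hw => by
    change ps F (polar Q (a : V) w) = 1
    rw [polar_comm]
    exact hw a ha
  have heq : StP h' ω = P.perp (P.perp (StP h' ω)) := by
    apply AddSubgroup.eq_of_le_of_card_ge hle
    rw [← h1, mul_comm] at h2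
    exact (Nat.eq_of_mul_eq_mul_left Nat.card_pos h2).le
  rw [← St_hproj h' hu]
  change (⟨_, h'.hproj_mem u⟩ : hperp Q x x') ∈ StP h' ω
  rw [heq]
  intro w hw
  change ps F (polar Q (hproj Q x x' u) w) = 1
  have := h w ((mem_perp_StP hQ h').1 hw)
  rwa [hproj_eq h' hu, polar_add_right, polar_smul_right', w.2.1, mul_zero, add_zero,
    polar_comm] at this

end hyp

end Cfsg.Agent.H33.OD
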