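import Cfsg.Agent.H33.OrthDeg1

/-! Actions of orthogonal groups of small degree: multiplicities and invariant subgroups. -/

set_option autoImplicit false
set_option linter.unusedSectionVars false

namespace Cfsg.Agent.H33.OD

open Cfsg.Agent.H30 QuadraticMap Module Finset

variable {F V : Type*} [Field F] [Fintype F] [AddCommGroup V] [Module F V] [FiniteDimensional F V]
  [Fintype V] {Q : QuadraticForm F V} {Ω : Type*} [MulAction (eichGroup Q) Ω] [Fintype Ω]

theorem card_submodule (M : Submodule F V) : Nat.card M = Fintype.card F ^ finrank F M := by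
  rw [Module.natCard_eq_pow_finrank (K := F), Nat.card_eq_fintype_card]

theorem card_mul_le_of_polar (M : Submodule F V) {y : V} (S : Finset V)
    (hS : ∀ z ∈ S, z ∈ M ∧ polar Q z y = 1) :
    S.card * Fintype.card F ≤ Fintype.card F ^ finrank F M := by
  rcases S.eq_empty_or_nonempty with rfl | ⟨z₀, hz₀⟩
  · simp
  rw [← card_submodule, ← Fintype.card_coe, ← Fintype.card_prod, ← Nat.card_eq_fintype_card]
  refine Nat.card_le_card_of_injective (fun p : S × F => (⟨p.1.1 + p.2 • z₀,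
    M.add_mem (hS _ p.1.2).1 (M.smul_mem _ (hS _ hz₀).1)⟩ : M)) ?_
  rintro ⟨⟨a, ha⟩, c⟩ ⟨⟨b, hb⟩, d⟩ h
  simp only [Subtype.mk.injEq] at h
  have h1 := congrArg (fun z => polar Q z y) h
  simp only [polar_add_left, polar_smul_left', (hS _ ha).2, (hS _ hb).2, (hS _ hz₀).2, mul_one,
    add_right_inj] at h1
  subst h1
  rw [add_left_inj] at h
  subst h
  rfl

variable {x x' : V}

theorem card_hperp (h : IsHyp Q x x') :
    Nat.card (hperp Q x x') = Fintype.card F ^ (finrank F V - 2) := by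
  rw [card_submodule, ← h.finrank_hperp, Nat.add_sub_cancel]

theorem card_mul_le_of_hperp (h : IsHyp Q x x') (M : Submodule F V) (hx : x ∈ M) (p : V → Prop)
    (hp : ∀ w, p w → w ∈ M) :
    Nat.card {w : hperp Q x x' // p w} * Fintype.card F ≤ Fintype.card F ^ finrank F M := by
  rw [← card_submodule, ← Nat.card_eq_fintype_card, ← Nat.card_prod]
  refine Nat.card_le_card_of_injective (fun a : {w : hperp Q x x' // p w} × F =>
    (⟨a.1.1.1 + a.2 • x, M.add_mem (hp _ a.1.2) (M.smul_mem _ hx)⟩ : M)) ?_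
  rintro ⟨⟨⟨a, ha⟩, ha'⟩, c⟩ ⟨⟨⟨b, hb⟩, hb'⟩, d⟩ h'
  simp only [Subtype.mk.injEq] at h'
  have h1 := congrArg (fun z => polar Q z x') h'
  simp only [polar_add_left, polar_smul_left', ha.2, hb.2, h.pol, mul_one, add_right_inj] at h1
  subst h1
  rw [add_left_inj] at h'
  subst h'
  rfl

theorem card_orb_mul_le (hQ : (polarBilin Q).Nondegenerate) (hx0 : x ≠ 0) (hx : Q x = 0) {ω : Ω}
    (M : Submodule F V) (hM : ∀ w ∈ An Q x ω, w ∈ M) :
    (orb Q x ω).card * Fintype.card F ≤ Fintype.card F ^ finrank F M := by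
  obtain ⟨x', h⟩ := exists_isHyp hQ hx hx0
  rw [card_orb_eq hQ h]
  exact card_mul_le_of_hperp h M (hM x (by simpa using smul_mem_An hx ω 1)) (· ∈ An Q x ω) hM

theorem ts_span (A : AddSubgroup V) (h : ∀ a ∈ A, Q a = 0) :
    ∀ z ∈ Submodule.span F (A : Set V), Q z = 0 := by
  have h1 : ∀ a ∈ A, ∀ b ∈ A, polar Q a b = 0 := fun a ha b hb => by
    have := h _ (A.add_mem ha hb)
    rwa [Q_add, h a ha, h b hb, zero_add, zero_add] at this
  have h2 : Submodule.span F (A : Set V) ≤ perp Q (Submodule.span F (A : Set V)) :=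
    Submodule.span_le.2 fun b hb => mem_perp_span.2 fun a ha => h1 a ha b hb
  intro z hz
  induction hz using Submodule.span_induction with
  | mem a ha => exact h a ha
  | zero => simp
  | add a b ha hb ha' hb' => rw [Q_add, ha', hb', mem_perp.1 (h2 hb) a ha]; simp
  | smul c a _ ha => rw [Q_smul, ha, mul_zero]

/-! ### Multiplicities -/

variable (Q) in
/-- Properties of points that are invariant under the stabiliser of the point `x`. -/
def Inv (x : V) (P : Ω → Prop) : Prop :=
  ∀ (g : eichGroup Q) (t : F), t ≠ 0 → g • x = t • x → ∀ ω, P ω → P (g • ω)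

theorem Inv.fix {P : Ω → Prop} (h : Inv Q x P) {g : eichGroup Q} (hg : g • x = x) {ω : Ω}
    (hω : P ω) : P (g • ω) := h g 1 one_ne_zero (by rw [one_smul, hg]) ω hω

theorem T_smul_self' (u : V) : T Q x u • x = x := eich_apply_self x u

theorem Inv.orb {P : Ω → Prop} (h : Inv Q x P) (ω : Ω) : ∀ ω' ∈ orb Q x ω, P ω → P ω' := by
  intro ω' h' hω
  obtain ⟨u, -, rfl⟩ := mem_orb.1 h'
  exact h.fix (T_smul_self' u) hω

theorem Inv.not {P : Ω → Prop} (h : Inv Q x P) : Inv Q x (fun ω => ¬ P ω) := by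
  intro g t ht hg ω hω hP
  apply hω
  have := h g⁻¹ t⁻¹ (inv_ne_zero ht) (by
    rw [inv_smul_eq_iff, gsmul_smul, hg, inv_smul_smul₀ ht]) _ hP
  rwa [inv_smul_smul] at this

theorem inv_true : Inv Q x (fun _ : Ω => True) := fun _ _ _ _ _ _ => trivial

variable (Q) in
/-- The number of orbits with property `P` in which the character `w` occurs. -/
noncomputable def mult (x : V) (P : Ω → Prop) (w : V) : ℕ :=
  ncl (orb Q x) (fun ω => P ω ∧ w ∈ An Q x ω)

variable (Q) in
open Classical in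
/-- The non-zero vectors of the complement. -/
noncomputable def nz (x x' : V) : Finset V := univ.filter (fun w => w ∈ hperp Q x x' ∧ w ≠ 0)

variable (Q) in
open Classical in
/-- The class of vectors of norm `c` modulo squares. -/
noncomputable def cl (x x' : V) (c : F) : Finset V :=
  (nz Q x x').filter (fun w => ∃ t : F, t ≠ 0 ∧ c = t * t * Q w)

theorem mem_nz {w : V} : w ∈ nz Q x x' ↔ w ∈ hperp Q x x' ∧ w ≠ 0 := by simp [nz]

theorem mem_cl {c : F} {w : V} :
    w ∈ cl Q x x' c ↔ (w ∈ hperp Q x x' ∧ w ≠ 0) ∧ ∃ t : F, t ≠ 0 ∧ c = t * t * Q w := by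
  simp only [cl, mem_filter, mem_nz]

theorem cl_subset (c : F) : cl Q x x' c ⊆ nz Q x x' := fun _ hw => mem_nz.2 (mem_cl.1 hw).1

theorem mem_cl_zero {w : V} : w ∈ cl Q x x' 0 ↔ w ∈ nz Q x x' ∧ Q w = 0 := by
  rw [mem_cl, mem_nz]
  refine and_congr_right fun _ => ⟨fun ⟨t, ht, h⟩ => ?_, fun h => ⟨1, one_ne_zero, by simp [h]⟩⟩
  simpa [ht] using h

theorem card_nz (h : IsHyp Q x x') :
    (nz Q x x').card + 1 = Fintype.card F ^ (finrank F V - 2) := by
  classical
  rw [← card_hperp h, Nat.card_eq_fintype_card, Fintype.card_subtype,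
    ← card_insert_of_notMem (a := 0) (by simp [mem_nz])]
  congr 1
  ext w
  by_cases hw : w = 0 <;> simp [mem_nz, hw]

theorem mult_le (hQ : (polarBilin Q).Nondegenerate) (h7 : 7 ≤ finrank F V) (h : IsHyp Q x x')
    {P : Ω → Prop} (hP : Inv Q x P) {v w : V} (hv : polar Q x v = 0) (hvx : v ∉ F ∙ x)
    (hw : w ∈ cl Q x x' (Q v)) : mult Q x P v ≤ mult Q x P w := by
  obtain ⟨⟨hw1, hw0⟩, t, ht, hc⟩ := mem_cl.1 hw
  obtain ⟨g, hg1, hg2⟩ := exists_smul_eq_two hQ h7 h.left_ne_zero h.left hv (hperp_polar hw1) hvx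
    (not_mem_span_of_hperp h hw1 hw0) ht hc
  refine ncl_le_of_equiv _ _ (MulAction.toPerm g) (orb_gsmul ht hg1) (fun ω hω => ⟨hP g t ht hg1 ω hω.1, ?_⟩)
  have := (An_gsmul ht hg1).2 hω.2
  rwa [hg2, inv_smul_smul₀ ht] at this

open Classical in
theorem card_filter_eq (hQ : (polarBilin Q).Nondegenerate) (h : IsHyp Q x x')
    {P : Ω → Prop} (hP : Inv Q x P) :
    (univ.filter P).card = ncl (orb Q x) P + ∑ w ∈ nz Q x x', mult Q x P w := by
  rw [card_filter_eq_sum_ncl (orb Q x) (mem_orb_self x) (orb_eq h.left) P hP.orb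
    (fun ω w => w ∈ hperp Q x x' ∧ w ∈ An Q x ω)
    (fun ω ω' h' w hw => ⟨hw.1, by rw [An_of_mem_orb h.left h']; exact hw.2⟩)
    (fun ω => by
      rw [card_orb_eq hQ h, ← Fintype.card_subtype, ← Nat.card_eq_fintype_card]
      exact Nat.card_congr (Equiv.subtypeSubtypeEquivSubtypeInter _ (· ∈ An Q x ω)))]
  rw [← add_sum_erase _ _ (mem_univ 0)]
  congr 1
  · exact ncl_congr _ fun ω => by simp
  · symm
    apply sum_subset_zero_on_sdiff
    · intro w hw; simp [(mem_nz.1 hw).2]
    · intro w hw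
      simp only [mem_sdiff, mem_erase, mem_univ, and_true, mem_nz, not_and, not_not] at hw
      unfold ncl
      simp only [card_eq_zero, image_eq_empty, filter_eq_empty_iff]
      exact fun ω _ hω => hw.1 (hw.2 hω.2.1)
    · intro w hw
      exact ncl_congr _ fun ω => by simp [(mem_nz.1 hw).1]

theorem mul_card_cl_le (hQ : (polarBilin Q).Nondegenerate) (h7 : 7 ≤ finrank F V)
    (h : IsHyp Q x x') {P : Ω → Prop} (hP : Inv Q x P) {v : V} (hv : polar Q x v = 0)
    (hvx : v ∉ F ∙ x) {k : ℕ} (hk : k ≤ mult Q x P v) :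
    k * (cl Q x x' (Q v)).card ≤ ∑ w ∈ cl Q x x' (Q v), mult Q x P w := by
  rw [mul_comm, ← smul_eq_mul]
  exact card_nsmul_le_sum _ _ _ fun w hw => hk.trans (mult_le hQ h7 h hP hv hvx hw)

theorem one_class (hQ : (polarBilin Q).Nondegenerate) (h7 : 7 ≤ finrank F V)
    (h : IsHyp Q x x') {P : Ω → Prop} (hP : Inv Q x P) {v : V} (hv : polar Q x v = 0)
    (hvx : v ∉ F ∙ x) {k : ℕ} (hk : k ≤ mult Q x P v) :
    k * (cl Q x x' (Q v)).card ≤ ∑ w ∈ nz Q x x', mult Q x P w :=
  (mul_card_cl_le hQ h7 h hP hv hvx hk).trans (sum_le_sum_of_subset (cl_subset _))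

theorem two_class (hQ : (polarBilin Q).Nondegenerate) (h7 : 7 ≤ finrank F V)
    (h : IsHyp Q x x') {P : Ω → Prop} (hP : Inv Q x P) {v v' : V} (hv : polar Q x v = 0)
    (hvx : v ∉ F ∙ x) (hv' : polar Q x v' = 0) (hvx' : v' ∉ F ∙ x)
    (hne : ∀ t : F, t ≠ 0 → Q v ≠ t * t * Q v') {k : ℕ} (hk : k ≤ mult Q x P v)
    (hk' : k ≤ mult Q x P v') :
    k * ((cl Q x x' (Q v)).card + (cl Q x x' (Q v')).card) ≤ ∑ w ∈ nz Q x x', mult Q x P w := by
  classical
  have hd : Disjoint (cl Q x x' (Q v)) (cl Q x x' (Q v')) := by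
    rw [disjoint_left]
    intro w hw hw'
    obtain ⟨-, t, ht, hc⟩ := mem_cl.1 hw
    obtain ⟨-, t', ht', hc'⟩ := mem_cl.1 hw'
    apply hne (t / t') (div_ne_zero ht ht')
    rw [hc, hc']; field_simp
  rw [mul_add]
  refine (add_le_add (mul_card_cl_le hQ h7 h hP hv hvx hk)
    (mul_card_cl_le hQ h7 h hP hv' hvx' hk')).trans ?_
  rw [← sum_union hd]
  exact sum_le_sum_of_subset (union_subset (cl_subset _) (cl_subset _))

/-! ### Invariant subgroups -/

theorem irr_aux (hQ : (polarBilin Q).Nondegenerate) (h7 : 7 ≤ finrank F V) {ω : Ω}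
    {v y : V} (hy : Q y = 0)
    (hinv : ∀ u ∈ perp Q (Submodule.span F {x, v, y}), ∀ w ∈ An Q x ω, T Q y u • w ∈ An Q x ω)
    {w r : V} (hw : w ∈ An Q x ω) (hr : St Q x ω r) :
    polar Q w y * polar Q r y = 0 ∧
      polar Q w y • r - polar Q r y • w ∈ Submodule.span F {x, v, y} := by
  have hf : ∀ u ∈ perp Q (Submodule.span F {x, v, y}), ps F (polar Q w y * polar Q u r -
      polar Q w u * polar Q r y - Q u * (polar Q w y * polar Q r y)) = 1 := by
    intro u hu
    have := ((An Q x ω).sub_mem (hinv u hu w hw) hw).2 r hr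
    rw [T_smul hy (mem_perp_triple.1 hu).2.2] at this
    convert this using 2
    simp only [polar_sub_left, polar_add_left, polar_smul_left', polar_comm Q y r]
    ring
  obtain ⟨u, hu, u', hu', huu⟩ := exists_polar_ne_zero_perp hQ (Submodule.span F {x, v, y})
    (by have := finrank_span_triple_le (F := F) x v y; omega)
  have h1 : polar Q w y * polar Q r y = 0 := by
    apply eq_zero_of_ps
    intro c
    have := ps_sub (ps_add (hf _ (Submodule.smul_mem _ c hu)) (hf _ hu'))
      (hf _ (Submodule.add_mem _ (Submodule.smul_mem _ c hu) hu'))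
    convert this using 2
    simp only [polar_add_left, polar_add_right, polar_smul_left', polar_smul_right', Q_add, huu]
    ring
  refine ⟨h1, ?_⟩
  rw [← perp_perp hQ (Submodule.span F {x, v, y}), mem_perp]
  intro z hz
  apply eq_zero_of_ps
  intro c
  have := hf _ (Submodule.smul_mem _ c hz)
  convert this using 2
  rw [h1]
  simp only [polar_sub_right, polar_smul_left', polar_smul_right', polar_comm Q z w]
  ring

theorem irr (hQ : (polarBilin Q).Nondegenerate) (h7 : 7 ≤ finrank F V) (hx0 : x ≠ 0)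
    (hx : Q x = 0) {ω : Ω} {v : V}
    (hinv : ∀ y ∈ perp Q (Submodule.span F {x, v}), Q y = 0 →
      ∀ u ∈ perp Q (Submodule.span F {x, v, y}), T Q y u • ω ∈ orb Q x ω) :
    (∀ w ∈ An Q x ω, w ∈ Submodule.span F {x, v}) ∨
      ∀ r, St Q x ω r → r ∈ Submodule.span F {x, v} := by
  by_contra hcon
  push Not at hcon
  obtain ⟨⟨w, hw, hwX⟩, r, hr, hrX⟩ := hcon
  have hd := finrank_span_pair_le (F := F) x v
  have key : ∀ y ∈ perp Q (Submodule.span F {x, v}), Q y = 0 → ∀ w ∈ An Q x ω, ∀ r, St Q x ω r →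
      polar Q w y * polar Q r y = 0 ∧
        polar Q w y • r - polar Q r y • w ∈ Submodule.span F {x, v, y} := by
    intro y hy hQy w hw r hr
    refine irr_aux hQ h7 hQy (fun u hu w hw => ?_) hw hr
    rw [← An_of_mem_orb hx (hinv y hy hQy u hu)]
    exact (An_gsmul' (T_smul_of_orth (mem_perp_pair.1 hy).1 (mem_perp_triple.1 hu).1)).2 hw
  obtain ⟨y, hy, hQy, hwy⟩ := exists_singular_perp_not_orth hQ _ (by omega) hwX
  obtain ⟨y', hy', hQy', hry⟩ := exists_singular_perp_not_orth hQ _ (by omega) hrX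
  have h1 : ∀ r, St Q x ω r → r ∈ Submodule.span F {x, v, y} := fun r hr => by
    obtain ⟨h1, h2⟩ := key y hy hQy w hw r hr
    rw [hwy, one_mul] at h1
    rwa [hwy, h1, one_smul, zero_smul, sub_zero] at h2
  have h2 : ∀ w ∈ An Q x ω, w ∈ Submodule.span F {x, v, y'} := fun w hw => by
    obtain ⟨h1, h2⟩ := key y' hy' hQy' w hw r hr
    rw [hry, mul_one] at h1
    rwa [hry, h1, one_smul, zero_smul, zero_sub, Submodule.neg_mem_iff] at h2
  obtain ⟨x', h⟩ := exists_isHyp hQ hx hx0
  have h3 := card_orb_mul_le hQ hx0 hx _ h2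
  have h4 : Nat.card (StP h ω) * Fintype.card F ≤ _ :=
    card_mul_le_of_hperp h _ (Submodule.subset_span (by simp)) (St Q x ω) h1
  have h5 := card_orb_mul h ω
  have hq : 1 < Fintype.card F := Fintype.one_lt_card
  have h6 := h3.trans (Nat.pow_le_pow_right hq.le (finrank_span_triple_le x v y'))
  have h7' := h4.trans (Nat.pow_le_pow_right hq.le (finrank_span_triple_le x v y))
  rw [card_hperp h] at h5
  have h8 : Fintype.card F ^ (finrank F V - 2 + 2) ≤ Fintype.card F ^ (3 + 3) := by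
    rw [pow_add, ← h5, pow_add]
    calc _ = ((orb Q x ω).card * Fintype.card F) * (Nat.card (StP h ω) * Fintype.card F) := by ring
      _ ≤ _ := Nat.mul_le_mul h6 h7'
  have := (Nat.pow_le_pow_iff_right hq).1 h8
  omega

theorem ringChar_prime : (ringChar F).Prime := CharP.char_is_prime F _

theorem irr_of_mult_lt (hQ : (polarBilin Q).Nondegenerate) (h7 : 7 ≤ finrank F V) (hx0 : x ≠ 0)
    (hx : Q x = 0) {ω : Ω} {v : V} (hv : v ∈ An Q x ω)
    (hm : mult Q x (fun _ : Ω => True) v < ringChar F) :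
    (∀ w ∈ An Q x ω, w ∈ Submodule.span F {x, v}) ∨
      ∀ r, St Q x ω r → r ∈ Submodule.span F {x, v} := by
  refine irr hQ h7 hx0 hx fun y hy hQy u hu => ?_
  obtain ⟨h1, h2⟩ := mem_perp_pair.1 hy
  obtain ⟨h3, h4, h5⟩ := mem_perp_triple.1 hu
  have hgx : T Q y u • x = x := T_smul_of_orth h1 h3
  have hgv : T Q y u • v = v := T_smul_of_orth h2 h4
  refine smul_mem_of_ncl_lt (orb Q x) (mem_orb_self x) ringChar_prime (T_pow_char hQy h5)
    (orb_gsmul one_ne_zero (by rw [one_smul, hgx])) (fun ω' hω' => ⟨trivial, ?_⟩) hm ⟨trivial, hv⟩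
  have := (An_gsmul' hgx).2 hω'.2
  rwa [hgv] at this

/-- The images of `w` under the Siegel transformations with centre `y` that fix `x` and `v`. -/
theorem exists_cover (hQ : (polarBilin Q).Nondegenerate) {v y w : V} (hy : Q y = 0)
    (hxy : polar Q x y = 0) (hvy : polar Q v y = 0) (hwy : polar Q w y = 1) :
    ∃ Z : Finset V, Fintype.card F ^ (finrank F V - 4) ≤ Z.card ∧
      ∀ z ∈ Z, polar Q z y = 1 ∧ ∃ g : eichGroup Q, g • x = x ∧ g • v = v ∧ z = g • w := by
  classical
  let U := perp Q (Submodule.span F {x, v, y}) ⊓ perp Q (F ∙ w)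
  have hU : finrank F V - 4 ≤ finrank F U := by
    have h1 := finrank_inf_perp_singleton (Q := Q) (perp Q (Submodule.span F {x, v, y})) w
    have h2 := finrank_add_finrank_perp hQ (Submodule.span F {x, v, y})
    have h3 := finrank_span_triple_le (F := F) x v y
    change _ ≤ finrank F U + 1 at h1
    omega
  refine ⟨(univ.filter (· ∈ U)).image (fun u => T Q y u • w), ?_, ?_⟩
  · rw [card_image_of_injOn, ← Fintype.card_subtype, ← Nat.card_eq_fintype_card (α := U),
      card_submodule]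
    · exact Nat.pow_le_pow_right Fintype.card_pos hU
    · intro a ha b hb hab
      simp only [coe_filter, mem_univ, true_and, Set.mem_ofPred_eq] at ha hb
      have ha2 := mem_perp_singleton.1 ha.2
      have hb2 := mem_perp_singleton.1 hb.2
      simp only [T_smul hy (mem_perp_triple.1 ha.1).2.2, T_smul hy (mem_perp_triple.1 hb.1).2.2,
        hwy, ha2, hb2, one_smul, zero_smul, sub_zero, mul_one] at hab
      have h1 := congrArg (fun z => polar Q w z) hab
      simp only [polar_sub_right, polar_add_right, polar_smul_right', ha2, hb2, hwy, mul_one,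
        add_zero, sub_right_inj] at h1
      rw [h1, sub_left_inj, add_right_inj] at hab
      exact hab
  · intro z hz
    obtain ⟨u, hu, rfl⟩ := mem_image.1 hz
    obtain ⟨h3, h4, h5⟩ := mem_perp_triple.1 (mem_filter.1 hu).2.1
    refine ⟨?_, _, T_smul_of_orth hxy h3, T_smul_of_orth hvy h4, rfl⟩
    rw [← hwy, ← polar_gsmul (T Q y u) w y, T_smul_self']

end Cfsg.Agent.H33.OD
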