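import Cfsg.Agent.H33.OrthDeg2

/-! Actions of orthogonal groups of small degree: the types of orbits of `Q_x`. -/

set_option autoImplicit false
set_option linter.unusedSectionVars false

namespace Cfsg.Agent.H33.OD

open Cfsg.Agent.H30 QuadraticMap Module Finset

variable {F V : Type*} [Field F] [Fintype F] [AddCommGroup V] [Module F V] [FiniteDimensional F V]
  [Fintype V] {Q : QuadraticForm F V} {Ω : Type*} [MulAction (eichGroup Q) Ω] [Fintype Ω]

local notation "q" => Fintype.card F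

/-- The numerical hypotheses. -/
structure Data (Q : QuadraticForm F V) (N0 ν : ℕ) : Prop where
  nd : (polarBilin Q).Nondegenerate
  h7 : 7 ≤ finrank F V
  ts : ∀ M : Submodule F V, (∀ z ∈ M, Q z = 0) → finrank F M ≤ ν
  hν : ν + 4 ≤ finrank F V
  h8 : q = 2 → 8 ≤ finrank F V
  h1 : ∀ x x', IsHyp Q x x' →
    (q - 1) * N0 ≤ (q - 1) * (1 + q ^ (finrank F V - 2)) + q * (cl Q x x' 0).card
  h2 : ∀ x x', IsHyp Q x x' → ∀ c, c ≠ 0 →
    (q - 1) * N0 ≤ (q - 1) * q ^ (finrank F V - 2) + q * (cl Q x x' c).card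
  h3 : N0 + 1 ≤ 2 * q ^ (finrank F V - 2)
  h4a : 4 ≤ q → ∀ x x', IsHyp Q x x' → ∀ c, c ≠ 0 → N0 ≤ ringChar F * (cl Q x x' c).card
  h4b : q = 3 → ∀ x x', IsHyp Q x x' → ∀ c c', N0 ≤ 3 * ((cl Q x x' c).card + (cl Q x x' c').card)
  h4c : q = 2 → ∀ x x', IsHyp Q x x' → 3 * N0 ≤ 16 * (cl Q x x' 1).card
  h5 : ν + 5 ≤ finrank F V → ∀ x x', IsHyp Q x x' → N0 ≤ (q ^ 2 + 1) * (cl Q x x' 0).card
  h6 : finrank F V = ν + 4 → ∀ x x', IsHyp Q x x' → ∃ NT t,
    (q ^ (ν - 1) - 1) * NT = (q + 1) * (cl Q x x' 0).card * q ^ (ν - 1) ∧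
    (q - 1) * (NT + t) = (q - 1) * (1 + q ^ (finrank F V - 2)) + q * (cl Q x x' 0).card ∧
    t * t < 4 * NT ∧ (∀ c, t ≤ (cl Q x x' c).card) ∧ (N0 ≤ NT ∨ ν = 3 ∨ 4 ≤ q)

variable (Q) in
/-- `Q_x` acts regularly on the orbit of `ω`. -/
def Reg (x : V) (ω : Ω) : Prop := ∀ u, St Q x ω u → u ∈ F ∙ x

variable (Q) in
/-- The characters in the orbit of `ω` lie in a point. -/
def Small (x : V) (ω : Ω) : Prop := ∃ v, ∀ w ∈ An Q x ω, w ∈ Submodule.span F {x, v}

variable (Q) in
/-- The characters in the orbit of `ω` are singular and do not lie in a point. -/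
def TS (x : V) (ω : Ω) : Prop := (∀ w ∈ An Q x ω, Q w = 0) ∧ ¬ Small Q x ω

variable (Q) in
/-- `Q_x` fixes `ω`. -/
def Fx (x : V) (ω : Ω) : Prop := ∀ u, polar Q x u = 0 → T Q x u • ω = ω

variable {x x' : V} {N0 ν : ℕ}

theorem An_back {g : eichGroup Q} {t : F} (ht : t ≠ 0) (hg : g • x = t • x') {ω : Ω} {w : V}
    (hw : w ∈ An Q x' (g • ω)) : t • g⁻¹ • w ∈ An Q x ω := by
  rw [← An_gsmul ht hg, gsmul_smul, smul_inv_smul, inv_smul_smul₀ ht]
  exact hw

theorem St_back {g : eichGroup Q} {t : F} (ht : t ≠ 0) (hg : g • x = t • x') {ω : Ω} {w : V}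
    (hw : St Q x' (g • ω) w) : St Q x ω (t⁻¹ • g⁻¹ • w) := by
  rw [← St_gsmul ht hg, gsmul_smul, smul_inv_smul, smul_inv_smul₀ ht]
  exact hw

theorem mem_span_of_back {g : eichGroup Q} {t s : F} (hs : s ≠ 0) (hg : g • x = t • x') {w : V}
    (hw : s • g⁻¹ • w ∈ F ∙ x) : w ∈ F ∙ x' := by
  obtain ⟨a, ha⟩ := Submodule.mem_span_singleton.1 hw
  refine Submodule.mem_span_singleton.2 ⟨s⁻¹ * a * t, ?_⟩
  rw [mul_smul, mul_smul, ← hg, ← gsmul_smul, ha, gsmul_smul, smul_inv_smul, inv_smul_smul₀ hs]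

theorem Reg.gsmul {g : eichGroup Q} {t : F} (ht : t ≠ 0) (hg : g • x = t • x') {ω : Ω}
    (h : Reg Q x ω) : Reg Q x' (g • ω) := fun _ hu =>
  mem_span_of_back (inv_ne_zero ht) hg (h _ (St_back ht hg hu))

theorem Small.gsmul {g : eichGroup Q} {t : F} (ht : t ≠ 0) (hg : g • x = t • x') {ω : Ω}
    (h : Small Q x ω) : Small Q x' (g • ω) := by
  obtain ⟨v, hv⟩ := h
  refine ⟨g • v, fun w hw => ?_⟩
  obtain ⟨a, b, hab⟩ := mem_span_pair'.1 (hv _ (An_back ht hg hw))
  refine mem_span_pair'.2 ⟨a, t⁻¹ * b, ?_⟩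
  have := congrArg (fun z => t⁻¹ • g • z) hab
  simp only [gsmul_smul, smul_inv_smul, inv_smul_smul₀ ht, gsmul_add, hg] at this
  rw [this, smul_add, smul_comm a t, inv_smul_smul₀ ht, mul_smul]

theorem inv_smul_eq {g : eichGroup Q} {t : F} (ht : t ≠ 0) (hg : g • x = t • x') :
    g⁻¹ • x' = t⁻¹ • x := by
  rw [inv_smul_eq_iff, gsmul_smul, hg, inv_smul_smul₀ ht]

theorem TS.gsmul {g : eichGroup Q} {t : F} (ht : t ≠ 0) (hg : g • x = t • x') {ω : Ω}
    (h : TS Q x ω) : TS Q x' (g • ω) := by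
  refine ⟨fun w hw => ?_, fun h' => h.2 ?_⟩
  · have := h.1 _ (An_back ht hg hw)
    rw [Q_smul, Q_gsmul] at this
    simpa [ht] using this
  · simpa using h'.gsmul (inv_ne_zero ht) (inv_smul_eq ht hg)

theorem Fx.gsmul {g : eichGroup Q} {t : F} (ht : t ≠ 0) (hg : g • x = t • x') {ω : Ω}
    (h : Fx Q x ω) : Fx Q x' (g • ω) := by
  intro u hu
  have h1 : u = t • g • (t⁻¹ • g⁻¹ • u) := by
    rw [gsmul_smul, smul_inv_smul, smul_inv_smul₀ ht]
  have h2 : polar Q x (t⁻¹ • g⁻¹ • u) = 0 := by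
    rw [polar_smul_right', ← polar_gsmul_left, hg, polar_smul_left', hu]; simp
  rw [h1]
  exact ((St_gsmul ht hg).2 ⟨h2, h _ h2⟩).2

theorem inv_Reg : Inv Q x (Reg Q x : Ω → Prop) := fun _ _ ht hg _ h => h.gsmul ht hg
theorem inv_TS : Inv Q x (TS Q x : Ω → Prop) := fun _ _ ht hg _ h => h.gsmul ht hg

theorem Fx.of_An (hQ : (polarBilin Q).Nondegenerate) (hx0 : x ≠ 0) (hx : Q x = 0) {ω : Ω}
    (h : ∀ w ∈ An Q x ω, w ∈ F ∙ x) : Fx Q x ω := fun u hu =>
  (St_of_An hQ hx0 hx hu fun w hw => by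
    obtain ⟨a, rfl⟩ := Submodule.mem_span_singleton.1 (h w hw)
    rw [polar_smul_left', hu, mul_zero, AddChar.map_zero_eq_one]).2

theorem Fx.An (hQ : (polarBilin Q).Nondegenerate) {ω : Ω} (h : Fx Q x ω) :
    ∀ w ∈ An Q x ω, w ∈ F ∙ x := fun w hw =>
  Submodule.mem_span_singleton.2 (exists_smul_of_orth hQ fun y hy => eq_zero_of_ps fun c => by
    have h1 : polar Q x (c • y) = 0 := by rw [polar_smul_right', hy, mul_zero]
    have := hw.2 _ ⟨h1, h _ h1⟩
    rwa [polar_smul_right'] at this)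

theorem mem_span_pair_of_left {v w : V} (h : w ∈ F ∙ x) : w ∈ Submodule.span F {x, v} :=
  Submodule.span_mono (by simp) h

theorem card_eq (hQ : (polarBilin Q).Nondegenerate) (h : IsHyp Q x x') :
    Fintype.card Ω = ncl (orb Q x) (fun _ : Ω => True) +
      ∑ w ∈ nz Q x x', mult Q x (fun _ : Ω => True) w := by
  rw [← card_filter_eq hQ h inv_true]
  simp

theorem two_le_ringChar : 2 ≤ ringChar F := (ringChar_prime (F := F)).two_le

theorem mul_self_of_three (h : q = 3) {t : F} (ht : t ≠ 0) : t * t = 1 := by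
  have := FiniteField.pow_card_sub_one_eq_one t ht
  rwa [h, show 3 - 1 = 2 from rfl, pow_two] at this

theorem three_eq_zero (h : q = 3) : (3 : F) = 0 := by
  have := FiniteField.cast_card_eq_zero F
  rwa [h] at this

theorem ringChar_of_three (h : q = 3) : ringChar F = 3 :=
  (Nat.prime_dvd_prime_iff_eq ringChar_prime Nat.prime_three).1
    ((ringChar.spec F 3).1 (three_eq_zero h))

theorem span_An_of_smul {ω : Ω} (h : ∀ w ∈ An Q x ω, ∀ c : F, c • w ∈ An Q x ω) :
    ∀ z ∈ Submodule.span F (An Q x ω : Set V), z ∈ An Q x ω := by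
  intro z hz
  induction hz using Submodule.span_induction with
  | mem a ha => exact ha
  | zero => exact zero_mem _
  | add a b _ _ ha hb => exact add_mem ha hb
  | smul c a _ ha => exact h a ha c

theorem aniso_two (D : Data Q N0 ν) (hN : Fintype.card Ω < N0) (hq : q = 2) (h : IsHyp Q x x')
    {ω : Ω} (hω : ∀ w ∈ An Q x ω, Q w = 0 → w ∈ F ∙ x) (hS : ¬ Small Q x ω) : False := by
  classical
  have h01 : ∀ c : F, c ≠ 0 → c = 1 := isF2_iff_card.2 hq
  let P : Ω → Prop := fun ω => ∀ w ∈ An Q x ω, Q w = 0 → w ∈ F ∙ x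
  have hP : Inv Q x P := fun g t ht hg ω hω w hw hQw =>
    mem_span_of_back ht hg (hω _ (An_back ht hg hw) (by rw [Q_smul, Q_gsmul, hQw, mul_zero]))
  have hdim : ∀ ω, P ω → finrank F (Submodule.span F (An Q x ω : Set V)) ≤ 3 := by
    intro ω hω
    by_contra hcon
    have h1 := finrank_inf_perp_singleton (Q := Q) (Submodule.span F (An Q x ω : Set V)) x'
    obtain ⟨z, hz, hz0, hQz⟩ := exists_singular_mem Q
      (Submodule.span F (An Q x ω : Set V) ⊓ perp Q (F ∙ x')) (by omega)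
    have hz1 : z ∈ An Q x ω := span_An_of_smul (fun w hw c => by
      by_cases hc : c = 0
      · rw [hc, zero_smul]; exact zero_mem _
      · rwa [h01 c hc, one_smul]) z hz.1
    exact not_mem_span_of_hperp h ⟨by rw [polar_comm]; exact hz1.1,
      by rw [polar_comm]; exact mem_perp_singleton.1 hz.2⟩ hz0 (hω z hz1 hQz)
  obtain ⟨v, hv, hvx⟩ : ∃ v ∈ An Q x ω, v ∉ F ∙ x := by
    by_contra hcon
    push Not at hcon
    exact hS ⟨0, fun w hw => mem_span_pair_of_left (hcon w hw)⟩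
  obtain ⟨w, hw, hwx⟩ : ∃ w ∈ An Q x ω, w ∉ Submodule.span F {x, v} := by
    by_contra hcon
    push Not at hcon
    exact hS ⟨v, hcon⟩
  have hd := finrank_span_pair_le (F := F) x v
  have h7 := D.h7
  obtain ⟨y, hy, hQy, hwy⟩ := exists_singular_perp_not_orth D.nd _ (by omega) hwx
  obtain ⟨Z, hZ, hZ'⟩ := exists_cover D.nd hQy (mem_perp_pair.1 hy).1 (mem_perp_pair.1 hy).2 hwy
  have h1 : Z.card ≤ 4 * mult Q x P v := by
    refine card_le_mul_ncl (orb Q x) (mem_orb_self x) Z (fun ω z => z ∈ An Q x ω)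
      (fun ω ω' h' z hz => by rwa [An_of_mem_orb h.left h'] at hz) (fun z hz => ?_) ?_
    · obtain ⟨-, g, hg1, hg2, rfl⟩ := hZ' z hz
      exact ⟨g • ω, ⟨hP.fix hg1 hω, hg2 ▸ (An_gsmul' hg1).2 hv⟩, (An_gsmul' hg1).2 hw⟩
    · intro ω' hω' T hT hT'
      have := card_mul_le_of_polar (Submodule.span F (An Q x ω' : Set V)) T
        (fun z hz => ⟨Submodule.subset_span (hT' z hz), (hZ' z (hT hz)).1⟩)
      have h2 := this.trans (Nat.pow_le_pow_right Fintype.card_pos (hdim ω' hω'.1))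
      rw [hq] at h2
      omega
  have h2 : 16 ≤ Z.card := by
    refine le_trans ?_ hZ
    rw [hq]
    exact Nat.pow_le_pow_right (n := 2) (i := 4) (by norm_num) (by have := D.h8 hq; omega)
  have h3 := one_class D.nd h7 h hP hv.1 hvx (k := 4) (by omega)
  have h4 := card_filter_eq D.nd h hP
  have h5 := card_filter_le_mul_ncl (orb Q x) (mem_orb_self x) P (a := 4) (fun ω' hω' => by
    have := (card_orb_mul_le D.nd h.left_ne_zero h.left _
      (fun w hw => Submodule.subset_span hw)).trans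
      (Nat.pow_le_pow_right Fintype.card_pos (hdim ω' hω'))
    rw [hq] at this
    omega)
  have h6 := D.h4c hq x x' h
  rw [h01 (Q v) (fun h0 => hvx (hω v hv h0))] at h3
  have h7 := h4.symm.le.trans (card_le_univ _)
  rw [h4] at h5
  omega

theorem mixed (D : Data Q N0 ν) (hN : Fintype.card Ω < N0) (hx0 : x ≠ 0) (hx : Q x = 0) {ω : Ω}
    (hR : ¬ Reg Q x ω) (hS : ¬ Small Q x ω) : TS Q x ω := by
  classical
  obtain ⟨x', h⟩ := exists_isHyp D.nd hx hx0
  have h7 := D.h7
  have hcard := card_eq (Ω := Ω) D.nd h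
  have hpos : 0 < ncl (orb Q x) (fun _ : Ω => True) := ncl_pos _ (ω := ω) trivial
  have hp2 := two_le_ringChar (F := F)
  have hnz := card_nz h
  have h3 := D.h3
  have hirr : ∀ v ∈ An Q x ω, mult Q x (fun _ : Ω => True) v < ringChar F →
      ∀ r, St Q x ω r → r ∈ Submodule.span F {x, v} := fun v hv hm =>
    (irr_of_mult_lt D.nd h7 hx0 hx hv hm).resolve_left fun h' => hS ⟨v, h'⟩
  have hB : ∀ v ∈ An Q x ω, ringChar F ≤ mult Q x (fun _ : Ω => True) v := by
    by_contra hcon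
    push Not at hcon
    obtain ⟨v, hv, hm⟩ := hcon
    obtain ⟨r, hr, hrx⟩ : ∃ r, St Q x ω r ∧ r ∉ F ∙ x := by
      by_contra hcon
      push Not at hcon
      exact hR hcon
    have hall : ∀ r', St Q x ω r' → r' ∈ Submodule.span F {x, r} := by
      obtain ⟨a, b, hab⟩ := mem_span_pair'.1 (hirr v hv hm r hr)
      have hb : b ≠ 0 := by
        rintro rfl
        exact hrx (Submodule.mem_span_singleton.2 ⟨a, by simp [hab]⟩)
      intro r' hr'
      obtain ⟨a', b', rfl⟩ := mem_span_pair'.1 (hirr v hv hm r' hr')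
      refine mem_span_pair'.2 ⟨a' - b' / b * a, b' / b, ?_⟩
      rw [hab]
      match_scalars <;> field_simp
      ring
    have hd := finrank_span_pair_le (F := F) x r
    obtain ⟨e, f, -, hef, he, hf, -⟩ := exists_hyp_perp D.nd (Submodule.span F {x, r}) (by omega)
    have h2 : ∀ w ∈ nz Q x x', 2 ≤ mult Q x (fun _ : Ω => True) w := by
      intro w hw
      have hm : e + Q w • f ∈ perp Q (Submodule.span F {x, r}) :=
        Submodule.add_mem _ he (Submodule.smul_mem _ _ hf)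
      have hvA : e + Q w • f ∈ An Q x ω := ⟨(mem_perp_pair.1 hm).1, fun u hu => by
        rw [mem_perp'.1 hm u (hall u hu), AddChar.map_zero_eq_one]⟩
      have hpf : polar Q (e + Q w • f) f = 1 := by
        rw [polar_add_left, polar_smul_left', hef.pol, hef.polar_right, mul_zero, add_zero]
      have hQ' : Q (e + Q w • f) = Q w := by
        have := hef.Q_comb' 1 (Q w)
        rwa [one_smul, one_mul] at this
      refine le_trans (hp2.trans ?_) (mult_le D.nd h7 h inv_true hvA.1 (fun hm' => ?_)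
        (mem_cl.2 ⟨mem_nz.1 hw, 1, one_ne_zero, by rw [hQ']; simp⟩))
      · by_contra hlt
        obtain ⟨a, b, hab⟩ := mem_span_pair'.1 (hirr _ hvA (not_le.1 hlt) r hr)
        have h1 := congrArg (fun z => polar Q z f) hab
        simp only [polar_add_left (x := a • x), polar_smul_left', hpf, (mem_perp_pair.1 hf).1,
          (mem_perp_pair.1 hf).2, mul_zero, zero_add, mul_one] at h1
        exact hrx (Submodule.mem_span_singleton.2 ⟨a, by simp [hab, ← h1]⟩)
      · obtain ⟨a, ha⟩ := Submodule.mem_span_singleton.1 hm'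
        rw [← ha, polar_smul_left', (mem_perp_pair.1 hf).1, mul_zero] at hpf
        exact zero_ne_one hpf
    have : _ ≤ ∑ w ∈ nz Q x x', mult Q x (fun _ : Ω => True) w := card_nsmul_le_sum _ _ _ h2
    rw [smul_eq_mul] at this
    omega
  refine ⟨?_, hS⟩
  by_contra hcon
  push Not at hcon
  obtain ⟨v, hv, hQv⟩ := hcon
  have hns : ∀ v, Q v ≠ 0 → v ∉ F ∙ x := fun v hQv hm => by
    obtain ⟨a, rfl⟩ := Submodule.mem_span_singleton.1 hm
    exact hQv (by rw [Q_smul, hx, mul_zero])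
  by_cases hq : 4 ≤ q
  · have h1 := one_class D.nd h7 h inv_true hv.1 (hns v hQv) (hB v hv)
    have h2 := D.h4a hq x x' h _ hQv
    omega
  have hq1 : 1 < q := Fintype.one_lt_card
  by_cases hs : ∃ s ∈ An Q x ω, Q s = 0 ∧ s ∉ F ∙ x
  · obtain ⟨s, hs, hQs, hsx⟩ := hs
    have h1 := two_class D.nd h7 h inv_true hv.1 (hns v hQv) hs.1 hsx
      (fun t _ => by rwa [hQs, mul_zero]) (hB v hv) (hB s hs)
    by_cases hq3 : q = 3
    · have h2 := D.h4b hq3 x x' h (Q v) (Q s)
      rw [ringChar_of_three hq3] at h1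
      omega
    · have h01 : ∀ c : F, c ≠ 0 → c = 1 := isF2_iff_card.2 (by omega)
      have h2 : (nz Q x x').card ≤ (cl Q x x' (Q v)).card + (cl Q x x' (Q s)).card := by
        refine le_trans (card_le_card fun w hw => ?_) (card_union_le _ _)
        rw [mem_union, hQs, mem_cl_zero, mem_cl]
        by_cases hw0 : Q w = 0
        · exact Or.inr ⟨hw, hw0⟩
        · exact Or.inl ⟨mem_nz.1 hw, 1, one_ne_zero, by simp [h01 _ hQv, h01 _ hw0]⟩
      have h4 := Nat.mul_le_mul hp2 h2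
      omega
  · push Not at hs
    by_cases hq3 : q = 3
    · obtain ⟨w, hw, hwx⟩ : ∃ w ∈ An Q x ω, w ∉ Submodule.span F {x, v} := by
        by_contra hcon
        push Not at hcon
        exact hS ⟨v, hcon⟩
      have key : ∀ w ∈ An Q x ω, w ∉ Submodule.span F {x, v} → Q w = Q v := by
        intro w hw hwx
        by_contra hne
        have hQw : Q w ≠ 0 := fun h0 => hwx (mem_span_pair_of_left (hs w hw h0))
        have h1 := two_class D.nd h7 h inv_true hv.1 (hns v hQv) hw.1 (hns w hQw)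
          (fun t ht => by rw [mul_self_of_three hq3 ht, one_mul]; exact Ne.symm hne)
          (hB v hv) (hB w hw)
        have h2 := D.h4b hq3 x x' h (Q v) (Q w)
        rw [ringChar_of_three hq3] at h1
        omega
      have hvm : v ∈ Submodule.span F {x, v} := Submodule.subset_span (by simp)
      have h1 := key w hw hwx
      have h2 := key _ (add_mem hw hv) (fun hm => hwx ((Submodule.add_mem_iff_left _ hvm).1 hm))
      have h4 := key _ (sub_mem hw hv) (fun hm => hwx ((Submodule.sub_mem_iff_left _ hvm).1 hm))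
      rw [Q_add] at h2
      rw [Q_sub] at h4
      apply hQv
      have h5 := three_eq_zero hq3
      linear_combination -h2 - h4 + 2 * h1 + Q v * h5
    · exact aniso_two D hN (by omega) h hs hS

end Cfsg.Agent.H33.OD
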