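import Cfsg.Agent.H33.OrthDeg3

/-! Actions of orthogonal groups of small degree: totally singular orbits. -/

set_option autoImplicit false
set_option linter.unusedSectionVars false

namespace Cfsg.Agent.H33.OD

open Cfsg.Agent.H30 QuadraticMap Module Finset

variable {F V : Type*} [Field F] [Fintype F] [AddCommGroup V] [Module F V] [FiniteDimensional F V]
  [Fintype V] {Q : QuadraticForm F V} {Ω : Type*} [MulAction (eichGroup Q) Ω] [Fintype Ω]

local notation "q" => Fintype.card F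

variable {x x' : V} {N0 ν : ℕ}

theorem TS.dim (D : Data Q N0 ν) {ω : Ω} (h : TS Q x ω) :
    finrank F (Submodule.span F (An Q x ω : Set V)) ≤ ν := D.ts _ (ts_span _ h.1)

theorem TS.card_le (D : Data Q N0 ν) {ω : Ω} (h : TS Q x ω) {y : V} (T : Finset V)
    (hT : ∀ z ∈ T, z ∈ An Q x ω ∧ polar Q z y = 1) : T.card * q ≤ q ^ ν :=
  (card_mul_le_of_polar (Submodule.span F (An Q x ω : Set V)) T
    (fun z hz => ⟨Submodule.subset_span (hT z hz).1, (hT z hz).2⟩)).trans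
    (Nat.pow_le_pow_right Fintype.card_pos (h.dim D))

theorem TS.orth {ω : Ω} (h : TS Q x ω) {a b : V} (ha : a ∈ An Q x ω) (hb : b ∈ An Q x ω) :
    polar Q a b = 0 := by
  have := h.1 _ (add_mem ha hb)
  rwa [Q_add, h.1 a ha, h.1 b hb, zero_add, zero_add] at this

theorem TS.exists_not_mem {ω : Ω} (h : TS Q x ω) (v : V) :
    ∃ w ∈ An Q x ω, w ∉ Submodule.span F {x, v} := by
  by_contra hcon
  push Not at hcon
  exact h.2 ⟨v, hcon⟩

theorem TS.step (D : Data Q N0 ν) (hx : Q x = 0) {ω : Ω} (h : TS Q x ω) {v w : V}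
    (hv : v ∈ An Q x ω) (hw : w ∈ An Q x ω) (hwx : w ∉ Submodule.span F {x, v}) :
    ∃ y, Q y = 0 ∧ polar Q x y = 0 ∧ polar Q v y = 0 ∧ polar Q w y = 1 ∧
      ncl (orb Q x) (fun ω : Ω => TS Q x ω ∧ v ∈ An Q x ω ∧ ∃ z ∈ An Q x ω, polar Q z y = 1) + 1 ≤
        mult Q x (TS Q x : Ω → Prop) v := by
  have h7 := D.h7
  obtain ⟨y, hy, hQy, hwy⟩ := exists_singular_perp_not_orth D.nd _
    (by have := finrank_span_pair_le (F := F) x v; omega) hwx
  obtain ⟨u, hu, hQu⟩ := exists_nonsing_perp D.nd (Submodule.span F {x, v, y})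
    (by have := finrank_span_triple_le (F := F) x v y; omega)
  obtain ⟨h1, h2⟩ := mem_perp_pair.1 hy
  obtain ⟨h3, h4, h5⟩ := mem_perp_triple.1 hu
  have hgx : T Q y u • x = x := T_smul_of_orth h1 h3
  have hgv : T Q y u • v = v := T_smul_of_orth h2 h4
  have hω' : TS Q x (T Q y u • ω) := inv_TS.fix hgx h
  have hv' : v ∈ An Q x (T Q y u • ω) := hgv ▸ (An_gsmul' hgx).2 hv
  have hw' : T Q y u • w ∈ An Q x (T Q y u • ω) := (An_gsmul' hgx).2 hw
  refine ⟨(-(Q u)⁻¹) • T Q y u • w, by rw [Q_smul, Q_gsmul, h.1 w hw, mul_zero],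
    by rw [polar_smul_right', hw'.1, mul_zero], by rw [polar_smul_right', hω'.orth hv' hw', mul_zero],
    ?_, ?_⟩
  · rw [polar_smul_right', T_smul hQy h5]
    simp only [polar_sub_right, polar_add_right, polar_smul_right', hwy, h.orth hw hw]
    field_simp
    ring
  · refine ncl_succ_le _ (mem_orb_self x) (fun ω h => ⟨h.1, h.2.1⟩) (ω₀ := T Q y u • ω)
      ⟨hω', hv'⟩ ?_
    rintro ω₁ ⟨-, -, z, hz, hz1⟩ hm
    rw [← An_of_mem_orb hx hm] at hz
    rw [polar_smul_right', hω'.orth hz hw', mul_zero] at hz1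
    exact zero_ne_one hz1

theorem TS.mult_ge (D : Data Q N0 ν) (hx : Q x = 0) {ω : Ω} (h : TS Q x ω) {v : V}
    (hv : v ∈ An Q x ω) : q ^ (finrank F V - 3 - ν) + 1 ≤ mult Q x (TS Q x : Ω → Prop) v := by
  obtain ⟨w, hw, hwx⟩ := h.exists_not_mem v
  obtain ⟨y, hQy, h1, h2, h3, h4⟩ := h.step D hx hv hw hwx
  obtain ⟨Z, hZ, hZ'⟩ := exists_cover D.nd hQy h1 h2 h3
  have hν := D.hν
  have hν1 : 1 ≤ ν := by
    have h5 := h.card_le D {w} (y := y) (by simp [hw, h3])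
    rw [card_singleton, one_mul] at h5
    by_contra h0
    rw [show ν = 0 by omega, pow_zero] at h5
    have : 1 < q := Fintype.one_lt_card
    omega
  have h5 : Z.card ≤ q ^ (ν - 1) * ncl (orb Q x)
      (fun ω : Ω => TS Q x ω ∧ v ∈ An Q x ω ∧ ∃ z ∈ An Q x ω, polar Q z y = 1) := by
    refine card_le_mul_ncl (orb Q x) (mem_orb_self x) Z (fun ω z => z ∈ An Q x ω)
      (fun ω ω' h' z hz => by rwa [An_of_mem_orb hx h'] at hz) (fun z hz => ?_) ?_
    · obtain ⟨hz1, g, hg1, hg2, rfl⟩ := hZ' z hz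
      exact ⟨g • ω, ⟨inv_TS.fix hg1 h, hg2 ▸ (An_gsmul' hg1).2 hv, _, (An_gsmul' hg1).2 hw, hz1⟩,
        (An_gsmul' hg1).2 hw⟩
    · intro ω' hω' T hT hT'
      have := hω'.1.card_le D T (fun z hz => ⟨hT' z hz, (hZ' z (hT hz)).1⟩)
      rw [show ν = ν - 1 + 1 by omega, pow_succ] at this
      exact Nat.le_of_mul_le_mul_right this Fintype.card_pos
  have h6 := hZ.trans h5
  rw [show finrank F V - 4 = ν - 1 + (finrank F V - 3 - ν) by omega, pow_add] at h6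
  have := Nat.le_of_mul_le_mul_left h6 (pow_pos Fintype.card_pos _)
  omega

theorem TS.exc_aux (D : Data Q N0 ν) (hexc : finrank F V = ν + 4) (hx : Q x = 0) {ω : Ω}
    (h : TS Q x ω) {v : V} (hv : v ∈ An Q x ω) (hk : mult Q x (TS Q x : Ω → Prop) v ≤ q + 1) :
    (∀ c : F, c • v ∈ An Q x ω) ∧ finrank F (Submodule.span F (An Q x ω : Set V)) = ν ∧
      ∀ ω', An Q x ω' = An Q x ω → ω' ∈ orb Q x ω := by
  classical
  obtain ⟨w, hw, hwx⟩ := h.exists_not_mem v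
  obtain ⟨y, hQy, h1, h2, h3, h4⟩ := h.step D hx hv hw hwx
  obtain ⟨Z, hZ, hZ'⟩ := exists_cover D.nd hQy h1 h2 h3
  have h7 := D.h7
  have hq : 1 < q := Fintype.one_lt_card
  obtain ⟨a, ha, ha0⟩ : ∃ a, q ^ ν = a * q ∧ 0 < a :=
    ⟨q ^ (ν - 1), by rw [← pow_succ]; congr 1; omega, pow_pos Fintype.card_pos _⟩
  rw [hexc, Nat.add_sub_cancel, ha] at hZ
  set P : Ω → Prop := fun ω => TS Q x ω ∧ v ∈ An Q x ω ∧ ∃ z ∈ An Q x ω, polar Q z y = 1 with hP
  have hbound : ∀ ω' : Ω, TS Q x ω' → ∀ T : Finset V, (∀ z ∈ T, z ∈ An Q x ω' ∧ polar Q z y = 1) →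
      T.card ≤ a := fun ω' hω' T hT => by
    have := hω'.card_le D T hT
    rw [ha] at this
    exact Nat.le_of_mul_le_mul_right this Fintype.card_pos
  have hcov : ∀ P' : Ω → Prop, (∀ ω', P ω' → An Q x ω' ≠ An Q x ω → P' ω') → (∀ ω', P' ω' → P ω') →
      (Z.filter (· ∉ An Q x ω)).card ≤ a * ncl (orb Q x) P' := by
    intro P' hP' hP''
    refine card_le_mul_ncl (orb Q x) (mem_orb_self x) _ (fun ω z => z ∈ An Q x ω)
      (fun ω ω' h' z hz => by rwa [An_of_mem_orb hx h'] at hz) (fun z hz => ?_) ?_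
    · obtain ⟨hz1, g, hg1, hg2, rfl⟩ := hZ' z (mem_filter.1 hz).1
      have hm := (An_gsmul' hg1 (ω := ω)).2 hw
      exact ⟨g • ω, hP' _ ⟨inv_TS.fix hg1 h, hg2 ▸ (An_gsmul' hg1).2 hv, _, hm, hz1⟩
        (fun he => (mem_filter.1 hz).2 (he ▸ hm)), hm⟩
    · intro ω' hω' T hT hT'
      exact hbound ω' (hP'' _ hω').1 T
        (fun z hz => ⟨hT' z hz, (hZ' z (mem_filter.1 (hT hz)).1).1⟩)
  have hPω : P ω := ⟨h, hv, w, hw, h3⟩
  have hsplit := card_filter_add_card_filter_not (s := Z) (· ∈ An Q x ω)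
  have hs1 : ncl (orb Q x) (fun ω' => P ω' ∧ ω' ∉ orb Q x ω) + 1 ≤ ncl (orb Q x) P :=
    ncl_succ_le _ (mem_orb_self x) (fun _ h => h.1) hPω
      (fun ω' hω' hm => hω'.2 (mem_orb_symm hx hm))
  have hc1 := hcov (fun ω' => P ω' ∧ ω' ∉ orb Q x ω)
    (fun ω' h1 h2 => ⟨h1, fun hm => h2 (An_of_mem_orb hx hm)⟩) (fun _ h => h.1)
  have hZ0 : a ≤ (Z.filter (· ∈ An Q x ω)).card := by
    have : a * ncl (orb Q x) (fun ω' => P ω' ∧ ω' ∉ orb Q x ω) + a ≤ a * q := by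
      rw [← mul_add_one]; exact Nat.mul_le_mul_left _ (by omega)
    omega
  have hZ1 : ∀ z ∈ Z.filter (· ∈ An Q x ω), z ∈ An Q x ω ∧ polar Q z y = 1 := fun z hz =>
    ⟨(mem_filter.1 hz).2, (hZ' z (mem_filter.1 hz).1).1⟩
  refine ⟨fun c => ?_, le_antisymm (h.dim D) ?_, fun ω' hω' => ?_⟩
  · by_contra hc
    have hc' : w + c • v ∉ Z.filter (· ∈ An Q x ω) := fun hm =>
      hc (((An Q x ω).add_mem_cancel_left hw).1 (mem_filter.1 hm).2)
    have := (card_mul_le_of_polar (Q := Q) (y := y) (Submodule.span F (An Q x ω : Set V))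
      (insert (w + c • v) (Z.filter (· ∈ An Q x ω))) (fun z hz => by
        rcases mem_insert.1 hz with rfl | hz
        · exact ⟨Submodule.add_mem _ (Submodule.subset_span hw)
            (Submodule.smul_mem _ _ (Submodule.subset_span hv)), by
            rw [polar_add_left, polar_smul_left', h3, h2, mul_zero, add_zero]⟩
        · exact ⟨Submodule.subset_span (hZ1 z hz).1, (hZ1 z hz).2⟩)).trans
      (Nat.pow_le_pow_right Fintype.card_pos (h.dim D))
    rw [card_insert_of_notMem hc', ha] at this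
    have := Nat.le_of_mul_le_mul_right this Fintype.card_pos
    omega
  · have := card_mul_le_of_polar (Q := Q) (y := y) (Submodule.span F (An Q x ω : Set V)) _
      (fun z hz => ⟨Submodule.subset_span (hZ1 z hz).1, (hZ1 z hz).2⟩)
    rw [← Nat.pow_le_pow_iff_right hq, ha]
    exact (Nat.mul_le_mul_right _ hZ0).trans this
  · by_contra hm
    have hPω' : P ω' := ⟨⟨by rw [hω']; exact h.1, fun hs => h.2 (by rwa [Small, hω'] at hs)⟩,
      by rwa [hω'], by rw [hω']; exact ⟨w, hw, h3⟩⟩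
    have hs2 : ncl (orb Q x) (fun ω'' => (P ω'' ∧ ω'' ∉ orb Q x ω) ∧ ω'' ∉ orb Q x ω') + 1 ≤
        ncl (orb Q x) (fun ω' => P ω' ∧ ω' ∉ orb Q x ω) :=
      ncl_succ_le _ (mem_orb_self x) (fun _ h => h.1) ⟨hPω', hm⟩
        (fun ω'' hω'' hm => hω''.2 (mem_orb_symm hx hm))
    have hc2 := hcov (fun ω'' => (P ω'' ∧ ω'' ∉ orb Q x ω) ∧ ω'' ∉ orb Q x ω')
      (fun ω'' h1 h2 => ⟨⟨h1, fun hm => h2 (An_of_mem_orb hx hm)⟩,
        fun hm => h2 ((An_of_mem_orb hx hm).trans hω')⟩) (fun _ h => h.1.1)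
    have h5 := hbound ω h _ hZ1
    have : a * ncl (orb Q x) (fun ω'' => (P ω'' ∧ ω'' ∉ orb Q x ω) ∧ ω'' ∉ orb Q x ω') + a + a ≤
        a * q := by
      rw [← mul_add_one, ← mul_add_one]; exact Nat.mul_le_mul_left _ (by omega)
    omega

variable (Q) in
open Classical in
/-- The non-zero singular vectors. -/
noncomputable def sing : Finset V := univ.filter (fun z => z ≠ 0 ∧ Q z = 0)

theorem mem_sing {z : V} : z ∈ sing Q ↔ z ≠ 0 ∧ Q z = 0 := by simp [sing]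

theorem card_cl_zero : (cl Q x x' 0).card + 1 = nc (Q.restrict (hperp Q x x')) 0 := by
  classical
  have h1 := nc_zero_pos (Q := Q.restrict (hperp Q x x'))
  have h2 := card_singular (Q := Q.restrict (hperp Q x x'))
  have h3 : (cl Q x x' 0).card =
      Nat.card {v : hperp Q x x' // v ≠ 0 ∧ Q.restrict (hperp Q x x') v = 0} := by
    rw [← Fintype.card_coe, ← Nat.card_eq_fintype_card]
    exact Nat.card_congr ⟨fun v => ⟨⟨v.1, (mem_nz.1 (mem_cl_zero.1 v.2).1).1⟩,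
      fun h => (mem_nz.1 (mem_cl_zero.1 v.2).1).2 (congrArg Subtype.val h), (mem_cl_zero.1 v.2).2⟩,
      fun v => ⟨v.1.1, mem_cl_zero.2 ⟨mem_nz.2 ⟨v.1.2, fun h => v.2.1 (Subtype.ext h)⟩, v.2.2⟩⟩,
      fun _ => rfl, fun _ => rfl⟩
  omega

theorem card_sing' : (sing Q).card + 1 = nc Q 0 := by
  classical
  have h1 := nc_zero_pos (Q := Q)
  have h2 := card_singular (Q := Q)
  rw [Nat.card_eq_fintype_card, Fintype.card_subtype] at h2
  have : (sing Q).card = nc Q 0 - 1 := by rw [← h2]; congr 1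
  omega

theorem card_sing (h : IsHyp Q x x') :
    (sing Q).card = (q - 1) * (1 + q ^ (finrank F V - 2)) + q * (cl Q x x' 0).card := by
  have h1 := card_sing' (Q := Q)
  rw [h.nc_eq 0, ← card_cl_zero, Nat.card_eq_fintype_card] at h1
  rw [← h.finrank_hperp, Nat.add_sub_cancel]
  obtain ⟨k, hk⟩ : ∃ k, q = k + 1 := ⟨q - 1, by have : 1 < q := Fintype.one_lt_card; omega⟩
  rw [hk, Nat.add_sub_cancel] at h1 ⊢
  linarith

open Classical in
/-- Double counting of pairs (singular point, point of `Ω`). -/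
theorem dvd_of_rel (hQ : (polarBilin Q).Nondegenerate) (h5 : 5 ≤ finrank F V)
    [MulAction.IsPretransitive (eichGroup Q) Ω] (hx0 : x ≠ 0) (hx : Q x = 0) (ρ : V → Ω → Prop)
    (hρ : ∀ (x x' : V) (g : eichGroup Q) (t : F), t ≠ 0 → g • x = t • x' → ∀ ω, ρ x ω → ρ x' (g • ω))
    {M : ℕ} (hM : (sing Q).card = (q - 1) * M) :
    Fintype.card Ω ∣ M * (univ.filter (ρ x)).card := by
  rcases isEmpty_or_nonempty Ω with hΩ | ⟨⟨ω₀⟩⟩
  · simp [univ_eq_empty]
  have h1 := double_count (G := eichGroup Q) (sing Q) ρ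
    (fun g a ω h => hρ a _ g 1 one_ne_zero (by rw [one_smul]) ω h)
    (fun g a ha => mem_sing.2 ⟨gsmul_ne_zero g (mem_sing.1 ha).1, by
      rw [Q_gsmul, (mem_sing.1 ha).2]⟩) (a₀ := x)
    (fun a ha => exists_smul_eq_one hQ h5 hx0 (mem_sing.1 ha).1 (by rw [hx, (mem_sing.1 ha).2]))
    (ω₀ := ω₀) (fun ω => MulAction.exists_smul_eq _ ω₀ ω)
  obtain ⟨b, hb⟩ := sub_one_dvd_card (F := F) ((sing Q).filter (fun a => ρ a ω₀))
    (fun h => (mem_sing.1 (mem_filter.1 h).1).1 rfl) (fun v hv c hc => by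
      obtain ⟨h1, h2⟩ := mem_filter.1 hv
      refine mem_filter.2 ⟨mem_sing.2 ⟨smul_ne_zero hc (mem_sing.1 h1).1, by
        rw [Q_smul, (mem_sing.1 h1).2, mul_zero]⟩, ?_⟩
      simpa using hρ v (c • v) 1 c⁻¹ (inv_ne_zero hc) (by rw [one_smul, inv_smul_smul₀ hc]) ω₀ h2)
  rw [hb, hM, mul_assoc, mul_left_comm (Fintype.card Ω)] at h1
  have hq : 1 < q := Fintype.one_lt_card
  exact ⟨b, Nat.eq_of_mul_eq_mul_left (by omega) h1⟩

theorem all_TS (D : Data Q N0 ν) (hN : Fintype.card Ω < N0)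
    [MulAction.IsPretransitive (eichGroup Q) Ω] (hx0 : x ≠ 0) (hx : Q x = 0) {ω₀ : Ω}
    (h0 : TS Q x ω₀) : finrank F V = ν + 4 ∧ (ν = 3 ∨ 4 ≤ q) ∧ ∀ ω : Ω, ∃ M : Submodule F V,
      (∀ z, z ∈ M ↔ z ∈ An Q x ω) ∧ (∀ z ∈ M, Q z = 0) ∧ finrank F M = ν ∧
      ∀ ω', An Q x ω' = An Q x ω → ω' ∈ orb Q x ω := by
  classical
  obtain ⟨x', h⟩ := exists_isHyp D.nd hx hx0
  have h7 := D.h7
  have hq : 1 < q := Fintype.one_lt_card
  have hex : ∀ ω : Ω, TS Q x ω → ∃ v ∈ An Q x ω, v ∉ F ∙ x := fun ω hω => by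
    obtain ⟨v, hv, hvx⟩ := hω.exists_not_mem 0
    exact ⟨v, hv, fun hm => hvx (mem_span_pair_of_left hm)⟩
  have htot := card_filter_eq (Ω := Ω) D.nd h inv_TS
  have hle : (univ.filter (TS Q x : Ω → Prop)).card ≤ Fintype.card Ω := card_le_univ _
  have hone : ∀ (ω : Ω) (v : V) (k : ℕ), TS Q x ω → v ∈ An Q x ω → v ∉ F ∙ x →
      k ≤ mult Q x (TS Q x : Ω → Prop) v →
      k * (cl Q x x' 0).card ≤ ∑ w ∈ nz Q x x', mult Q x (TS Q x : Ω → Prop) w := by
    intro ω v k hω hv hvx hk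
    have := one_class D.nd h7 h inv_TS hv.1 hvx hk
    rwa [hω.1 v hv] at this
  obtain ⟨v₀, hv₀, hv₀x⟩ := hex ω₀ h0
  have hm0 := h0.mult_ge D hx hv₀
  have hexc : finrank F V = ν + 4 := by
    by_contra hne
    have hν := D.hν
    have h1 := D.h5 (by omega) x x' h
    have h2 := hone ω₀ v₀ (q ^ 2 + 1) h0 hv₀ hv₀x
      (le_trans (Nat.succ_le_succ (Nat.pow_le_pow_right hq.le (by omega))) hm0)
    omega
  obtain ⟨NT, t, e1, e2, e3, e4, e5⟩ := D.h6 hexc x x' h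
  rw [hexc, show ν + 4 - 3 - ν = 1 by omega, pow_one] at hm0
  have ha : 2 ≤ q ^ (ν - 1) := hq.trans_le (Nat.le_self_pow (by omega) q)
  have horb := card_filter_le_mul_ncl (orb Q x) (mem_orb_self x) (TS Q x : Ω → Prop)
    (a := q ^ (ν - 1)) (fun ω hω => by
      have := (card_orb_mul_le D.nd hx0 hx _ (fun w hw => Submodule.subset_span hw)).trans
        (Nat.pow_le_pow_right Fintype.card_pos (hω.dim D))
      rw [show ν = ν - 1 + 1 by omega, pow_succ] at this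
      exact Nat.le_of_mul_le_mul_right this Fintype.card_pos)
  obtain ⟨a, ha'⟩ : ∃ a, q ^ (ν - 1) = a + 1 := ⟨q ^ (ν - 1) - 1, by omega⟩
  rw [ha'] at e1 horb ha
  rw [Nat.add_sub_cancel] at e1
  have hN0 : N0 ≤ NT + t := by
    have := D.h1 x x' h
    rw [← e2] at this
    exact Nat.le_of_mul_le_mul_left this (by omega)
  have key : ∀ k, (q + 1 + k) * (cl Q x x' 0).card ≤
      ∑ w ∈ nz Q x x', mult Q x (TS Q x : Ω → Prop) w →
      NT + k * (cl Q x x' 0).card ≤ (univ.filter (TS Q x : Ω → Prop)).card := by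
    intro k hk
    apply Nat.le_of_mul_le_mul_left (c := a) _ (by omega)
    have h1 := Nat.mul_le_mul_left (a + 1) hk
    rw [htot] at horb ⊢
    nlinarith
  have hNT := key 0 (hone ω₀ v₀ _ h0 hv₀ hv₀x hm0)
  have hk : ∀ (ω : Ω) (v : V), TS Q x ω → v ∈ An Q x ω → v ∉ F ∙ x →
      mult Q x (TS Q x : Ω → Prop) v ≤ q + 1 := by
    intro ω v hω hv hvx
    by_contra hcon
    have h1 := key 1 (hone ω v _ hω hv hvx (by omega))
    have h2 := e4 0
    omega
  have hsplit := card_filter_add_card_filter_not (s := univ) (TS Q x : Ω → Prop)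
  rw [card_univ] at hsplit
  have hfx : ∀ ω : Ω, ¬ TS Q x ω ↔ Fx Q x ω := by
    intro ω
    refine ⟨fun hω => Fx.of_An D.nd hx0 hx fun w hw => ?_, fun hω hT =>
      hT.2 ⟨0, fun w hw => mem_span_pair_of_left (hω.An D.nd w hw)⟩⟩
    by_contra hwx
    have h1 := one_class D.nd h7 h (inv_TS (Ω := Ω)).not hw.1 hwx (k := 1)
      (ncl_pos _ (ω := ω) ⟨hω, hw⟩)
    have h2 := card_filter_eq (Ω := Ω) D.nd h inv_TS.not
    have h3 := e4 (Q w)
    have h4 : (univ.filter (fun ω : Ω => ¬ TS Q x ω)).card =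
        ncl (orb Q x) (fun ω : Ω => ¬ TS Q x ω) +
        ∑ w ∈ nz Q x x', mult Q x (fun ω : Ω => ¬ TS Q x ω) w := by convert h2
    omega
  have hdvd := dvd_of_rel D.nd (by omega) hx0 hx (Fx Q : V → Ω → Prop)
    (fun _ _ _ _ ht hg _ h => h.gsmul ht hg) (M := NT + t) (by rw [card_sing h, e2])
  have hf : (univ.filter (Fx Q x : Ω → Prop)).card =
      (univ.filter (fun ω : Ω => ¬ TS Q x ω)).card := by
    congr 1; ext ω; simp [hfx]
  have hf0 : (univ.filter (fun ω : Ω => ¬ TS Q x ω)).card = 0 := by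
    have hdvd' : Fintype.card Ω ∣ (NT + t) * (univ.filter (fun ω : Ω => ¬ TS Q x ω)).card := by
      rw [← hf]; convert hdvd
    generalize (univ.filter (fun ω : Ω => ¬ TS Q x ω)).card = f at *
    obtain ⟨r, hr⟩ : ∃ r, NT + t = Fintype.card Ω + r := ⟨NT + t - Fintype.card Ω, by omega⟩
    rw [hr, add_mul, Nat.dvd_add_right (dvd_mul_right _ _)] at hdvd'
    have h1 : r * f < Fintype.card Ω := by
      have h2 : r + f ≤ t := by omega
      have h3 : 4 * (r * f) ≤ (r + f) * (r + f) := by nlinarith [sq_nonneg ((r : ℤ) - f)]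
      have h4 := Nat.mul_le_mul h2 h2
      omega
    have := Nat.eq_zero_of_dvd_of_lt hdvd' h1
    rcases Nat.mul_eq_zero.1 this with h | h <;> omega
  refine ⟨hexc, by omega, fun ω => ?_⟩
  have hω : TS Q x ω := by
    by_contra hcon
    exact (card_pos.2 ⟨ω, by simpa using hcon⟩).ne' hf0
  obtain ⟨v, hv, hvx⟩ := hex ω hω
  obtain ⟨-, h2, h3⟩ := hω.exc_aux D hexc hx hv (hk ω v hω hv hvx)
  refine ⟨_, fun z => ⟨span_An_of_smul (fun w hw c => ?_) z, fun hz => Submodule.subset_span hz⟩,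
    ts_span _ hω.1, h2, h3⟩
  by_cases hwx : w ∈ F ∙ x
  · obtain ⟨a, rfl⟩ := Submodule.mem_span_singleton.1 hwx
    rw [smul_smul]
    exact smul_mem_An hx ω _
  · exact (hω.exc_aux D hexc hx hw (hk ω w hω hw hwx)).1 c

end Cfsg.Agent.H33.OD
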