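import Cfsg.Agent.H33.OrthDeg4

/-! Actions of orthogonal groups of small degree: the exceptional cases in dimension 7 and 8. -/

set_option autoImplicit false
set_option linter.unusedSectionVars false

namespace Cfsg.Agent.H33.OD

open Cfsg.Agent.H30 QuadraticMap Module Finset

variable {F V : Type*} [Field F] [Fintype F] [AddCommGroup V] [Module F V] [FiniteDimensional F V]
  [Fintype V] {Q : QuadraticForm F V} {Ω : Type*} [MulAction (eichGroup Q) Ω] [Fintype Ω]

local notation "q" => Fintype.card F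

variable {x x' : V} {N0 ν : ℕ}

theorem St_iff_perp (hQ : (polarBilin Q).Nondegenerate) (hx0 : x ≠ 0) (hx : Q x = 0) {ω : Ω}
    {M : Submodule F V} (hM : ∀ z, z ∈ M ↔ z ∈ An Q x ω) {u : V} : St Q x ω u ↔ u ∈ perp Q M := by
  constructor
  · intro hu
    refine mem_perp.2 fun w hw => eq_zero_of_ps fun c => ?_
    have := ((hM _).1 (M.smul_mem c hw)).2 u hu
    rwa [polar_smul_left'] at this
  · intro hu
    refine St_of_An hQ hx0 hx (mem_perp.1 hu x ((hM x).2 (by simpa using smul_mem_An hx ω 1)))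
      fun w hw => ?_
    rw [mem_perp.1 hu w ((hM w).2 hw), AddChar.map_zero_eq_one]

theorem mem_of_max (D : Data Q N0 ν) {M : Submodule F V} (hM : ∀ z ∈ M, Q z = 0)
    (hd : finrank F M = ν) {z : V} (hz : Q z = 0) (hzM : z ∈ perp Q M) : z ∈ M := by
  have h1 := D.ts _ (ts_sup_span hM hz hzM)
  have h2 : M = M ⊔ F ∙ z := Submodule.eq_of_le_of_finrank_le le_sup_left (by omega)
  rw [h2]
  exact Submodule.mem_sup_right (Submodule.mem_span_singleton_self z)

theorem exists_diag (hQ : (polarBilin Q).Nondegenerate) (h3 : 3 ≤ finrank F V) (h : IsHyp Q x x')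
    {μ : F} (hμ : μ ≠ 0) :
    ∃ k : eichGroup Q, k • x = (μ * μ) • x ∧ ∀ w ∈ hperp Q x x', k • w = w := by
  refine ⟨⟨refl Q ((1 : F) • x + (1 : F) • x') * refl Q (μ⁻¹ • x + μ • x'),
    refl_mul_refl_mem_eichGroup hQ h h3 (by rw [h.Q_comb']; simp)
      (by rw [h.Q_comb', h.Q_comb', inv_mul_cancel₀ hμ, one_mul])⟩, ?_, fun w hw => ?_⟩
  · rw [smul_def, O_mul_apply, h.refl_comb_left (inv_ne_zero hμ) hμ, map_smul,
      h.refl_comb_right one_ne_zero one_ne_zero, smul_smul]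
    congr 1
    field_simp
  · rw [smul_def, O_mul_apply, IsHyp.refl_comb_hperp _ _ hw, IsHyp.refl_comb_hperp _ _ hw]

theorem exists_sq_ne_one (hq : 4 ≤ q) : ∃ μ : F, μ ≠ 0 ∧ μ * μ ≠ 1 := by
  classical
  by_contra hcon
  push Not at hcon
  have : (univ : Finset F) ⊆ {0, 1, -1} := fun μ _ => by
    by_cases h : μ = 0
    · simp [h]
    · rcases mul_self_eq_one_iff.1 (hcon μ h) with h | h <;> simp [h]
  have h1 := (card_le_card this).trans card_le_three
  rw [card_univ] at h1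
  omega

theorem smul_T_smul {k : eichGroup Q} {t : F} (ht : t ≠ 0) (hk : k • x = t • x) (s : V) (ω : Ω) :
    k • T Q x s • ω = T Q x (t • k • s) • k • ω := by
  rw [← mul_smul, mul_T, hk, T_smul_left ht, mul_smul]

theorem smul_T_smul' {k : eichGroup Q} (hk : k • x = x) (s : V) (ω : Ω) :
    k • T Q x s • ω = T Q x (k • s) • k • ω := by
  rw [← mul_smul, mul_T, hk, mul_smul]

theorem T_T_smul (hx : Q x = 0) {s t : V} (hs : polar Q x s = 0) (ht : polar Q x t = 0) (ω : Ω) :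
    T Q x s • T Q x t • ω = T Q x (s + t) • ω := by
  rw [← mul_smul, T_mul hx hs ht]

theorem polar_gsmul_zero {k : eichGroup Q} {t : F} (ht : t ≠ 0) (hk : k • x = t • x) {s : V}
    (hs : polar Q x s = 0) : polar Q x (k • s) = 0 := by
  rw [← polar_gsmul k, hk, polar_smul_left'] at hs
  exact (mul_eq_zero.1 hs).resolve_left ht

theorem polar_gsmul_zero' {k : eichGroup Q} (hk : k • x = x) {s : V}
    (hs : polar Q x s = 0) : polar Q x (k • s) = 0 := by
  rwa [← polar_gsmul k, hk] at hs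

theorem diag_sub_mem (h : IsHyp Q x x') {k : eichGroup Q} {t : F} (hk : k • x = t • x)
    (hk' : ∀ w ∈ hperp Q x x', k • w = w) {s : V} (hs : polar Q x s = 0) : k • s - s ∈ F ∙ x := by
  rw [hproj_eq h hs, gsmul_add, hk' _ (h.hproj_mem s), gsmul_smul, hk, add_sub_add_left_eq_sub]
  exact Submodule.sub_mem _ (Submodule.smul_mem _ _ (Submodule.smul_mem _ _
    (Submodule.mem_span_singleton_self x))) (Submodule.smul_mem _ _
    (Submodule.mem_span_singleton_self x))

theorem exists_perp_one (hQ : (polarBilin Q).Nondegenerate) (X : Submodule F V) {z : V}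
    (hz : z ∉ X) : ∃ t ∈ perp Q X, polar Q z t = 1 := by
  obtain ⟨w, hw, h⟩ := exists_orth_not_orth (Q := Q) X (u := z)
    (by rwa [ker_polarBilin_eq_bot hQ, sup_bot_eq])
  exact ⟨(polar Q z w)⁻¹ • w, Submodule.smul_mem _ _ (mem_perp.2 hw),
    by rw [polar_smul_right', inv_mul_cancel₀ h]⟩

theorem tau (D : Data Q N0 ν) (hq : 4 ≤ q) (hx0 : x ≠ 0) (hx : Q x = 0) {ω : Ω}
    {M : Submodule F V} (hM : ∀ z, z ∈ M ↔ z ∈ An Q x ω) (hM' : perp Q M = M)
    (hts : ∀ z ∈ M, Q z = 0) (huniq : ∀ ω', An Q x ω' = An Q x ω → ω' ∈ orb Q x ω)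
    {a b : V} (ha : a ∈ M) (hb : b ∈ M) : T Q a b • ω = ω := by
  have hxM : x ∈ M := (hM x).2 (by simpa using smul_mem_An hx ω 1)
  have hSt : ∀ u, St Q x ω u ↔ u ∈ M := fun u => by rw [St_iff_perp D.nd hx0 hx hM, hM']
  have horth : ∀ a ∈ M, ∀ b ∈ M, polar Q a b = 0 := fun a ha b hb =>
    mem_perp.1 (hM'.symm ▸ hb) a ha
  have hxa : ∀ a ∈ M, ∀ c : F, T Q a (c • x) • ω = ω := fun a ha c => by
    have h1 : c • x ∈ M := M.smul_mem c hxM
    rw [T_swap (hts a ha) (hts _ h1)]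
    by_cases hc : c = 0
    · rw [hc, zero_smul, T_swap (by simp) (by simpa using hts a ha), neg_zero, T_zero, one_smul]
    · rw [T_smul_left hc]
      exact ((hSt _).2 (M.smul_mem _ (M.neg_mem ha))).2
  by_cases hdep : x ∈ Submodule.span F {a, b}
  · obtain ⟨c, d, hcd⟩ := mem_span_pair'.1 hdep
    by_cases hd : d = 0
    · have hc : c ≠ 0 := by rintro rfl; exact hx0 (by simp [hcd, hd])
      have : a = c⁻¹ • x := by rw [hcd, hd, zero_smul, add_zero, inv_smul_smul₀ hc]
      rw [this, T_smul_left (inv_ne_zero hc)]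
      exact ((hSt _).2 (M.smul_mem _ hb)).2
    · have : b = d⁻¹ • x + (-(d⁻¹ * c)) • a := by
        rw [hcd]; match_scalars <;> field_simp
        ring
      rw [this, T_add_smul]
      exact hxa a ha _
  obtain ⟨t₀, ht₀, hxt⟩ := exists_perp_one D.nd _ hdep
  have h := exists_isHyp_of_polar hx hxt
  set x' := t₀ - Q t₀ • x with hx'
  have hin : ∀ a ∈ M, polar Q a t₀ = 0 → a ∈ hperp Q x x' := fun a ha h0 =>
    ⟨horth a ha x hxM, by rw [hx', polar_sub_right, polar_smul_right', h0, horth a ha x hxM]; simp⟩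
  obtain ⟨μ, hμ, hμ1⟩ := exists_sq_ne_one hq
  have hμ2 := mul_ne_zero hμ hμ
  obtain ⟨k, hk, hk'⟩ := exists_diag D.nd (by have := D.h7; omega) h hμ
  have hxle : ∀ z ∈ F ∙ x, z ∈ M := fun z hz =>
    (Submodule.span_singleton_le_iff_mem x M).2 hxM hz
  have hkω : k • ω ∈ orb Q x ω := by
    apply huniq
    ext w
    constructor
    · intro hw
      have h1 := (hM _).2 (An_back hμ2 hk hw)
      rw [M.smul_mem_iff hμ2] at h1
      have h2 := hxle _ (diag_sub_mem h hk hk' (horth x hxM _ h1))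
      rw [smul_inv_smul] at h2
      exact (hM _).1 ((M.sub_mem_iff_left h1).1 h2)
    · intro hw
      have h1 := M.smul_mem (μ * μ) ((hM _).2 hw)
      have h2 := hxle _ (diag_sub_mem h (inv_smul_eq hμ2 hk)
        (fun w hw => by rw [inv_smul_eq_iff, hk' w hw]) (horth x hxM _ h1))
      have h3 := (An_gsmul hμ2 hk).2 ((hM _).1 ((M.sub_mem_iff_left h1).1 h2))
      rwa [smul_inv_smul, inv_smul_smul₀ hμ2] at h3
  have hgM : ∀ z ∈ M, T Q a b • z = z := fun z hz => T_smul_of_orth (horth z hz a ha) (horth z hz b hb)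
  have hgω : T Q a b • ω ∈ orb Q x ω := by
    apply huniq
    ext w
    constructor
    · intro hw
      have h1 := (hM _).2 ((An_gsmul' (hgM x hxM) (w := (T Q a b)⁻¹ • w)).1 (by rwa [smul_inv_smul]))
      have h2 := hgM _ h1
      rw [smul_inv_smul] at h2
      exact (hM _).1 (h2 ▸ h1)
    · intro hw
      have := (An_gsmul' (hgM x hxM)).2 hw
      rwa [hgM w ((hM _).2 hw)] at this
  obtain ⟨s, hs, hs'⟩ := mem_orb.1 hkω
  obtain ⟨t, ht, ht'⟩ := mem_orb.1 hgω
  have hcomm : k * T Q a b = T Q a b * k := by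
    rw [mul_T, hk' a (hin a ha (mem_perp_pair.1 ht₀).1), hk' b (hin b hb (mem_perp_pair.1 ht₀).2)]
  have h1 : k • T Q a b • ω = T Q a b • k • ω := by rw [← mul_smul, hcomm, mul_smul]
  have h2 : polar Q x ((μ * μ) • k • t) = 0 := by
    rw [polar_smul_right', polar_gsmul_zero hμ2 hk ht, mul_zero]
  have h3 := polar_gsmul_zero' (hgM x hxM) hs
  conv_lhs at h1 => rw [← ht', smul_T_smul hμ2 hk, ← hs', T_T_smul hx h2 hs]
  conv_rhs at h1 => rw [← hs', smul_T_smul' (hgM x hxM), ← ht', T_T_smul hx h3 ht]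
  rw [T_smul_eq_iff hx (by rw [polar_add_right, h2, hs, add_zero])
    (by rw [polar_add_right, h3, ht, add_zero]), hSt] at h1
  have h4 : T Q a b • s - s ∈ M := by
    rw [T_smul (hts a ha) (horth a ha b hb)]
    have : s + polar Q s a • b - polar Q s b • a - (Q b * polar Q s a) • a - s =
        polar Q s a • b - polar Q s b • a - (Q b * polar Q s a) • a := by abel
    rw [this]
    exact M.sub_mem (M.sub_mem (M.smul_mem _ hb) (M.smul_mem _ ha)) (M.smul_mem _ ha)
  have h5 := hxle _ (diag_sub_mem h hk hk' ht)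
  have h6 : (μ * μ - 1) • t ∈ M := by
    have : (μ * μ - 1) • t = ((μ * μ) • k • t + s - (T Q a b • s + t)) + (T Q a b • s - s) -
        (μ * μ) • (k • t - t) := by
      generalize k • t = kt
      generalize T Q a b • s = gs
      module
    rw [this]
    exact M.sub_mem (M.add_mem h1 h4) (M.smul_mem _ h5)
  rw [M.smul_mem_iff (sub_ne_zero.2 hμ1), ← hSt] at h6
  rw [← ht', h6.2]

theorem not_TS (D : Data Q N0 ν) (hN : Fintype.card Ω < N0)
    [MulAction.IsPretransitive (eichGroup Q) Ω] (hx0 : x ≠ 0) (hx : Q x = 0) (ω : Ω) :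
    ¬ TS Q x ω := by
  intro h0
  have h7 := D.h7
  obtain ⟨hexc, hcase, -⟩ := all_TS D hN hx0 hx h0
  have hall : ∀ y, y ≠ 0 → Q y = 0 → ∃ M : Submodule F V,
      (∀ z, z ∈ M ↔ z ∈ An Q y ω) ∧ (∀ z ∈ M, Q z = 0) ∧ finrank F M = ν ∧
      ∀ ω', An Q y ω' = An Q y ω → ω' ∈ orb Q y ω := by
    intro y hy0 hy
    obtain ⟨g, hg⟩ := exists_smul_eq_one D.nd (by omega) hx0 hy0 (by rw [hx, hy])
    exact (all_TS D hN hy0 hy (h0.gsmul (g := g) one_ne_zero (by rw [hg, one_smul]))).2.2 ω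
  choose! M hM hts hdim huniq using hall
  have hself : ∀ y, y ≠ 0 → Q y = 0 → y ∈ M y := fun y hy0 hy =>
    (hM y hy0 hy y).2 (by simpa using smul_mem_An hy ω 1)
  obtain ⟨y, hy0, hy, hxy, hyM⟩ : ∃ y, y ≠ 0 ∧ Q y = 0 ∧ polar Q x y = 0 ∧ y ∉ M x := by
    obtain ⟨e, f, -, hef, he, hf, -⟩ := exists_hyp_perp D.nd (F ∙ x)
      (by rw [finrank_span_singleton hx0]; omega)
    by_cases heM : e ∈ M x
    · refine ⟨f, hef.right_ne_zero, hef.right, mem_perp_singleton.1 hf, fun hfM => ?_⟩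
      have := mem_perp.1 (le_perp_of_ts (hts x hx0 hx) hfM) e heM
      rw [hef.pol] at this
      exact one_ne_zero this
    · exact ⟨e, hef.left_ne_zero, hef.left, mem_perp_singleton.1 he, heM⟩
  have hxM : x ∉ perp Q (M y) := fun h => hyM (mem_of_max D (hts x hx0 hx) (hdim x hx0 hx) hy
    ((St_iff_perp D.nd hx0 hx (hM x hx0 hx)).1
      (((St_iff_perp D.nd hy0 hy (hM y hy0 hy)).2 h).swap hy hx)))
  obtain ⟨z, hz, hzx⟩ : ∃ z ∈ M y, polar Q z x ≠ 0 := by
    by_contra hcon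
    push Not at hcon
    exact hxM (mem_perp.2 hcon)
  have key : ∀ u ∈ perp Q (M x), polar Q y u = 0 →
      polar Q z x • u - (polar Q z u + Q u * polar Q z x) • x ∈ M y := by
    intro u hu hyu
    have h1 := (St_iff_perp D.nd hx0 hx (hM x hx0 hx)).2 hu
    have h2 := (An_gsmul' (ω := ω) (T_smul_of_orth (x := x) (u := u) (by rw [polar_comm, hxy]) hyu)).2
      ((hM y hy0 hy z).1 hz)
    rw [h1.2, ← hM y hy0 hy, T_smul hx h1.1] at h2
    convert (M y).sub_mem h2 hz using 1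
    module
  obtain ⟨m, hm, hym⟩ : ∃ m ∈ M x, polar Q m y ≠ 0 := by
    by_contra hcon
    push Not at hcon
    exact hyM (mem_of_max D (hts x hx0 hx) (hdim x hx0 hx) hy (mem_perp.2 hcon))
  have hdp := finrank_add_finrank_perp D.nd (M x)
  have hle := le_perp_of_ts (hts x hx0 hx)
  have hdle := Submodule.finrank_mono hle
  rw [hdim x hx0 hx] at hdp hdle
  by_cases hν : ν = 3
  · obtain ⟨n, hn, hQn⟩ := exists_nonsing_perp D.nd (M x) (by rw [hdim x hx0 hx]; omega)
    have hu : n - (polar Q y n / polar Q m y) • m ∈ perp Q (M x) :=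
      Submodule.sub_mem _ hn (Submodule.smul_mem _ _ (hle hm))
    have hQu : Q (n - (polar Q y n / polar Q m y) • m) = Q n :=
      Q_sub_smul_of_singular (hts x hx0 hx m hm) (mem_perp.1 hn m hm) _
    have h1 := hts y hy0 hy _ (key _ hu (by
      rw [polar_sub_right, polar_smul_right', polar_comm Q y m, div_mul_cancel₀ _ hym, sub_self]))
    rw [Q_sub_smul_of_singular hx (by
      rw [polar_smul_right', mem_perp.1 hu x (hself x hx0 hx), mul_zero]), Q_smul, hQu] at h1
    exact mul_ne_zero (mul_ne_zero hzx hzx) hQn h1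
  have hq := hcase.resolve_left hν
  have hperp : ∀ y, y ≠ 0 → Q y = 0 → perp Q (M y) = M y := fun y hy0 hy => by
    symm
    apply Submodule.eq_of_le_of_finrank_le (le_perp_of_ts (hts y hy0 hy))
    have := finrank_add_finrank_perp D.nd (M y)
    rw [hdim y hy0 hy] at this ⊢
    omega
  have heq : ∀ y, y ≠ 0 → Q y = 0 → ∀ a ∈ M y, a ≠ 0 → M y = M a := fun y hy0 hy a ha ha0 => by
    have hQa := hts y hy0 hy a ha
    apply Submodule.eq_of_le_of_finrank_le _ (by rw [hdim y hy0 hy, hdim a ha0 hQa])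
    intro b hb
    rw [← hperp a ha0 hQa, ← St_iff_perp D.nd ha0 hQa (hM a ha0 hQa)]
    exact ⟨mem_perp.1 (le_perp_of_ts (hts y hy0 hy) hb) a ha,
      tau D hq hy0 hy (hM y hy0 hy) (hperp y hy0 hy) (hts y hy0 hy) (huniq y hy0 hy) ha hb⟩
  obtain ⟨u, hu, hux⟩ : ∃ u ∈ M x ⊓ perp Q (F ∙ y), u ∉ F ∙ x := by
    by_contra hcon
    push Not at hcon
    have h1 := Submodule.finrank_mono (show M x ⊓ perp Q (F ∙ y) ≤ F ∙ x from hcon)
    have h2 := finrank_inf_perp_singleton (Q := Q) (M x) y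
    rw [finrank_span_singleton hx0] at h1
    rw [hdim x hx0 hx] at h2
    omega
  have h1 := key u (hle hu.1) (mem_perp_singleton.1 hu.2)
  have h2 : polar Q z x • u - (polar Q z u + Q u * polar Q z x) • x ∈ M x :=
    Submodule.sub_mem _ (Submodule.smul_mem _ _ hu.1) (Submodule.smul_mem _ _ (hself x hx0 hx))
  have h3 : polar Q z x • u - (polar Q z u + Q u * polar Q z x) • x ≠ 0 := fun h0 => by
    apply hux
    rw [← Submodule.smul_mem_iff _ hzx, sub_eq_zero.1 h0]
    exact Submodule.smul_mem _ _ (Submodule.mem_span_singleton_self x)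
  apply hyM
  rw [heq x hx0 hx _ h2 h3, ← heq y hy0 hy _ h1 h3]
  exact hself y hy0 hy

end Cfsg.Agent.H33.OD
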