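import Cfsg.Agent.H33.OrthDeg5

/-! Actions of orthogonal groups of small degree: regular orbits and the main theorem. -/

set_option autoImplicit false
set_option linter.unusedSectionVars false

namespace Cfsg.Agent.H33.OD

open Cfsg.Agent.H30 QuadraticMap Module Finset

variable {F V : Type*} [Field F] [Fintype F] [AddCommGroup V] [Module F V] [FiniteDimensional F V]
  [Fintype V] {Q : QuadraticForm F V} {Ω : Type*} [MulAction (eichGroup Q) Ω] [Fintype Ω]

local notation "q" => Fintype.card F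

variable {x x' : V} {N0 ν : ℕ}

theorem Reg.card_orb (h : IsHyp Q x x') {ω : Ω} (hω : Reg Q x ω) :
    (orb Q x ω).card = q ^ (finrank F V - 2) := by
  have h1 : StP h ω = ⊥ := by
    rw [eq_bot_iff]
    intro u hu
    by_contra h0
    exact not_mem_span_of_hperp h u.2 (fun h => h0 (Subtype.ext h)) (hω u hu)
  rw [← card_hperp h, ← card_orb_mul h ω, h1, AddSubgroup.card_bot, mul_one]

theorem Reg.orb {ω ω' : Ω} (hω : Reg Q x ω) (h : ω' ∈ orb Q x ω) : Reg Q x ω' :=
  inv_Reg.orb ω ω' h hω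

theorem Reg.T {ω : Ω} (hω : Reg Q x ω) (u : V) : Reg Q x (T Q x u • ω) :=
  inv_Reg.fix (T_smul_self' u) hω

theorem Reg.eq_iff (hx : Q x = 0) {ω : Ω} (hω : Reg Q x ω) {s t : V} (hs : polar Q x s = 0)
    (ht : polar Q x t = 0) : OD.T Q x s • ω = OD.T Q x t • ω ↔ s - t ∈ F ∙ x := by
  rw [T_smul_eq_iff hx hs ht]
  refine ⟨hω _, fun h => ?_⟩
  obtain ⟨a, ha⟩ := Submodule.mem_span_singleton.1 h
  exact ha ▸ St.smul_self hx ω a

theorem reg_structure (D : Data Q N0 ν) (hN : Fintype.card Ω < N0)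
    [MulAction.IsPretransitive (eichGroup Q) Ω] (hx0 : x ≠ 0) (hx : Q x = 0) {ω₀ : Ω}
    (h0 : Reg Q x ω₀) : ∀ ω : Ω, ω ∈ orb Q x ω₀ ∨ Fx Q x ω := by
  classical
  obtain ⟨x', h⟩ := exists_isHyp D.nd hx hx0
  have h7 := D.h7
  have h3 := D.h3
  have hq : 1 < q := Fintype.one_lt_card
  have htot := card_filter_eq_mul_ncl (orb Q x) (mem_orb_self x) (orb_eq hx) (Reg Q x : Ω → Prop)
    inv_Reg.orb (fun ω hω => hω.card_orb h)
  have hsplit := card_filter_add_card_filter_not (s := univ) (Reg Q x : Ω → Prop)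
  rw [card_univ] at hsplit
  have hone : ncl (orb Q x) (Reg Q x : Ω → Prop) = 1 := by
    have h1 := ncl_pos (orb Q x) h0
    by_contra hne
    have := Nat.mul_le_mul_left (q ^ (finrank F V - 2))
      (show 2 ≤ ncl (orb Q x) (Reg Q x : Ω → Prop) by omega)
    omega
  rw [hone, mul_one] at htot
  intro ω
  by_cases hω : Reg Q x ω
  · left
    by_contra hm
    have h1 := ncl_succ_le (orb Q x) (mem_orb_self x) (P := fun ω => ω = ω₀) (P' := Reg Q x)
      (fun _ h => h ▸ h0) hω (fun _ h => h ▸ hm)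
    have h2 := ncl_pos (orb Q x) (P := fun ω => ω = ω₀) rfl
    omega
  right
  refine Fx.of_An D.nd hx0 hx fun w hw => ?_
  by_contra hwx
  have h1 := one_class D.nd h7 h (inv_Reg (Ω := Ω)).not hw.1 hwx (k := 1)
    (ncl_pos _ (ω := ω) ⟨hω, hw⟩)
  have h2 : (univ.filter (fun ω : Ω => ¬ Reg Q x ω)).card =
      ncl (orb Q x) (fun ω : Ω => ¬ Reg Q x ω) +
      ∑ w ∈ nz Q x x', mult Q x (fun ω : Ω => ¬ Reg Q x ω) w := by
    convert card_filter_eq (Ω := Ω) D.nd h inv_Reg.not
  have h4 : (univ.filter (fun ω : Ω => ¬ Reg Q x ω)).card ≤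
      q * ncl (orb Q x) (fun ω : Ω => ¬ Reg Q x ω) := by
    convert card_filter_le_mul_ncl (orb Q x) (mem_orb_self x) (fun ω : Ω => ¬ Reg Q x ω) (a := q)
      (fun ω hω => by
        obtain ⟨v, hv⟩ : Small Q x ω := by
          by_contra hS
          exact not_TS D hN hx0 hx ω (mixed D hN hx0 hx hω hS)
        have := (card_orb_mul_le D.nd hx0 hx _ hv).trans
          (Nat.pow_le_pow_right Fintype.card_pos (finrank_span_pair_le x v))
        rw [pow_two] at this
        exact Nat.le_of_mul_le_mul_right this Fintype.card_pos)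
  have h5 := ncl_pos (orb Q x) (P := fun ω : Ω => ¬ Reg Q x ω) hω
  have hdvd := fun M hM => dvd_of_rel D.nd (by omega) hx0 hx (Reg Q : V → Ω → Prop)
    (fun _ _ _ _ ht hg _ h => h.gsmul ht hg) (M := M) hM
  rw [card_sing h, htot] at hdvd
  have e1 := D.h1 x x' h
  have e2 := D.h2 x x' h (Q w)
  rw [htot] at hsplit
  generalize (univ.filter (fun ω : Ω => ¬ Reg Q x ω)).card = r at *
  obtain ⟨k, hk⟩ : ∃ k, q = k + 1 := ⟨q - 1, by omega⟩
  generalize q ^ (finrank F V - 2) = A at *
  rw [hk, Nat.add_sub_cancel] at e1 e2 hdvd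
  rw [hk] at h4
  have h6 : (k + 1) * (cl Q x x' (Q w)).card ≤ k * r := by nlinarith
  have h8 : k * (A + r + 1) ≤ k * N0 := Nat.mul_le_mul_left k (by omega)
  by_cases hc : Q w = 0
  · rw [hc] at h6
    have := hdvd (A + r + 1) (by nlinarith)
    rw [← hsplit, add_mul, one_mul, Nat.dvd_add_right (dvd_mul_right _ _)] at this
    have hA : 0 < A := by omega
    have := Nat.le_of_dvd hA this
    omega
  · have := e2 hc
    nlinarith

theorem no_fix (D : Data Q N0 ν) (hN : Fintype.card Ω < N0)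
    [MulAction.IsPretransitive (eichGroup Q) Ω] (hx0 : x ≠ 0) (hx : Q x = 0) {ω : Ω}
    (hω : Reg Q x ω) {y u : V} (hy : Q y = 0) (hxy : polar Q x y = 0) (hyx : y ∉ F ∙ x)
    (hu : polar Q y u = 0) (huy : u ∉ F ∙ y) : T Q y u • ω ≠ ω := by
  intro h
  have hy0 : y ≠ 0 := by rintro rfl; exact hyx (zero_mem _)
  obtain ⟨g, hg⟩ := exists_smul_eq_one D.nd (by have := D.h7; omega) hx0 hy0 (by rw [hx, hy])
  have h1 : Reg Q y (g • ω) := hω.gsmul one_ne_zero (by rw [hg, one_smul])
  rcases reg_structure D hN hy0 hy h1 ω with h2 | h2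
  · exact huy (h1.orb h2 u ⟨hu, h⟩)
  · have h3 : polar Q y x = 0 := by rw [polar_comm, hxy]
    exact hyx (hω y (St.swap hy hx ⟨h3, h2 x h3⟩))

theorem finish (D : Data Q N0 ν) (hN : Fintype.card Ω < N0)
    [MulAction.IsPretransitive (eichGroup Q) Ω] (hx0 : x ≠ 0) (hx : Q x = 0) {ω : Ω}
    (hω : Reg Q x ω) {y a c : V} (hy : Q y = 0) (hxy : polar Q x y = 0) (hyx : y ∉ F ∙ x)
    (hxa : polar Q x a = 0) (hya : polar Q y a = 0) (ha : Q a ≠ 0)
    (hc : c ∈ Submodule.span F {x, y, a}) (h : T Q y a • ω = T Q x c • ω) : False := by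
  obtain ⟨α, β, γ, rfl⟩ := mem_span_triple'.1 hc
  obtain ⟨t₁, ht₁, h1⟩ := exists_perp_one D.nd (Submodule.span F {x, a}) (z := y) (fun hm => by
    obtain ⟨c, d, hcd⟩ := mem_span_pair'.1 hm
    have : Q y = d * d * Q a := by
      rw [hcd, add_comm, Q_add_smul_of_singular hx (by rw [polar_smul_right', hxa, mul_zero]),
        Q_smul]
    rw [hy, eq_comm] at this
    have hd : d = 0 := by simpa [ha] using this
    exact hyx (Submodule.mem_span_singleton.2 ⟨c, by simp [hcd, hd]⟩))
  obtain ⟨t₂, ht₂, h2⟩ := exists_perp_one D.nd (Submodule.span F {x, y}) (z := a) (fun hm => by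
    obtain ⟨c, d, hcd⟩ := mem_span_pair'.1 hm
    apply ha
    rw [hcd, add_comm, Q_add_smul_of_singular hx (by rw [polar_smul_right', hxy, mul_zero]),
      Q_smul, hy, mul_zero])
  obtain ⟨h3, h4⟩ := mem_perp_pair.1 ht₁
  obtain ⟨h5, h6⟩ := mem_perp_pair.1 ht₂
  have ht : polar Q x ((-γ) • t₁ + (β + Q a * γ) • t₂) = 0 := by
    rw [polar_add_right, polar_smul_right', polar_smul_right', h3, h5]; simp
  have hgx : T Q y a • x = x := T_smul_of_orth hxy hxa
  have hc' : polar Q x (α • x + β • y + γ • a) = 0 := by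
    simp only [polar_add_right, polar_smul_right', polar_self_zero hx, hxy, hxa]; simp
  refine no_fix D hN hx0 hx (hω.T ((-γ) • t₁ + (β + Q a * γ) • t₂)) hy hxy hyx hya (fun hm => ?_) ?_
  · obtain ⟨c, rfl⟩ := Submodule.mem_span_singleton.1 hm
    exact ha (by rw [Q_smul, hy, mul_zero])
  · have h7 := polar_gsmul_zero' hgx ht
    rw [smul_T_smul' hgx, h, T_T_smul hx h7 hc',
      hω.eq_iff hx (by rw [polar_add_right, h7, hc', add_zero]) ht, T_smul hy hya]
    refine Submodule.mem_span_singleton.2 ⟨α, ?_⟩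
    simp only [polar_add_left, polar_smul_left', polar_comm Q t₁, polar_comm Q t₂, h1, h2, h4, h6]
    module

theorem refl_mul_smul {a b : V} (hab : refl Q a * refl Q b ∈ eichGroup Q) (v : V) :
    (⟨_, hab⟩ : eichGroup Q) • v = (refl Q a).1 ((refl Q b).1 v) := rfl

theorem not_Reg (D : Data Q N0 ν) (hN : Fintype.card Ω < N0)
    [MulAction.IsPretransitive (eichGroup Q) Ω] (hx0 : x ≠ 0) (hx : Q x = 0) (ω₀ : Ω) :
    ¬ Reg Q x ω₀ := by
  intro h0
  have h7 := D.h7
  obtain ⟨x', h⟩ := exists_isHyp D.nd hx hx0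
  have horb : ∀ {ω : Ω} {k : eichGroup Q} {t : F}, Reg Q x ω → t ≠ 0 → k • x = t • x →
      ∃ s, polar Q x s = 0 ∧ T Q x s • ω = k • ω := by
    intro ω k t hω ht hk
    rcases reg_structure D hN hx0 hx hω (k • ω) with h1 | h1
    · exact mem_orb.1 h1
    · exfalso
      obtain ⟨e, f', n', hef, he, -⟩ := exists_hyp_perp D.nd (Submodule.span F {x, x'})
        (by have := finrank_span_pair_le (F := F) x x'; omega)
      obtain ⟨h2, h3⟩ := mem_perp_pair.1 he
      exact not_mem_span_of_hperp h ⟨by rwa [polar_comm], by rwa [polar_comm]⟩ hef.left_ne_zero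
        (hω.gsmul ht hk e ⟨h2, h1 e h2⟩)
  have horb' : ∀ {ω : Ω} {k : eichGroup Q}, Reg Q x ω → k • x = x →
      ∃ s, polar Q x s = 0 ∧ T Q x s • ω = k • ω := fun hω hk =>
    horb hω one_ne_zero (by rw [hk, one_smul])
  obtain ⟨y, y', -, hyy, hy1, hy2, -⟩ := exists_hyp_perp D.nd (Submodule.span F {x, x'})
    (by have := finrank_span_pair_le (F := F) x x'; omega)
  have hy := hyy.left
  have hyh : y ∈ hperp Q x x' := ⟨by rw [polar_comm]; exact (mem_perp_pair.1 hy1).1,
    by rw [polar_comm]; exact (mem_perp_pair.1 hy1).2⟩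
  have hxy := hperp_polar hyh
  have hyx := not_mem_span_of_hperp h hyh hyy.left_ne_zero
  obtain ⟨e, f, n, hef, he, hf, hn, hn', hQn⟩ := exists_hyp_perp D.nd (Submodule.span F {x, y})
    (by have := finrank_span_pair_le (F := F) x y; omega)
  have hx0' : polar Q x 0 = 0 := by simp
  by_cases hq : 4 ≤ q
  · obtain ⟨μ, hμ, hμ1⟩ := exists_sq_ne_one hq
    have hμ2 := mul_ne_zero hμ hμ
    have hμ3 : 1 - μ * μ ≠ 0 := sub_ne_zero.2 hμ1.symm
    obtain ⟨k, hk, hk'⟩ := exists_diag D.nd (by omega) h hμ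
    obtain ⟨s, hs, hs'⟩ := horb h0 hμ2 hk
    have hmod : ∀ t, polar Q x t = 0 → ∃ c : F, k • t = t + c • x := fun t ht => by
      obtain ⟨c, hc⟩ := Submodule.mem_span_singleton.1 (diag_sub_mem h hk hk' ht)
      exact ⟨c, by rw [hc]; abel⟩
    have hpol : ∀ t, polar Q x t = 0 → polar Q x ((μ * μ) • k • t) = 0 := fun t ht => by
      rw [polar_smul_right', polar_gsmul_zero hμ2 hk ht, mul_zero]
    have ht : polar Q x ((1 - μ * μ)⁻¹ • s) = 0 := by rw [polar_smul_right', hs, mul_zero]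
    have hfix : k • T Q x ((1 - μ * μ)⁻¹ • s) • ω₀ = T Q x ((1 - μ * μ)⁻¹ • s) • ω₀ := by
      rw [smul_T_smul hμ2 hk, ← hs', T_T_smul hx (hpol _ ht) hs,
        h0.eq_iff hx (by rw [polar_add_right, hpol _ ht, hs, add_zero]) ht]
      obtain ⟨c, hc⟩ := hmod _ ht
      rw [hc]
      refine Submodule.mem_span_singleton.2 ⟨μ * μ * c, ?_⟩
      match_scalars
      · ring
      · linear_combination mul_inv_cancel₀ hμ3
    have h1 := h0.T ((1 - μ * μ)⁻¹ • s)
    generalize T Q x ((1 - μ * μ)⁻¹ • s) • ω₀ = ω₁ at h1 hfix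
    have hu : hproj Q x x' n ∈ hperp Q x x' := h.hproj_mem n
    have hyu : polar Q y (hproj Q x x' n) = 0 := by
      have := (mem_perp_pair.1 hn).2
      rwa [hproj_eq h (mem_perp_pair.1 hn).1, polar_add_right, polar_smul_right', hyh.1, mul_zero,
        add_zero] at this
    have hgx : T Q y (hproj Q x x' n) • x = x := T_smul_of_orth hxy (hperp_polar hu)
    obtain ⟨c, hc, hc'⟩ := horb' h1 hgx
    have h2 : k • T Q y (hproj Q x x' n) • ω₁ = T Q y (hproj Q x x' n) • ω₁ := by
      rw [← mul_smul, mul_T, hk' y hyh, hk' _ hu, mul_smul, hfix]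
    rw [← hc', smul_T_smul hμ2 hk, hfix, h1.eq_iff hx (hpol _ hc) hc] at h2
    obtain ⟨d, hd⟩ := hmod c hc
    refine no_fix D hN hx0 hx h1 hy hxy hyx hyu (fun hm => ?_) ?_
    · obtain ⟨c, hc⟩ := Submodule.mem_span_singleton.1 hm
      exact hQn (by rw [← Q_hproj h (mem_perp_pair.1 hn).1, ← hc, Q_smul, hy, mul_zero])
    · rw [← hc']
      nth_rewrite 2 [← one_smul (eichGroup Q) ω₁]
      rw [← T_zero x, h1.eq_iff hx hc hx0', sub_zero, ← Submodule.smul_mem_iff _ hμ3]
      rw [hd] at h2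
      convert Submodule.sub_mem _ (Submodule.smul_mem _ (μ * μ * d)
        (Submodule.mem_span_singleton_self x)) h2 using 1
      module
  have hq1 : 1 < q := Fintype.one_lt_card
  have hmem : ∀ a b, Q a ≠ 0 → Q a = Q b → refl Q a * refl Q b ∈ eichGroup Q := fun a b ha hab =>
    refl_mul_refl_mem_eichGroup D.nd h (by omega) ha hab
  have hfixk : ∀ {a b} (hab : refl Q a * refl Q b ∈ eichGroup Q),
      a ∈ perp Q (Submodule.span F {x, y}) → b ∈ perp Q (Submodule.span F {x, y}) →
      (⟨_, hab⟩ : eichGroup Q) • x = x ∧ (⟨_, hab⟩ : eichGroup Q) • y = y := by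
    intro a b hab ha hb
    constructor
    · rw [refl_mul_smul, refl_apply_of_orth (mem_perp_pair.1 hb).1,
        refl_apply_of_orth (mem_perp_pair.1 ha).1]
    · rw [refl_mul_smul, refl_apply_of_orth (mem_perp_pair.1 hb).2,
        refl_apply_of_orth (mem_perp_pair.1 ha).2]
  have hne : polar Q n e = 0 := hn'.1
  have hnf : polar Q n f = 0 := hn'.2
  have hen : polar Q e n = 0 := by rw [polar_comm, hne]
  have hfn : polar Q f n = 0 := by rw [polar_comm, hnf]
  by_cases hq3 : q = 3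
  · have h3 := three_eq_zero hq3
    have h2 : (2 : F) ≠ 0 := fun h2 => one_ne_zero (α := F) (by linear_combination h3 - h2)
    have hε := mul_self_of_three hq3 hQn
    obtain ⟨a, b, b', ha, hb, hb', hQa, hQb, hQb', hab, hab', hbb'⟩ : ∃ a b b',
        a ∈ perp Q (Submodule.span F {x, y}) ∧ b ∈ perp Q (Submodule.span F {x, y}) ∧
        b' ∈ perp Q (Submodule.span F {x, y}) ∧ Q a ≠ 0 ∧ Q a = Q b ∧ Q a = Q b' ∧
        polar Q a b = 0 ∧ polar Q a b' = 0 ∧ polar Q b b' = 0 := by
      refine ⟨n + (e + Q n • f), n - (e + Q n • f), e - Q n • f,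
        add_mem hn (add_mem he (Submodule.smul_mem _ _ hf)),
        sub_mem hn (add_mem he (Submodule.smul_mem _ _ hf)),
        sub_mem he (Submodule.smul_mem _ _ hf), ?_⟩
      simp only [Q_add, Q_sub, Q_smul, polar_add_left, polar_add_right, polar_sub_left,
        polar_sub_right, polar_smul_left', polar_smul_right', hne, hnf, hen, hfn, hef.left,
        hef.right, hef.pol, hef.pol', polar_self']
      refine ⟨fun h => hQn ?_, by ring, by linear_combination Q n * h3, by ring, by ring, by ring⟩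
      apply mul_left_cancel₀ h2
      linear_combination h
    have hinv : ∀ {b} (hb : b ∈ perp Q (Submodule.span F {x, y})) (hQb : Q a = Q b),
        polar Q a b = 0 → ∀ k : eichGroup Q, k = ⟨_, hmem a b hQa hQb⟩ →
        k • x = x ∧ k • y = y ∧ k • a = -a ∧ k * k = 1 ∧
          ∀ v, k • v = v - ((Q a)⁻¹ * polar Q v a) • a - ((Q a)⁻¹ * polar Q v b) • b := by
      intro b hb hQb hab k hk
      subst hk
      refine ⟨(hfixk _ ha hb).1, (hfixk _ ha hb).2, ?_, ?_, fun v => ?_⟩
      · rw [refl_mul_smul, refl_apply_of_orth hab, refl_apply_self hQa]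
      · apply Subtype.ext
        change refl Q a * refl Q b * (refl Q a * refl Q b) = 1
        rw [mul_assoc, ← mul_assoc (refl Q b), mul_refl (refl Q b) a,
          refl_apply_of_orth hab, mul_assoc, refl_mul_self, mul_one, refl_mul_self]
      · rw [refl_mul_smul, refl_apply, refl_apply, ← hQb, polar_sub_left, polar_smul_left',
          polar_comm Q b a, hab]
        module
    obtain ⟨k₁, hk₁⟩ : ∃ k : eichGroup Q, k = ⟨_, hmem a b hQa hQb⟩ := ⟨_, rfl⟩
    obtain ⟨k₂, hk₂⟩ : ∃ k : eichGroup Q, k = ⟨_, hmem a b' hQa hQb'⟩ := ⟨_, rfl⟩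
    obtain ⟨a1, a2, a3, a4, a5⟩ := hinv hb hQb hab k₁ hk₁
    obtain ⟨b1, b2, b3, b4, b5⟩ := hinv hb' hQb' hab' k₂ hk₂
    have hcomm : k₁ * k₂ = k₂ * k₁ := by
      apply Subtype.ext
      apply O_ext
      intro v
      change k₁ • k₂ • v = k₂ • k₁ • v
      rw [a5, b5 (k₁ • v), a5, b5]
      simp only [polar_sub_left, polar_smul_left', polar_comm Q b a, polar_comm Q b' a,
        polar_comm Q b' b, hab, hab', hbb']
      module
    have half : ∀ {ω : Ω} {k : eichGroup Q}, Reg Q x ω → k • x = x → k * k = 1 →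
        ∃ s, polar Q x s = 0 ∧ T Q x s • ω = k • ω ∧
          k • T Q x ((2 : F)⁻¹ • s) • ω = T Q x ((2 : F)⁻¹ • s) • ω := by
      intro ω k hω hk hkk
      obtain ⟨s, hs, hs'⟩ := horb' hω hk
      refine ⟨s, hs, hs', ?_⟩
      have e1 : k • k • ω = T Q x 0 • ω := by rw [← mul_smul, hkk, T_zero]
      have e2 := polar_gsmul_zero' hk hs
      rw [← hs', smul_T_smul' hk, ← hs', T_T_smul hx e2 hs,
        hω.eq_iff hx (by rw [polar_add_right, e2, hs, add_zero]) hx0'] at e1
      have e3 : polar Q x ((2 : F)⁻¹ • s) = 0 := by rw [polar_smul_right', hs, mul_zero]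
      have e4 := polar_gsmul_zero' hk e3
      rw [smul_T_smul' hk, ← hs', T_T_smul hx e4 hs,
        hω.eq_iff hx (by rw [polar_add_right, e4, hs, add_zero]) e3, gsmul_smul]
      convert Submodule.smul_mem _ (2 : F)⁻¹ e1 using 1
      generalize k • s = ks
      match_scalars
      · ring
      · field_simp; ring
    obtain ⟨s₁, -, -, hs₁⟩ := half h0 a1 a4
    have h1 := h0.T ((2 : F)⁻¹ • s₁)
    generalize T Q x ((2 : F)⁻¹ • s₁) • ω₀ = ω₁ at h1 hs₁
    obtain ⟨s₂, hs₂, hs₂', hs₂''⟩ := half h1 b1 b4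
    have e3 : polar Q x ((2 : F)⁻¹ • s₂) = 0 := by rw [polar_smul_right', hs₂, mul_zero]
    have hs₃ : k₁ • T Q x ((2 : F)⁻¹ • s₂) • ω₁ = T Q x ((2 : F)⁻¹ • s₂) • ω₁ := by
      have e1 : k₁ • k₂ • ω₁ = k₂ • ω₁ := by rw [← mul_smul, hcomm, mul_smul, hs₁]
      rw [← hs₂', smul_T_smul' a1, hs₁, h1.eq_iff hx (polar_gsmul_zero' a1 hs₂) hs₂] at e1
      rw [smul_T_smul' a1, hs₁, h1.eq_iff hx (polar_gsmul_zero' a1 e3) e3, gsmul_smul, ← smul_sub]
      exact Submodule.smul_mem _ _ e1
    have h2' := h1.T ((2 : F)⁻¹ • s₂)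
    generalize T Q x ((2 : F)⁻¹ • s₂) • ω₁ = ω₂ at h2' hs₂'' hs₃
    obtain ⟨hxa, hya⟩ := mem_perp_pair.1 ha
    have hgx : T Q y a • x = x := T_smul_of_orth hxy hxa
    obtain ⟨c, hc, hc'⟩ := horb' h2' hgx
    have key : ∀ k : eichGroup Q, k • x = x → k • y = y → k • a = -a → k • ω₂ = ω₂ →
        T Q y a • k • c + c ∈ F ∙ x := by
      intro k k1 k2 k3 k4
      have e1 : T Q y a • k • T Q y a • ω₂ = T Q x 0 • ω₂ := by
        rw [← mul_smul k, mul_T, k2, k3, ← T_inv, mul_smul, smul_inv_smul, k4, T_zero, one_smul]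
      have e2 := polar_gsmul_zero' hgx (polar_gsmul_zero' k1 hc)
      rwa [← hc', smul_T_smul' k1, k4, smul_T_smul' hgx, ← hc', T_T_smul hx e2 hc,
        h2'.eq_iff hx (by rw [polar_add_right, e2, hc, add_zero]) hx0', sub_zero] at e1
    obtain ⟨d₁, hd₁⟩ := Submodule.mem_span_singleton.1 (key k₁ a1 a2 a3 hs₃)
    obtain ⟨d₂, hd₂⟩ := Submodule.mem_span_singleton.1 (key k₂ b1 b2 b3 hs₂'')
    rw [T_smul hy hya] at hd₁ hd₂
    have hcb : polar Q c b = 0 := by
      have e1 := congrArg (fun z => polar Q z b) hd₂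
      simp only [b5, polar_add_left, polar_sub_left, polar_smul_left', (mem_perp_pair.1 hb).1,
        (mem_perp_pair.1 hb).2, hab, polar_comm Q b' b, hbb'] at e1
      apply mul_left_cancel₀ h2
      linear_combination -e1
    refine finish D hN hx0 hx h2' hy hxy hyx hxa hya hQa ?_ hc'.symm
    rw [← Submodule.smul_mem_iff _ h2]
    refine mem_span_triple'.2 ⟨d₁, polar Q (k₁ • c) a + Q a * polar Q (k₁ • c) y,
      (Q a)⁻¹ * polar Q c a - polar Q (k₁ • c) y, ?_⟩
    rw [hd₁]
    generalize polar Q (k₁ • c) a = p₁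
    generalize polar Q (k₁ • c) y = p₂
    rw [a5, hcb]
    module
  · have h01 : ∀ c : F, c ≠ 0 → c = 1 := isF2_iff_card.2 (by omega)
    have h2 : (2 : F) = 0 := IsF2.two_eq_zero h01
    have hQn1 := h01 _ hQn
    obtain ⟨a, b, ha, hb, hQa, hQb, hab⟩ : ∃ a b,
        a ∈ perp Q (Submodule.span F {x, y}) ∧ b ∈ perp Q (Submodule.span F {x, y}) ∧
        Q a = 1 ∧ Q b = 1 ∧ polar Q a b = 1 := by
      refine ⟨e + f, e + n, add_mem he hf, add_mem he hn, ?_⟩
      simp only [Q_add, polar_add_left, polar_add_right, hne, hnf, hen, hfn, hef.left,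
        hef.right, hef.pol, hef.pol', polar_self', hQn1]
      refine ⟨by ring, by ring, by ring⟩
    have hba : polar Q b a = 1 := by rw [polar_comm, hab]
    have haa : polar Q a a = 0 := by rw [polar_self', h2, zero_mul]
    have hbb : polar Q b b = 0 := by rw [polar_self', h2, zero_mul]
    have hvv : ∀ v : V, v + v = 0 := fun v => by rw [← two_smul F, h2, zero_smul]
    have hng : ∀ v : V, -v = v := fun v => neg_eq_of_add_eq_zero_left (hvv v)
    obtain ⟨k, k1, k2, k3⟩ : ∃ k : eichGroup Q, k • x = x ∧ k • y = y ∧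
        ∀ v, k • v = v + (polar Q v a + polar Q v b) • a + polar Q v b • b := by
      refine ⟨⟨_, hmem a b (by rw [hQa]; exact one_ne_zero) (by rw [hQa, hQb])⟩,
        (hfixk _ ha hb).1, (hfixk _ ha hb).2, fun v => ?_⟩
      rw [refl_mul_smul, refl_apply, refl_apply, hQa, hQb, polar_sub_left, polar_smul_left', hba]
      match_scalars
      · ring
      · linear_combination (-polar Q v b) * h2
      · linear_combination (-polar Q v a) * h2
    have ka : k • a = b := by
      rw [k3, haa, hab]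
      match_scalars
      · linear_combination h2
      · ring
    have kb : k • b = a + b := by rw [k3, hbb, hba]; module
    have kk : ∀ v, v + k • v + k • k • v = v + polar Q v b • a + polar Q v a • b := fun v => by
      rw [k3 (k • v), k3 v]
      simp only [polar_add_left, polar_smul_left', haa, hbb, hab, hba]
      match_scalars
      · linear_combination h2
      · linear_combination (2 * polar Q v a + 2 * polar Q v b) * h2
      · linear_combination (2 * polar Q v b) * h2
    have kkk : ∀ v, k • k • k • v = v := fun v => by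
      have e1 := kk (k • v)
      have e2 := congrArg (fun z => k • z) (kk v)
      simp only [gsmul_add, gsmul_smul, ka, kb] at e2
      have e3 : k • k • k • v = k • v + polar Q v b • b + polar Q v a • (a + b) - k • v -
          k • k • v := by rw [← e2]; abel
      have e4 : k • k • v = v + polar Q v b • a + polar Q v a • b - v - k • v := by
        rw [← kk v]; abel
      rw [e3, e4, k3 v]
      match_scalars
      · ring
      · linear_combination (polar Q v a) * h2
      · linear_combination (polar Q v b) * h2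
    have kω : ∀ ω : Ω, k • k • k • ω = ω := fun ω => by
      have : k * k * k = 1 := Subtype.ext (O_ext kkk)
      rw [← mul_smul, ← mul_smul, this, one_smul]
    have padd : ∀ {s t : V}, polar Q x s = 0 → polar Q x t = 0 → polar Q x (s + t) = 0 :=
      fun hs ht => by rw [polar_add_right, hs, ht, add_zero]
    obtain ⟨s, hs, hs'⟩ := horb' h0 k1
    have ps1 := polar_gsmul_zero' k1 hs
    have ps2 := polar_gsmul_zero' k1 ps1
    have hfix : k • T Q x (k • s) • ω₀ = T Q x (k • s) • ω₀ := by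
      have e1 : k • k • k • ω₀ = T Q x 0 • ω₀ := by rw [kω, T_zero, one_smul]
      rw [← hs', smul_T_smul' k1, ← hs', T_T_smul hx ps1 hs, smul_T_smul' k1, ← hs', gsmul_add,
        T_T_smul hx (padd ps2 ps1) hs, h0.eq_iff hx (padd (padd ps2 ps1) hs) hx0'] at e1
      rw [smul_T_smul' k1, ← hs', T_T_smul hx ps2 hs, h0.eq_iff hx (padd ps2 hs) ps1]
      convert e1 using 1
      rw [sub_eq_add_neg, hng]
      abel
    have h1 := h0.T (k • s)
    generalize T Q x (k • s) • ω₀ = ω₁ at h1 hfix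
    obtain ⟨hxa, hya⟩ := mem_perp_pair.1 ha
    obtain ⟨hxb, hyb⟩ := mem_perp_pair.1 hb
    have hga : T Q y a • x = x := T_smul_of_orth hxy hxa
    have hgb : T Q y b • x = x := T_smul_of_orth hxy hxb
    obtain ⟨c, hc, hc'⟩ := horb' h1 hga
    have pc1 := polar_gsmul_zero' k1 hc
    have pc2 := polar_gsmul_zero' k1 pc1
    have hc1 : T Q x (k • c) • ω₁ = T Q y b • ω₁ := by
      rw [← hfix, ← smul_T_smul' k1, hc', smul_T_smul' k2, ka]
    have hc2 : T Q x (k • k • c) • ω₁ = T Q y (a + b) • ω₁ := by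
      rw [← hfix, ← smul_T_smul' k1, hc1, smul_T_smul' k2, kb]
    have pc3 := polar_gsmul_zero' hgb pc2
    have pc4 := polar_gsmul_zero' hga (padd pc3 pc1)
    have pc5 := polar_gsmul_zero' hga hc
    have e1 : T Q y a • T Q y b • T Q y (a + b) • ω₁ = T Q x 0 • ω₁ := by
      rw [← mul_smul, T_mul hy hya hyb, ← mul_smul, T_mul hy (by rw [polar_add_right, hya, hyb,
        add_zero]) (by rw [polar_add_right, hya, hyb, add_zero]), hvv, T_zero, T_zero]
    rw [← hc2, smul_T_smul' hgb, ← hc1, T_T_smul hx pc3 pc1, smul_T_smul' hga, ← hc',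
      T_T_smul hx pc4 hc, h1.eq_iff hx (padd pc4 hc) hx0', sub_zero] at e1
    have e2 : T Q y a • T Q y a • ω₁ = T Q x 0 • ω₁ := by
      rw [← mul_smul, T_mul hy hya hya, hvv, T_zero, T_zero]
    rw [← hc', smul_T_smul' hga, ← hc', T_T_smul hx pc5 hc, h1.eq_iff hx (padd pc5 hc) hx0',
      sub_zero] at e2
    obtain ⟨d₁, hd₁⟩ := Submodule.mem_span_singleton.1 e1
    obtain ⟨d₂, hd₂⟩ := Submodule.mem_span_singleton.1 e2
    rw [T_smul hy hya, T_smul hy hyb] at hd₁
    obtain ⟨α, β, γ, δ, hc0⟩ : ∃ α β γ δ : F, c = α • x + β • y + γ • a + δ • b := by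
      have e3 := kk c
      generalize polar Q (k • k • c + polar Q (k • k • c) y • b - polar Q (k • k • c) b • y -
        (Q b * polar Q (k • k • c) y) • y + k • c) y = p₁ at hd₁
      generalize polar Q (k • k • c + polar Q (k • k • c) y • b - polar Q (k • k • c) b • y -
        (Q b * polar Q (k • k • c) y) • y + k • c) a = p₂ at hd₁
      refine ⟨d₁, polar Q (k • k • c) b + Q b * polar Q (k • k • c) y + p₂ + Q a * p₁,
        -p₁ - polar Q c b, -polar Q (k • k • c) y - polar Q c a, ?_⟩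
      rw [hd₁]
      generalize polar Q (k • k • c) y = p₃
      generalize polar Q (k • k • c) b = p₄
      have e4 : k • k • c = c + polar Q c b • a + polar Q c a • b - c - k • c := by
        rw [← e3]; abel
      rw [e4]
      generalize k • c = kc
      module
    have hδ : δ = 0 := by
      rw [T_smul hy hya] at hd₂
      have e3 := congrArg (fun z => polar Q z y') hd₂
      have hcy : polar Q c y = 0 := by
        rw [hc0]
        simp only [polar_add_left, polar_smul_left', hxy, polar_self_zero hy, polar_comm Q a y,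
          polar_comm Q b y, hya, hyb]
        simp
      have hca : polar Q c a = δ := by
        rw [hc0]
        simp only [polar_add_left, polar_smul_left', hxa, hya, haa, hba]
        simp
      simp only [polar_add_left, polar_sub_left, polar_smul_left', hcy, hca, hyy.pol,
        (mem_perp_pair.1 hy2).1] at e3
      linear_combination e3 + polar Q c y' * h2
    refine finish D hN hx0 hx h1 hy hxy hyx hxa hya (by rw [hQa]; exact one_ne_zero)
      (mem_span_triple'.2 ⟨α, β, γ, by rw [hc0, hδ, zero_smul, add_zero]⟩) hc'.symm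

theorem fx_of_small (hQ : (polarBilin Q).Nondegenerate) (h7 : 7 ≤ finrank F V) {ω : Ω}
    (hS : ∀ y, y ≠ 0 → Q y = 0 → Small Q y ω) (hx0 : x ≠ 0) (hx : Q x = 0) : Fx Q x ω := by
  refine Fx.of_An hQ hx0 hx fun w hw => ?_
  by_contra hwx
  obtain ⟨y, hy, hQy, hwy⟩ := exists_singular_perp_not_orth hQ (F ∙ x)
    (by rw [finrank_span_singleton hx0]; omega) hwx
  have hxy := mem_perp_singleton.1 hy
  have hy0 : y ≠ 0 := by rintro rfl; simp at hwy
  obtain ⟨n, hn⟩ := hS x hx0 hx
  obtain ⟨n', hn'⟩ := hS y hy0 hQy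
  have hle : perp Q (Submodule.span F {x, y, n'}) ≤ Submodule.span F {x, y, n} := by
    intro u hu
    obtain ⟨h1, h2, h3⟩ := mem_perp_triple.1 hu
    have h4 : St Q y ω u := St_of_An hQ hy0 hQy h2 fun z hz => by
      obtain ⟨a, b, rfl⟩ := mem_span_pair'.1 (hn' z hz)
      rw [polar_add_left, polar_smul_left', polar_smul_left', h2, h3]
      simp
    have h5 := (An_gsmul' (ω := ω) (T_smul_of_orth (x := y) (u := u) hxy h1)).2 hw
    rw [h4.2, T_smul hQy h2, hwy] at h5
    obtain ⟨a, b, hab⟩ := mem_span_pair'.1 (hn _ (sub_mem h5 hw))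
    refine mem_span_triple'.2 ⟨a, polar Q w u + Q u, b, ?_⟩
    have : u = a • x + b • n + (polar Q w u + Q u) • y := by rw [← hab]; module
    exact this.trans (by abel)
  have h1 := Submodule.finrank_mono hle
  have h2 := finrank_add_finrank_perp hQ (Submodule.span F {x, y, n'})
  have h3 := finrank_span_triple_le (F := F) x y n
  have h4 := finrank_span_triple_le (F := F) x y n'
  omega

theorem smul_eq_of_card_lt (D : Data Q N0 ν) (hN : Fintype.card Ω < N0)
    [MulAction.IsPretransitive (eichGroup Q) Ω] (g : eichGroup Q) (ω : Ω) : g • ω = ω := by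
  have hS : ∀ y, y ≠ 0 → Q y = 0 → Small Q y ω := fun y hy0 hy => by
    by_contra hS
    exact not_TS D hN hy0 hy ω (mixed D hN hy0 hy (not_Reg D hN hy0 hy ω) hS)
  have : eichGroup Q ≤ (MulAction.stabilizer (eichGroup Q) ω).map (eichGroup Q).subtype :=
    eichGroup_le fun u v hu0 hu huv => ⟨T Q u v, fx_of_small D.nd D.h7 hS hu0 hu v huv, rfl⟩
  obtain ⟨g', hg', he⟩ := this g.2
  rwa [← (Subtype.ext he : g' = g)]

theorem le_index (D : Data Q N0 ν) (H : Subgroup (eichGroup Q)) (hH : H ≠ ⊤) : N0 ≤ H.index := by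
  classical
  have : Finite (O Q) := finite_O
  have := Fintype.ofFinite (eichGroup Q ⧸ H)
  by_contra hlt
  apply hH
  rw [eq_top_iff]
  intro g _
  have := smul_eq_of_card_lt (Ω := eichGroup Q ⧸ H) D
    (by rw [← Nat.card_eq_fintype_card]; exact not_le.1 hlt) g ((1 : eichGroup Q) : eichGroup Q ⧸ H)
  rwa [← MulAction.mem_stabilizer_iff, MulAction.stabilizer_quotient] at this

end Cfsg.Agent.H33.OD
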