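import Cfsg.Agent.H33.OrthDeg6
import Cfsg.Agent.H30.OrthBridge

/-! Minimal degrees of orthogonal groups: the numerical part. -/

set_option autoImplicit false
set_option linter.unusedSectionVars false

namespace Cfsg.Agent.H33

theorem index_eq_card_range {G β : Type*} [Group G] (H : Subgroup G) (φ : G → β)
    (h : ∀ g g', φ g = φ g' ↔ g⁻¹ * g' ∈ H) : H.index = Nat.card (Set.range φ) := by
  have : Setoid.ker φ = QuotientGroup.leftRel H := by
    ext g g'
    rw [Setoid.ker_def, QuotientGroup.leftRel_apply, h]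
  rw [← Nat.card_congr (Setoid.quotientKerEquivRange φ), this]
  rfl

/-- Transfer of a minimal index statement to a central quotient. -/
theorem min_index_quotient {G K : Type*} [Group G] [Group K] (Z : Subgroup G) [Z.Normal]
    (e : K ≃* G ⧸ Z) {N : ℕ} (h1 : ∀ H : Subgroup G, H ≠ ⊤ → N ≤ H.index)
    (h2 : ∃ H : Subgroup G, Z ≤ H ∧ H.index = N) :
    (∀ H : Subgroup K, H ≠ ⊤ → N ≤ H.index) ∧ ∃ H : Subgroup K, H.index = N := by
  let f : G →* K := (e.symm : G ⧸ Z →* K).comp (QuotientGroup.mk' Z)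
  have hf : Function.Surjective f := e.symm.surjective.comp (QuotientGroup.mk'_surjective Z)
  have hk : f.ker = Z := by
    rw [MonoidHom.ker_comp_of_injective _ _ e.symm.injective, QuotientGroup.ker_mk']
  constructor
  · intro H hH
    rw [← Subgroup.index_comap_of_surjective H hf]
    refine h1 _ fun h => hH ?_
    rw [← Subgroup.map_comap_eq_self_of_surjective hf H, h, Subgroup.map_top_of_surjective _ hf]
  · obtain ⟨H, hZ, hH⟩ := h2
    refine ⟨H.map f, ?_⟩
    rw [← hH, ← Subgroup.index_comap_of_surjective _ hf, Subgroup.comap_map_eq, hk,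
      sup_eq_left.2 hZ]

namespace OD

open Cfsg.Agent.H30 QuadraticMap Module Finset

variable {F V : Type*} [Field F] [Fintype F] [AddCommGroup V] [Module F V] [FiniteDimensional F V]
  [Fintype V] {Q : QuadraticForm F V}

local notation "q" => Fintype.card F

variable {x x' : V} {N0 ν : ℕ}

theorem card_nrm (W : Submodule F V) (c : F) [DecidablePred fun w => w ∈ W ∧ Q w = c] :
    (univ.filter (fun w => w ∈ W ∧ Q w = c)).card = nc (Q.restrict W) c := by
  rw [← Fintype.card_subtype, ← Nat.card_eq_fintype_card]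
  exact Nat.card_congr ⟨fun v => ⟨⟨v.1, v.2.1⟩, v.2.2⟩, fun v => ⟨v.1.1, v.1.2, v.2⟩,
    fun _ => rfl, fun _ => rfl⟩

theorem nc_le_card_cl {c : F} (hc : c ≠ 0) :
    nc (Q.restrict (hperp Q x x')) c ≤ (cl Q x x' c).card := by
  classical
  rw [← card_nrm]
  refine card_le_card fun w hw => ?_
  obtain ⟨h1, h2⟩ := (mem_filter.1 hw).2
  exact mem_cl.2 ⟨⟨h1, ne_zero_of_Q_ne_zero (h2 ▸ hc)⟩, 1, one_ne_zero, by simp [h2]⟩

theorem mul_nc_le_aux {c : F} (hc : c ≠ 0) {k : ℕ} [DecidableEq F]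
    (hk : ∀ a : F, (univ.filter (fun t => t * t = a)).card ≤ k) :
    (q - 1) * nc (Q.restrict (hperp Q x x')) c ≤ k * (cl Q x x' c).card := by
  classical
  rw [← card_nrm, ← card_univ, ← card_erase_of_mem (mem_univ (0 : F)), ← card_product]
  refine card_le_mul_card_image_of_maps_to (f := fun p : F × V => p.1 • p.2) ?_ k ?_
  · rintro ⟨t, w⟩ hp
    obtain ⟨h0, h1⟩ := mem_product.1 hp
    obtain ⟨h1, h2⟩ := (mem_filter.1 h1).2
    have ht : t ≠ 0 := ne_of_mem_erase h0
    refine mem_cl.2 ⟨⟨Submodule.smul_mem _ _ h1,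
      smul_ne_zero ht (ne_zero_of_Q_ne_zero (h2 ▸ hc))⟩, t⁻¹, inv_ne_zero ht, ?_⟩
    rw [Q_smul, h2]
    field_simp
  · intro b _
    refine le_trans (card_le_card_of_injOn (fun p => p.1) ?_ ?_) (hk (Q b * c⁻¹))
    · rintro ⟨t, w⟩ hp
      obtain ⟨hp', hb⟩ := mem_filter.1 hp
      obtain ⟨h0, h1⟩ := mem_product.1 hp'
      obtain ⟨h1, h2⟩ := (mem_filter.1 h1).2
      simp only [coe_filter, mem_univ, true_and, Set.mem_ofPred_eq]
      rw [← hb, Q_smul, h2]
      field_simp
    · rintro ⟨t, w⟩ hp ⟨t', w'⟩ hp' (rfl : t = t')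
      obtain ⟨hp, h1⟩ := mem_filter.1 hp
      obtain ⟨-, h2⟩ := mem_filter.1 hp'
      have ht : t ≠ 0 := ne_of_mem_erase (mem_product.1 hp).1
      exact Prod.ext rfl (smul_right_injective V ht (h1.trans h2.symm))

theorem mul_nc_le {c : F} (hc : c ≠ 0) :
    (q - 1) * nc (Q.restrict (hperp Q x x')) c ≤ 2 * (cl Q x x' c).card := by
  classical
  refine mul_nc_le_aux hc fun a => ?_
  by_cases h : ∃ s, s * s = a
  · obtain ⟨s, rfl⟩ := h
    refine le_trans (card_le_card (t := {s, -s}) fun t ht => ?_) card_le_two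
    simpa [mul_self_eq_mul_self_iff] using ht
  · rw [filter_eq_empty_iff.2 fun t _ ht => h ⟨t, ht⟩]
    simp

theorem mul_nc_le' (h2 : (2 : F) = 0) {c : F} (hc : c ≠ 0) :
    (q - 1) * nc (Q.restrict (hperp Q x x')) c ≤ 1 * (cl Q x x' c).card := by
  classical
  refine mul_nc_le_aux hc fun a => card_le_one.2 fun s hs t ht => ?_
  have h : s * s = t * t := (mem_filter.1 hs).2.trans (mem_filter.1 ht).2.symm
  rcases mul_self_eq_mul_self_iff.1 h with h | h
  · exact h
  · linear_combination h - t * h2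

theorem ringChar_mul_cl (hq : 4 ≤ q) {c : F} (hc : c ≠ 0) :
    (q ^ 2 + 2) * nc (Q.restrict (hperp Q x x')) c ≤
      (q - 1) * (ringChar F * (cl Q x x' c).card) := by
  have hp := CharP.char_is_prime F (ringChar F)
  have h1 := mul_nc_le (Q := Q) (x := x) (x' := x') hc
  by_cases h2 : (2 : F) = 0
  · have h3 := mul_nc_le' (Q := Q) (x := x) (x' := x') h2 hc
    have h4 := hp.two_le
    obtain ⟨k, hk⟩ : ∃ k, q = k + 4 := ⟨q - 4, by omega⟩
    rw [hk] at h3 ⊢
    simp only [show k + 4 - 1 = k + 3 by omega] at h3 ⊢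
    generalize nc (Q.restrict (hperp Q x x')) c = n at *
    generalize (cl Q x x' c).card = C at *
    calc ((k + 4) ^ 2 + 2) * n ≤ ((k + 3) * (2 * (k + 3))) * n :=
          Nat.mul_le_mul_right _ (by nlinarith)
      _ = (k + 3) * (2 * ((k + 3) * n)) := by ring
      _ ≤ _ := Nat.mul_le_mul_left _ (Nat.mul_le_mul h4 (by omega))
  have h3 : ringChar F ≠ 2 := fun h => h2 (by
    have := ringChar.Nat.cast_ringChar (R := F)
    rwa [h] at this)
  have h4 := hp.two_le
  have hodd := two_ne_zero_iff_odd_card.1 h2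
  have h5 : 2 * (q ^ 2 + 2) ≤ (q - 1) * (ringChar F * (q - 1)) := by
    by_cases h5 : q = 5
    · have h6 : ringChar F = 5 := by
        have h7 : ringChar F ∣ 5 := by
          rw [← h5, ← ringChar.spec]
          exact FiniteField.cast_card_eq_zero F
        exact (Nat.prime_dvd_prime_iff_eq hp Nat.prime_five).1 h7
      rw [h5, h6]
      norm_num
    · obtain ⟨j, hj⟩ := hodd
      obtain ⟨k, hk⟩ : ∃ k, q = k + 7 := ⟨q - 7, by omega⟩
      rw [hk, show k + 7 - 1 = k + 6 by omega]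
      calc 2 * ((k + 7) ^ 2 + 2) ≤ (k + 6) * (3 * (k + 6)) := by nlinarith
        _ ≤ _ := Nat.mul_le_mul_left _ (Nat.mul_le_mul_right _ (by omega))
  generalize nc (Q.restrict (hperp Q x x')) c = n at *
  generalize (cl Q x x' c).card = C at *
  apply Nat.le_of_mul_le_mul_left _ two_pos
  calc 2 * ((q ^ 2 + 2) * n) = 2 * (q ^ 2 + 2) * n := by ring
    _ ≤ (q - 1) * (ringChar F * (q - 1)) * n := Nat.mul_le_mul_right _ h5
    _ = (q - 1) * ringChar F * ((q - 1) * n) := by ring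
    _ ≤ (q - 1) * ringChar F * (2 * C) := Nat.mul_le_mul_left _ h1
    _ = _ := by ring

theorem data_of (nd : (polarBilin Q).Nondegenerate) (h7 : 7 ≤ finrank F V)
    (ts : ∀ M : Submodule F V, (∀ z ∈ M, Q z = 0) → finrank F M ≤ ν)
    (hν : ν + 4 ≤ finrank F V) (h8 : q = 2 → 8 ≤ finrank F V) (S n D : ℤ)
    (hD : (q : ℤ) ^ (finrank F V - 2) = D)
    (hS : ∀ x x', IsHyp Q x x' → (nc (Q.restrict (hperp Q x x')) 0 : ℤ) = S + 1)
    (hn : ∀ x x', IsHyp Q x x' → ∀ c, c ≠ 0 → n ≤ nc (Q.restrict (hperp Q x x')) c)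
    (h1 : ((q : ℤ) - 1) * N0 ≤ (q - 1) * (1 + D) + q * S)
    (h2 : (q : ℤ) = 2 → N0 ≤ D + 2 * n) (h2' : (3 : ℤ) ≤ q → 2 * N0 ≤ 2 * D + q * n)
    (h3 : N0 + 1 ≤ 2 * D) (h4a : (4 : ℤ) ≤ q → ((q : ℤ) - 1) * N0 ≤ (q ^ 2 + 2) * n)
    (h4b : (q : ℤ) = 3 → N0 ≤ 6 * n ∧ N0 ≤ 6 * S) (h4c : (q : ℤ) = 2 → 3 * N0 ≤ 16 * n)
    (h5 : N0 ≤ ((q : ℤ) ^ 2 + 1) * S)
    (h6 : finrank F V = ν + 4 → ∃ NT t : ℕ,
      ((q : ℤ) ^ (ν - 1) - 1) * NT = (q + 1) * S * q ^ (ν - 1) ∧
      ((q : ℤ) - 1) * (NT + t) = (q - 1) * (1 + D) + q * S ∧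
      (t : ℤ) * t < 4 * NT ∧ t ≤ n ∧ t ≤ S ∧ ((N0 : ℤ) ≤ NT ∨ ν = 3 ∨ (4 : ℤ) ≤ q)) :
    Data Q N0 ν := by
  have hq : 1 < q := Fintype.one_lt_card
  have hq' : (1 : ℤ) < q := by exact_mod_cast hq
  have hS' : ∀ x x', IsHyp Q x x' → ((cl Q x x' 0).card : ℤ) = S := fun x x' h => by
    have := hS x x' h
    rw [← card_cl_zero] at this
    push_cast at this
    omega
  have hn' : ∀ x x', IsHyp Q x x' → ∀ c, c ≠ 0 → n ≤ (cl Q x x' c).card := fun x x' h c hc =>
    (hn x x' h c hc).trans (Int.ofNat_le.2 (nc_le_card_cl hc))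
  refine ⟨nd, h7, ts, hν, h8, fun x x' h => ?_, fun x x' h c hc => ?_, ?_,
    fun hq4 x x' h c hc => ?_, fun hq3 x x' h c c' => ?_, fun hq2 x x' h => ?_,
    fun _ x x' h => ?_, fun hd x x' h => ?_⟩
  · zify [hq.le]
    rwa [hD, hS' x x' h]
  · have e1 := mul_nc_le (Q := Q) (x := x) (x' := x') hc
    have e2 := hn x x' h c hc
    have e3 := hn' x x' h c hc
    zify [hq.le] at e1 ⊢
    rw [hD]
    by_cases hq2 : (q : ℤ) = 2
    · have := h2 hq2
      rw [hq2]
      omega
    · have := h2' (by omega)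
      have e4 := mul_le_mul_of_nonneg_left this (show (0 : ℤ) ≤ q - 1 by omega)
      have e5 := mul_le_mul_of_nonneg_left e1 (show (0 : ℤ) ≤ q by omega)
      have e6 := mul_le_mul_of_nonneg_left e2
        (mul_nonneg (show (0 : ℤ) ≤ q by omega) (show (0 : ℤ) ≤ q - 1 by omega))
      nlinarith
  · zify
    rwa [hD]
  · have e1 := ringChar_mul_cl (Q := Q) (x := x) (x' := x') hq4 hc
    have e2 := hn x x' h c hc
    have e3 := h4a (by exact_mod_cast hq4)
    apply Nat.le_of_mul_le_mul_left _ (show 0 < q - 1 by omega)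
    zify [hq.le] at e1 ⊢
    exact e3.trans ((mul_le_mul_of_nonneg_left e2 (by positivity)).trans e1)
  · have e3 := h4b (by exact_mod_cast hq3)
    have e4 : ∀ c, (N0 : ℤ) ≤ 6 * (cl Q x x' c).card := fun c => by
      by_cases hc : c = 0
      · rw [hc, hS' x x' h]
        exact e3.2
      · have := hn' x x' h c hc
        omega
    have := e4 c
    have := e4 c'
    omega
  · have := h4c (by exact_mod_cast hq2)
    have := hn' x x' h 1 one_ne_zero
    omega
  · zify
    rwa [hS' x x' h]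
  · obtain ⟨NT, t, e1, e2, e3, e4, e5, e6⟩ := h6 hd
    refine ⟨NT, t, ?_, ?_, by exact_mod_cast e3, fun c => ?_, by exact_mod_cast e6⟩
    · zify [Nat.one_le_pow _ _ (show 0 < q by omega)]
      rwa [hS' x x' h]
    · zify [hq.le]
      rwa [hS' x x' h, hD]
    · by_cases hc : c = 0
      · have := hS' x x' h
        rw [hc]
        omega
      · have := hn' x x' h c hc
        omega

theorem two_mul_finrank_le (nd : (polarBilin Q).Nondegenerate) (M : Submodule F V)
    (hM : ∀ z ∈ M, Q z = 0) : 2 * finrank F M ≤ finrank F V := by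
  have h1 := Submodule.finrank_mono (le_perp_of_ts hM)
  have h2 := finrank_add_finrank_perp nd M
  omega

theorem exists_index (nd : (polarBilin Q).Nondegenerate) (h5 : 5 ≤ finrank F V) {c : F}
    (hc : c = 0 ∨ q ≤ 3) {n : ℕ} (hn : Nat.card {v : V // v ≠ 0 ∧ Q v = c} = (q - 1) * n)
    (hn0 : 0 < n) :
    ∃ H : Subgroup (eichGroup Q), Subgroup.center _ ≤ H ∧ H.index = n := by
  classical
  have hq : 1 < q := Fintype.one_lt_card
  obtain ⟨⟨x, hx0, hx⟩⟩ : Nonempty {v : V // v ≠ 0 ∧ Q v = c} :=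
    (Nat.card_pos_iff.1 (by rw [hn]; exact Nat.mul_pos (by omega) hn0)).1
  have hsq : ∀ t : F, t ≠ 0 → t * t * c = c := fun t ht => by
    rcases hc with hc | hc
    · rw [hc, mul_zero]
    · by_cases h3 : q = 3
      · rw [mul_self_of_three h3 ht, one_mul]
      · rw [isF2_iff_card.2 (by omega) t ht, one_mul, one_mul]
  let H : Subgroup (eichGroup Q) :=
    { carrier := {g | g • x ∈ F ∙ x}
      one_mem' := by simp
      mul_mem' := fun {a b} ha hb => by
        obtain ⟨t, ht⟩ := Submodule.mem_span_singleton.1 hb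
        change (a * b) • x ∈ F ∙ x
        rw [mul_smul, ← ht, gsmul_smul]
        exact Submodule.smul_mem _ _ ha
      inv_mem' := fun {a} ha => by
        obtain ⟨t, ht⟩ := Submodule.mem_span_singleton.1 ha
        have ht0 : t ≠ 0 := by
          rintro rfl
          exact gsmul_ne_zero a hx0 (by rw [← ht, zero_smul])
        refine Submodule.mem_span_singleton.2 ⟨t⁻¹, ?_⟩
        rw [eq_inv_smul_iff, gsmul_smul, ← ht, inv_smul_smul₀ ht0] }
  refine ⟨H, fun g hg => ?_, ?_⟩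
  · obtain ⟨e, f, h⟩ := exists_isHyp_of_three_le nd (by omega)
    change g.1.1 x ∈ F ∙ x
    rcases (mem_center_eichGroup_iff nd h (by omega) g).1 hg with h1 | h1 <;> rw [h1]
    · exact Submodule.mem_span_singleton_self x
    · exact neg_mem (Submodule.mem_span_singleton_self x)
  rw [index_eq_card_range H (fun g => F ∙ (g • x))]
  · rw [Nat.card_eq_fintype_card, Fintype.card_subtype,
      card_eq_mul_card_image_span _ (by simp) (fun v hv t ht => by
        simp only [mem_filter, mem_univ, true_and] at hv ⊢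
        exact ⟨smul_ne_zero ht hv.1, by rw [Q_smul, hv.2, hsq t ht]⟩)] at hn
    rw [← Nat.eq_of_mul_eq_mul_left (by omega) hn, ← Nat.card_eq_finsetCard]
    refine Nat.card_congr (Equiv.subtypeEquivRight fun W => ?_)
    simp only [Set.mem_range, mem_image, mem_filter, mem_univ, true_and]
    constructor
    · rintro ⟨g, rfl⟩
      exact ⟨_, ⟨gsmul_ne_zero g hx0, by rw [Q_gsmul, hx]⟩, rfl⟩
    · rintro ⟨y, ⟨hy0, hy⟩, rfl⟩
      obtain ⟨g, hg⟩ := exists_smul_eq_one nd h5 hx0 hy0 (by rw [hx, hy])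
      exact ⟨g, by rw [hg]⟩
  · intro g g'
    change _ ↔ (g⁻¹ * g') • x ∈ F ∙ x
    constructor
    · intro h
      obtain ⟨t, ht⟩ := Submodule.mem_span_singleton.1
        (h ▸ Submodule.mem_span_singleton_self (g' • x))
      rw [mul_smul, ← ht, gsmul_smul, inv_smul_smul]
      exact Submodule.smul_mem _ _ (Submodule.mem_span_singleton_self x)
    · intro h
      obtain ⟨t, ht⟩ := Submodule.mem_span_singleton.1 h
      have ht0 : t ≠ 0 := by
        rintro rfl
        exact gsmul_ne_zero _ hx0 (by rw [← ht, zero_smul])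
      rw [mul_smul, eq_inv_smul_iff, gsmul_smul] at ht
      rw [← ht, Submodule.span_singleton_smul_eq ht0.isUnit]

theorem nc_odd_ge (hQ : (polarBilin Q).Nondegenerate) {m : ℕ} (hV : finrank F V = 2 * m + 1)
    (c : F) : (q : ℤ) ^ (2 * m) - (q : ℤ) ^ m ≤ nc Q c := by
  induction m generalizing V with
  | zero => simp
  | succ m ih =>
    classical
    obtain ⟨e, f, h⟩ := exists_isHyp_of_three_le hQ (by omega)
    have hd : finrank F (hperp Q e f) = 2 * m + 1 := by have := h.finrank_hperp; omega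
    have h1 := ih (h.nondegOn_hperp hQ).restrict hd
    have h3 : 1 < q := Fintype.one_lt_card
    rw [h.nc_eq c, hd, Nat.card_eq_fintype_card]
    push_cast [Nat.cast_sub h3.le]
    have := mul_le_mul_of_nonneg_left h1 (Nat.cast_nonneg (α := ℤ) q)
    linear_combination this

theorem exists_nc_odd (hQ : (polarBilin Q).Nondegenerate) (hq : q = 3) {m : ℕ}
    (hV : finrank F V = 2 * m + 1) :
    ∃ c, c ≠ 0 ∧ (nc Q c : ℤ) = (q : ℤ) ^ (2 * m) - (q : ℤ) ^ m := by
  induction m generalizing V with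
  | zero =>
    have : Nontrivial V := Module.nontrivial_of_finrank_pos (R := F) (by omega)
    obtain ⟨y, hy0⟩ := exists_ne (0 : V)
    have hy : Q y ≠ 0 := fun h0 => hy0 (anisotropic_of_finrank_one hQ hV y h0)
    refine ⟨-Q y, neg_ne_zero.2 hy, ?_⟩
    have : IsEmpty {v : V // Q v = -Q y} := ⟨fun v => by
      obtain ⟨a, ha⟩ := (finrank_eq_one_iff_of_nonzero' y hy0).1 hV v.1
      have h1 := v.2
      rw [← ha, Q_smul] at h1
      by_cases ha0 : a = 0
      · exact hy (by rw [ha0] at h1; linear_combination h1)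
      · rw [mul_self_of_three hq ha0] at h1
        exact hy (by linear_combination Q y * three_eq_zero hq - h1)⟩
    simp [nc]
  | succ m ih =>
    classical
    obtain ⟨e, f, h⟩ := exists_isHyp_of_three_le hQ (by omega)
    have hd : finrank F (hperp Q e f) = 2 * m + 1 := by have := h.finrank_hperp; omega
    obtain ⟨c, hc, h1⟩ := ih (h.nondegOn_hperp hQ).restrict hd
    have h3 : 1 < q := Fintype.one_lt_card
    refine ⟨c, hc, ?_⟩
    rw [h.nc_eq c, hd, Nat.card_eq_fintype_card]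
    push_cast [Nat.cast_sub h3.le]
    rw [h1]
    ring

theorem card_ne_zero_and {c : F} (hc : c ≠ 0) : Nat.card {v : V // v ≠ 0 ∧ Q v = c} = nc Q c :=
  Nat.card_congr (Equiv.subtypeEquivRight fun _ =>
    ⟨fun h => h.2, fun h => ⟨ne_zero_of_Q_ne_zero (h ▸ hc), h⟩⟩)

end OD

end Cfsg.Agent.H33
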