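import Cfsg.Agent.H58.Q4K

/-! S3404, piece NO5: the blocks do not have five or eleven points. -/

set_option autoImplicit false

namespace Cfsg.Agent.H33.Q4No5

open Cfsg.Agent.H58.Q4 Subgroup Equiv Function
open scoped Pointwise

universe u

theorem no5 (sts : StsStmt.{u}) (blk : BlkStmt.{u}) (mq : MqStmt.{u}) : No5Stmt.{u} := by
  intro G Ω _ _ _ _ K P hE k hB Q hQ h4
  suffices h : Odd k → k % 3 ≠ 2 from ⟨fun e => h (e ▸ by decide) (e ▸ rfl),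
    fun e => h (e ▸ by decide) (e ▸ rfl)⟩
  intro hk
  obtain ⟨F, hF, cF⟩ := Set.exists_subset_card_eq (h4.trans hQ.big.le)
  obtain ⟨-, hBΔ, -, -, hfix, hw⟩ := mq G Ω K P hE k hB Q hQ F hF cF
  obtain ⟨w, hw, wQ, ww, -⟩ := hw ⊥ IsPGroup.of_bot bot_le bot_le
  have e1 := hfix w hw wQ
  obtain ⟨x, hx, xB⟩ : ∃ x ∈ Fx Ω Q, x ∉ Fx Ω (P F) := by
    by_contra! h
    have := Set.ncard_le_ncard h
    rw [hB F cF] at this
    exact absurd hQ.big (not_lt.2 this)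
  have fx : ∀ y ∈ Fx Ω Q, w • y = y → y ∈ Fx Ω (P F) := fun y hy e => e1 ▸ ⟨e, hy⟩
  have sq : ∀ y ∈ Fx Ω Q, w • w • y = y := fun y hy => by rw [← mul_smul]; exact hy _ ww
  have wx : w • x ≠ x := fun e => xB (fx x hx e)
  have wB : w • x ∉ Fx Ω (P F) := fun h => wx ((h w hw.2).symm.trans (sq x hx))
  have uq : ∀ D ∈ {D | ∃ F' : Set Ω, F'.ncard = 4 ∧ D = Fx Ω (P F')},
      ∀ D' ∈ {D | ∃ F' : Set Ω, F'.ncard = 4 ∧ D = Fx Ω (P F')}, 4 ≤ (D ∩ D').ncard → D = D' := by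
    rintro _ ⟨F1, c1, rfl⟩ _ ⟨F2, c2, rfl⟩ h
    obtain ⟨F3, h3, c3⟩ := Set.exists_subset_card_eq h
    rw [← ((blk G Ω K P hE F1 c1).2.2.2.2.2.2.2.2.2.1 F3 (h3.trans Set.inter_subset_left) c3).1,
      ((blk G Ω K P hE F2 c2).2.2.2.2.2.2.2.2.2.1 F3 (h3.trans Set.inter_subset_right) c3).1]
  rw [← hB F cF]
  refine (sts Ω (MulAction.toPerm w) _ (Fx Ω (P F)) x wx (sq x hx) (fun a ha => ha w hw.2) uq
    fun a ha b hb hab => ?_).2
  have c4 : ({a, b, x, w • x} : Set Ω).ncard = 4 := by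
    rw [Set.ncard_insert_of_notMem, Set.ncard_insert_of_notMem, Set.ncard_pair wx.symm]
    · rintro (rfl | rfl)
      exacts [xB hb, wB hb]
    · rintro (rfl | rfl | rfl)
      exacts [hab rfl, xB ha, wB ha]
  have hs : ({a, b, x, w • x} : Set Ω) ⊆ Fx Ω Q := by
    rintro _ (rfl | rfl | rfl | rfl)
    exacts [hBΔ ha, hBΔ hb, hx, smul_mem_Fx hw.1 hx]
  have hD := (mq G Ω K P hE k hB Q hQ _ hs c4).2.1
  obtain ⟨-, -, hsub, -, -, -, -, -, hcj, -⟩ := blk G Ω K P hE _ c4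
  have hst : w • ({a, b, x, w • x} : Set Ω) = {a, b, x, w • x} := smul_eq_of_mapsTo (by
    rintro _ (rfl | rfl | rfl | rfl)
    · exact .inl (ha w hw.2)
    · exact .inr (.inl (hb w hw.2))
    · exact .inr (.inr (.inr rfl))
    · exact .inr (.inr (.inl (sq x hx))))
  have hinv := (hcj w).1
  rw [hst] at hinv
  refine ⟨_, ⟨_, c4, rfl⟩, hsub (by simp), hsub (by simp), hsub (by simp),
    hsub (.inr (.inr (.inr rfl))), by rwa [hB _ c4], fun y hy => ⟨?_, sq y (hD hy), fx y (hD hy)⟩, ?_⟩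
  · rw [hinv]
    exact Set.smul_mem_smul_set hy
  · by_contra h
    exact xB (uq _ ⟨_, c4, rfl⟩ _ ⟨F, cF, rfl⟩ (by omega) ▸ hsub (by simp))

end Cfsg.Agent.H33.Q4No5
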