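import Cfsg.Agent.H46.J1Defs

/-!
# A standard subgroup of type `J₁`: the abelian group of order 64
-/

set_option autoImplicit false
open Subgroup

namespace Cfsg.Agent.H33.S94Jb0
open Cfsg.Agent.H46.S94

universe u

local notation "C[" A "]" => Subgroup.centralizer (SetLike.coe A)
local notation "N[" A "]" => Subgroup.normalizer (SetLike.coe A)

variable {G : Type u} [Group G]

/-- the situation inside `G` -/
structure Sit (V O : Subgroup G) (t s r : G) : Prop where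
  el : ∀ v ∈ V, v * v = 1
  cV : Nat.card V = 8
  tt : t * t = 1
  tV : t ∉ V
  Vt : ∀ v ∈ V, v * t = t * v
  sN : s ∈ N[V]
  so : orderOf s = 7
  fpf : ∀ v ∈ V, s * v = v * s → v = 1
  st : s * t = t * s
  rN : r ∈ N[V]
  rt : r * t = t * r
  rs : r * s * r⁻¹ ∈ zpowers s
  odd : Odd (Nat.card O)
  OV : ∀ o ∈ O, ∀ v ∈ V, o * v = v * o
  Ot : ∀ o ∈ O, o * t = t * o
  Os : ∀ o ∈ O, o * s = s * o
  Or : ∀ o ∈ O, o * r = r * o
  cen : ∀ c, c * t = t * c → (∀ v ∈ V, c * v = v * c) →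
    ∃ v ∈ V, ∃ o ∈ O, c = v * o ∨ c = v * t * o

theorem cj {a b : G} (h : a * b = b * a) : a * b * a⁻¹ = b := by rw [h, mul_inv_cancel_right]

theorem nrm {V : Subgroup G} {g v : G} (hg : g ∈ N[V]) (hv : v ∈ V) : g * v * g⁻¹ ∈ V :=
  (mem_normalizer_iff.1 hg v).1 hv

theorem nrm' {V : Subgroup G} {g v : G} (hg : g ∈ N[V]) (hv : v ∈ V) : g⁻¹ * v * g ∈ V := by
  simpa using nrm (inv_mem hg) hv

/-- the translations -/
def KK (V O : Subgroup G) (t : G) (tt : t * t = 1) : Subgroup G where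
  carrier := {k | (∀ v ∈ V, k * v = v * k) ∧ (∀ o ∈ O, k * o = o * k) ∧ k * t * k⁻¹ * t ∈ V}
  one_mem' := ⟨by simp, by simp, by simp [tt]⟩
  mul_mem' := by
    rintro k l ⟨a1, a2, a3⟩ ⟨b1, b2, b3⟩
    refine ⟨fun v hv => by rw [mul_assoc, b1 v hv, ← mul_assoc, a1 v hv, mul_assoc],
      fun v hv => by rw [mul_assoc, b2 v hv, ← mul_assoc, a2 v hv, mul_assoc], ?_⟩
    have e : k * l * t * (k * l)⁻¹ * t = k * (l * t * l⁻¹ * t) * k⁻¹ * (k * t * k⁻¹ * t) := by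
      calc _ = k * (l * t * l⁻¹ * (t * t)) * k⁻¹ * t := by rw [tt]; group
        _ = _ := by group
    rw [e, cj (a1 _ b3)]
    exact V.mul_mem b3 a3
  inv_mem' := by
    rintro k ⟨a1, a2, a3⟩
    refine ⟨fun v hv => (Commute.inv_left (a1 v hv)).eq,
      fun v hv => (Commute.inv_left (a2 v hv)).eq, ?_⟩
    have ti : t⁻¹ = t := inv_eq_of_mul_eq_one_right tt
    have e : k⁻¹ * t * k⁻¹⁻¹ * t = k⁻¹ * (k * t * k⁻¹ * t)⁻¹ * k⁻¹⁻¹ := by
      simp only [mul_inv_rev, ti, inv_inv, mul_assoc, inv_mul_cancel, mul_one]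
    rw [e, cj (Commute.inv_left (a1 _ (V.inv_mem a3))).eq]
    exact V.inv_mem a3

/-- the product of `V` and `O` -/
def VO (V O : Subgroup G) (h : ∀ o ∈ O, ∀ v ∈ V, o * v = v * o) : Subgroup G where
  carrier := {w | ∃ v ∈ V, ∃ o ∈ O, w = v * o}
  one_mem' := ⟨1, V.one_mem, 1, O.one_mem, by simp⟩
  mul_mem' := by
    rintro _ _ ⟨v, hv, o, ho, rfl⟩ ⟨v', hv', o', ho', rfl⟩
    refine ⟨v * v', V.mul_mem hv hv', o * o', O.mul_mem ho ho', ?_⟩
    rw [mul_assoc, ← mul_assoc o, h o ho v' hv']; group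
  inv_mem' := by
    rintro _ ⟨v, hv, o, ho, rfl⟩
    exact ⟨v⁻¹, V.inv_mem hv, o⁻¹, O.inv_mem ho, by
      rw [mul_inv_rev, h _ (O.inv_mem ho) _ (V.inv_mem hv)]⟩

namespace Sit
variable {V O : Subgroup G} {t s r : G} (h : Sit V O t s r)

/-- the translations -/
abbrev K : Subgroup G := KK V O t h.tt

/-- the centre -/
abbrev W : Subgroup G := VO V O h.OV

include h

theorem ti : t⁻¹ = t := inv_eq_of_mul_eq_one_right h.tt

theorem ab {v w : G} (hv : v ∈ V) (hw : w ∈ V) : v * w = w * v := by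
  have e := inv_eq_of_mul_eq_one_right (h.el _ (V.mul_mem hv hw))
  rw [mul_inv_rev, inv_eq_of_mul_eq_one_right (h.el v hv),
    inv_eq_of_mul_eq_one_right (h.el w hw)] at e
  exact e.symm

omit h in
theorem opow {o : G} (ho : o ∈ O) : o ^ Nat.card O = 1 :=
  congrArg Subtype.val (pow_card_eq_one' (x := (⟨o, ho⟩ : O)))

theorem ipow {e : G} (he : e * e = 1) : e ^ Nat.card O = e := by
  obtain ⟨k, hk⟩ := h.odd
  rw [hk, pow_succ, pow_mul, sq, he, one_pow, one_mul]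

theorem split {e o : G} (he : e * e = 1) (ho : o ∈ O) (c : e * o = o * e) :
    (e * o) ^ Nat.card O = e := by
  rw [(Commute.mul_pow c), opow ho, h.ipow he, mul_one]

theorem vt {v : G} (hv : v ∈ V) : v * t * (v * t) = 1 := by
  rw [mul_assoc, ← mul_assoc t, ← h.Vt v hv, mul_assoc, h.tt, mul_one, h.el v hv]

theorem vto {v o : G} (hv : v ∈ V) (ho : o ∈ O) : v * t * o = o * (v * t) := by
  rw [mul_assoc, ← h.Ot o ho, ← mul_assoc, ← h.OV o ho v hv, mul_assoc]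

theorem vt1 {v : G} (hv : v ∈ V) : v * t ≠ 1 := fun e =>
  h.tV (by rw [eq_inv_of_mul_eq_one_right e]; exact V.inv_mem hv)

theorem WK {w k : G} (hw : w ∈ h.W) (hk : k ∈ h.K) : k * w = w * k := by
  obtain ⟨v, hv, o, ho, rfl⟩ := hw
  rw [← mul_assoc, hk.1 v hv, mul_assoc, hk.2.1 o ho, mul_assoc]

theorem VW {v : G} (hv : v ∈ V) : v ∈ h.W := ⟨v, hv, 1, O.one_mem, by simp⟩

theorem OW {o : G} (ho : o ∈ O) : o ∈ h.W := ⟨1, V.one_mem, o, ho, by simp⟩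

theorem Wt {w : G} (hw : w ∈ h.W) : w * t = t * w := by
  obtain ⟨v, hv, o, ho, rfl⟩ := hw
  rw [mul_assoc, h.Ot o ho, ← mul_assoc, h.Vt v hv, mul_assoc]

theorem VK {v : G} (hv : v ∈ V) : v ∈ h.K :=
  ⟨fun _ hw => h.ab hv hw, fun o ho => (h.OV o ho v hv).symm, by
    rw [cj (h.Vt v hv), h.tt]; exact V.one_mem⟩

theorem inV {w : G} (hw : w ∈ h.W) {n : ℕ} (e : w ^ 2 ^ n = 1) : w ∈ V := by
  obtain ⟨v, hv, o, ho, rfl⟩ := hw
  have e1 := h.split (h.el v hv) ho (h.OV o ho v hv).symm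
  have c : (orderOf (v * o)).Coprime (Nat.card O) :=
    Nat.Coprime.coprime_dvd_left (orderOf_dvd_of_pow_eq_one e)
      ((Nat.coprime_two_left.2 h.odd).pow_left n)
  obtain ⟨m, hm⟩ := exists_pow_eq_self_of_coprime c.symm
  rw [← hm, e1]
  exact V.pow_mem hv m

theorem tau_mul {k l : G} (hk : k ∈ h.K) (hl : l ∈ h.K) :
    k * l * t * (k * l)⁻¹ * t = k * t * k⁻¹ * t * (l * t * l⁻¹ * t) := by
  have e : k * l * t * (k * l)⁻¹ * t = k * (l * t * l⁻¹ * t) * k⁻¹ * (k * t * k⁻¹ * t) := by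
    calc _ = k * (l * t * l⁻¹ * (t * t)) * k⁻¹ * t := by rw [h.tt]; group
      _ = _ := by group
  rw [e, cj (hk.1 _ hl.2.2), h.ab hl.2.2 hk.2.2]

theorem tau_one {k : G} : k * t * k⁻¹ * t = 1 ↔ k * t = t * k := by
  rw [mul_eq_one_iff_eq_inv, h.ti, mul_inv_eq_iff_eq_mul]

omit h in
theorem tau_cj {g : G} (e : g * t = t * g) (k : G) :
    g * k * g⁻¹ * t * (g * k * g⁻¹)⁻¹ * t = g * (k * t * k⁻¹ * t) * g⁻¹ := by
  have e1 : g⁻¹ * t * g = t := by rw [mul_assoc, ← e, inv_mul_cancel_left]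
  calc _ = g * (k * (g⁻¹ * t * g) * k⁻¹ * (g⁻¹ * t * g)) * g⁻¹ := by group
    _ = _ := by rw [e1]

theorem cjK {g k : G} (g1 : g ∈ N[V]) (g2 : g * t = t * g) (g3 : ∀ o ∈ O, o * g = g * o)
    (hk : k ∈ h.K) : g * k * g⁻¹ ∈ h.K := by
  refine ⟨fun v hv => ?_, fun o ho => ?_, ?_⟩
  · calc _ = g * (k * (g⁻¹ * v * g)) * g⁻¹ := by group
      _ = _ := by rw [hk.1 _ (nrm' g1 hv)]; group
  · have c1 : Commute g o := (g3 o ho).symm
    have c2 : Commute k o := hk.2.1 o ho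
    exact ((c1.mul_left c2).mul_left c1.inv_left).eq
  · rw [tau_cj g2]; exact nrm g1 hk.2.2

theorem cjW {g w : G} (g1 : g ∈ N[V]) (g3 : ∀ o ∈ O, o * g = g * o) (hw : w ∈ h.W) :
    g * w * g⁻¹ ∈ h.W := by
  obtain ⟨v, hv, o, ho, rfl⟩ := hw
  refine ⟨_, nrm g1 hv, o, ho, ?_⟩
  calc _ = g * v * g⁻¹ * (g * o * g⁻¹) := by group
    _ = _ := by rw [cj (g3 o ho).symm]

theorem sqW {k : G} (hk : k ∈ h.K) : k * k ∈ h.W := by
  have hkk := h.K.mul_mem hk hk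
  obtain ⟨v, hv, o, ho, e | e⟩ :=
    h.cen (k * k) (h.tau_one.1 (by rw [h.tau_mul hk hk]; exact h.el _ hk.2.2)) hkk.1
  · exact ⟨v, hv, o, ho, e⟩
  exfalso
  have c : Commute k t := by
    have c1 : Commute k v := hk.1 v hv
    have c2 : Commute k o := hk.2.1 o ho
    have c3 : Commute k (k * k) := (Commute.refl k).mul_right (Commute.refl k)
    have := (c1.inv_right.mul_right c3).mul_right c2.inv_right
    rwa [e, show v⁻¹ * (v * t * o) * o⁻¹ = t by group] at this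
  have e1 := h.split (h.vt hv) ho (h.vto hv ho)
  refine h.vt1 hv ?_
  rw [← e1, ← e, ← sq, ← pow_mul, mul_comm, pow_mul, sq]
  obtain ⟨v', hv', o', ho', e' | e'⟩ := h.cen k c hk.1
  · rw [e', h.split (h.el _ hv') ho' (h.OV _ ho' _ hv').symm, h.el _ hv']
  · rw [e', h.split (h.vt hv') ho' (h.vto hv' ho'), h.vt hv']

theorem cmW {a b : G} (ha : a ∈ h.K) (hb : b ∈ h.K) : a * b * a⁻¹ * b⁻¹ ∈ h.W := by
  have e : a * b * a⁻¹ * b⁻¹ = a * b * (a * b) * (a * a)⁻¹ * (b * b)⁻¹ := by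
    calc _ = a * b * (a * b) * (b⁻¹ * (a * a)⁻¹) * b⁻¹ := by group
      _ = _ := by rw [h.WK (h.W.inv_mem (h.sqW ha)) (h.K.inv_mem hb)]; group
  rw [e]
  exact h.W.mul_mem (h.W.mul_mem (h.sqW (h.K.mul_mem ha hb)) (h.W.inv_mem (h.sqW ha)))
    (h.W.inv_mem (h.sqW hb))

theorem cm_mul {a b c : G} (ha : a ∈ h.K) (hb : b ∈ h.K) (hc : c ∈ h.K) :
    a * b * c * (a * b)⁻¹ * c⁻¹ = a * c * a⁻¹ * c⁻¹ * (b * c * b⁻¹ * c⁻¹) := by
  have hw := h.cmW hb hc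
  calc _ = a * (b * c * b⁻¹ * c⁻¹) * a⁻¹ * (a * c * a⁻¹ * c⁻¹) := by group
    _ = _ := by
      rw [cj (h.WK hw ha), h.WK hw (h.K.mul_mem (h.K.mul_mem (h.K.mul_mem ha hc)
        (h.K.inv_mem ha)) (h.K.inv_mem hc))]

theorem cmV {a b : G} (ha : a ∈ h.K) (hb : b ∈ h.K) : a * b * a⁻¹ * b⁻¹ ∈ V := by
  refine h.inV (h.cmW ha hb) (n := 1) ?_
  rw [pow_one, sq, ← h.cm_mul ha ha hb, ← h.WK (h.sqW ha) hb]; group

theorem csK {y : G} (hy : y ∈ h.K) : y * s * y⁻¹ * s⁻¹ ∈ h.K := by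
  have := h.K.mul_mem hy (h.cjK h.sN h.st h.Os (h.K.inv_mem hy))
  rwa [← mul_assoc, ← mul_assoc] at this

omit h in
/-- `[K, s] W` -/
def B0 (h : Sit V O t s r) : Subgroup G where
  carrier := {x | x ∈ h.K ∧ ∃ y ∈ h.K, ∃ w ∈ h.W, x = y * s * y⁻¹ * s⁻¹ * w}
  one_mem' := ⟨h.K.one_mem, 1, h.K.one_mem, 1, h.W.one_mem, by simp⟩
  mul_mem' := by
    rintro x x' ⟨hx, y, hy, w, hw, e⟩ ⟨hx', y', hy', w', hw', e'⟩
    have c := h.csK hy
    have c' := h.csK hy'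
    have u := h.W.inv_mem (h.W.mul_mem (h.cmW hy c') (h.cmW c' c))
    refine ⟨h.K.mul_mem hx hx', y * y', h.K.mul_mem hy hy', _,
      h.W.mul_mem (h.W.mul_mem u hw) hw', ?_⟩
    rw [← mul_assoc, ← mul_assoc, h.WK u (h.csK (h.K.mul_mem hy hy')), e, e', ← mul_assoc,
      mul_assoc _ w, ← h.WK hw c']
    group
  inv_mem' := by
    rintro x ⟨hx, y, hy, w, hw, e⟩
    exact ⟨h.K.inv_mem hx, y, hy, _, h.W.mul_mem hw (h.W.inv_mem (h.sqW hx)), by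
      rw [← mul_assoc, ← e]; group⟩

theorem WB {w : G} (hk : w ∈ h.K) (hw : w ∈ h.W) : w ∈ h.B0 :=
  ⟨hk, 1, h.K.one_mem, w, hw, by simp⟩

theorem csB {y : G} (hy : y ∈ h.K) : y * s * y⁻¹ * s⁻¹ ∈ h.B0 :=
  ⟨h.csK hy, y, hy, 1, h.W.one_mem, by simp⟩

theorem tau_cs {y : G} (hy : y ∈ h.K) :
    y * s * y⁻¹ * s⁻¹ * t * (y * s * y⁻¹ * s⁻¹)⁻¹ * t =
      y * t * y⁻¹ * t * (s * (y * t * y⁻¹ * t) * s⁻¹) := by
  have e : y⁻¹ * t * y⁻¹⁻¹ * t = y * t * y⁻¹ * t := by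
    have e1 := h.tau_mul (h.K.inv_mem hy) hy
    rw [inv_mul_cancel, h.tau_one.2 (by simp), eq_comm, mul_eq_one_iff_eq_inv] at e1
    rw [e1, inv_eq_of_mul_eq_one_right (h.el _ hy.2.2)]
  rw [show y * s * y⁻¹ * s⁻¹ = y * (s * y⁻¹ * s⁻¹) by group,
    h.tau_mul hy (h.cjK h.sN h.st h.Os (h.K.inv_mem hy)), tau_cj h.st, e]

theorem fix {v : G} (hv : v ∈ V) (e : v * (s * v * s⁻¹) = 1) : v = 1 := by
  refine h.fpf v hv ?_
  rw [mul_eq_one_iff_eq_inv', inv_eq_of_mul_eq_one_right (h.el v hv)] at e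
  exact mul_inv_eq_iff_eq_mul.1 e

theorem kerB {x : G} (hx : x ∈ h.B0) (e : x * t = t * x) : x ∈ h.W := by
  obtain ⟨-, y, hy, w, hw, rfl⟩ := hx
  have c : y * s * y⁻¹ * s⁻¹ * t = t * (y * s * y⁻¹ * s⁻¹) := by
    rw [mul_assoc, h.Wt hw, ← mul_assoc, ← mul_assoc] at e
    exact mul_right_cancel e
  have e1 := h.tau_one.2 c
  rw [h.tau_cs hy] at e1
  refine h.W.mul_mem (h.VW ?_) hw
  have key : ∀ v ∈ V, ∀ g : G, g * s = s * g → v * g * s * (v * g)⁻¹ * s⁻¹ ∈ V := fun v hv g c => by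
    rw [show v * g * s * (v * g)⁻¹ * s⁻¹ = v * (g * s * g⁻¹ * v⁻¹ * s⁻¹) by group, cj c]
    exact V.mul_mem hv (nrm h.sN (V.inv_mem hv))
  obtain ⟨v, hv, o, ho, e' | e'⟩ := h.cen y (h.tau_one.1 (h.fix hy.2.2 e1)) hy.1
  · rw [e']; exact key v hv o (h.Os o ho)
  · rw [e', mul_assoc v]
    exact key v hv _ (by rw [mul_assoc, h.Os o ho, ← mul_assoc, ← h.st, mul_assoc])

theorem sB {x : G} (hx : x ∈ h.B0) : s * x * s⁻¹ ∈ h.B0 := by
  obtain ⟨hx, y, hy, w, hw, e⟩ := hx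
  exact ⟨h.cjK h.sN h.st h.Os hx, _, h.cjK h.sN h.st h.Os hy, _, h.cjW h.sN h.Os hw, by
    rw [e]; group⟩

theorem csB' {y : G} (hy : y ∈ h.K) (j : ℕ) : y * s ^ j * y⁻¹ * (s ^ j)⁻¹ ∈ h.B0 := by
  induction j with
  | zero => simp
  | succ j ih =>
    have := h.B0.mul_mem (h.csB hy) (h.sB ih)
    rwa [show y * s * y⁻¹ * s⁻¹ * (s * (y * s ^ j * y⁻¹ * (s ^ j)⁻¹) * s⁻¹) =
      y * s ^ (j + 1) * y⁻¹ * (s ^ (j + 1))⁻¹ by rw [pow_succ']; group] at this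

variable [Finite G]

theorem rB {x : G} (hx : x ∈ h.B0) : r * x * r⁻¹ ∈ h.B0 := by
  obtain ⟨hx, y, hy, w, hw, e⟩ := hx
  obtain ⟨j, hj⟩ := (mem_powers_iff_mem_zpowers.2 h.rs : r * s * r⁻¹ ∈ Submonoid.powers s)
  have hj' : s ^ j = r * s * r⁻¹ := hj
  have h1 := h.csB' (h.cjK h.rN h.rt h.Or hy) j
  have h2 : r * x * r⁻¹ = r * y * r⁻¹ * s ^ j * (r * y * r⁻¹)⁻¹ * (s ^ j)⁻¹ * (r * w * r⁻¹) := by
    rw [hj', e]; group
  have h3 : r * w * r⁻¹ ∈ h.K := by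
    have := h.K.mul_mem (h.K.inv_mem h1.1) (h.cjK h.rN h.rt h.Or hx)
    rwa [h2, inv_mul_cancel_left] at this
  rw [h2]
  exact h.B0.mul_mem h1 (h.WB h3 (h.cjW h.rN h.Or hw))

theorem surjB (hs : ∀ v ∈ V, ∃ k ∈ h.K, k * t * k⁻¹ * t = v) :
    ∀ v ∈ V, ∃ x ∈ h.B0, x * t * x⁻¹ * t = v := by
  let f : V → V := fun v => ⟨v * (s * v * s⁻¹), V.mul_mem v.2 (nrm h.sN v.2)⟩
  have hf : Function.Injective f := fun a b e => by
    have e1 : (a : G) * (s * a * s⁻¹) = b * (s * b * s⁻¹) := congrArg Subtype.val e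
    have e2 : (a : G) * b = 1 := h.fix (V.mul_mem a.2 b.2) (by
      calc _ = (a : G) * ((b : G) * (s * a * s⁻¹)) * (s * b * s⁻¹) := by group
        _ = a * (s * a * s⁻¹) * (b * (s * b * s⁻¹)) := by
          rw [h.ab b.2 (nrm h.sN a.2)]; group
        _ = 1 := by rw [e1]; exact h.el _ (V.mul_mem b.2 (nrm h.sN b.2)))
    exact Subtype.ext (by
      rw [eq_inv_of_mul_eq_one_left e2, inv_eq_of_mul_eq_one_right (h.el _ b.2)])
  intro v hv
  obtain ⟨a, ha⟩ := Finite.surjective_of_injective hf ⟨v, hv⟩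
  obtain ⟨k, hk, e⟩ := hs a a.2
  exact ⟨_, h.csB hk, by rw [h.tau_cs hk, e]; exact congrArg Subtype.val ha⟩

omit [Finite G] in
theorem dep {x x' y : G} (hx : x ∈ h.B0) (hx' : x' ∈ h.B0) (hy : y ∈ h.K)
    (e : x * t * x⁻¹ * t = x' * t * x'⁻¹ * t) :
    x * y * x⁻¹ * y⁻¹ = x' * y * x'⁻¹ * y⁻¹ := by
  have hw := h.kerB (h.B0.mul_mem (h.B0.inv_mem hx) hx') (by
    calc _ = x⁻¹ * (x' * t * x'⁻¹ * t) * t⁻¹ * x' := by group
      _ = _ := by rw [← e]; group)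
  calc _ = x * ((x⁻¹ * x') * y * (x⁻¹ * x')⁻¹) * x⁻¹ * y⁻¹ := by rw [cj (h.WK hw hy).symm]
    _ = _ := by group

theorem abB (hl : HLStmt.{u}) (hs : ∀ v ∈ V, ∃ k ∈ h.K, k * t * k⁻¹ * t = v) :
    ∀ a ∈ h.B0, ∀ b ∈ h.B0, a * b = b * a := by
  choose! x hx ex using h.surjB hs
  letI : CommGroup V :=
    { (inferInstance : Group V) with mul_comm := fun a b => Subtype.ext (h.ab a.2 b.2) }
  let α : MulAut V := V.normalizerMonoidHom ⟨s, h.sN⟩
  have hα : ∀ v : V, (α v : G) = s * v * s⁻¹ := fun v => rfl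
  have oα : orderOf α = 7 := by
    have h1 : orderOf α ∣ 7 := by
      rw [← h.so, ← Subgroup.orderOf_mk s h.sN]
      exact orderOf_map_dvd _ _
    refine ((Nat.dvd_prime (by norm_num)).1 h1).resolve_left fun e => ?_
    rw [orderOf_eq_one_iff] at e
    have : V = ⊥ := (eq_bot_iff_forall _).2 fun v hv => h.fpf v hv (by
      have := hα ⟨v, hv⟩
      rw [e] at this
      exact mul_inv_eq_iff_eq_mul.1 this.symm)
    have c := h.cV
    rw [this, card_bot] at c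
    omega
  have sw : ∀ {a b c : G}, a ∈ h.K → b ∈ h.B0 → c ∈ h.B0 → b * t * b⁻¹ * t = c * t * c⁻¹ * t →
      a * b * a⁻¹ * b⁻¹ = a * c * a⁻¹ * c⁻¹ := fun {a b c} ha hb hc e => by
    rw [← inv_inj]
    simpa [mul_assoc] using h.dep hb hc ha e
  have inv : ∀ {a b : G}, a ∈ h.K → b ∈ h.K → a * b * a⁻¹ * b⁻¹ = b * a * b⁻¹ * a⁻¹ :=
    fun {a b} ha hb => by
      rw [← inv_eq_of_mul_eq_one_right (h.el _ (h.cmV ha hb))]; group
  have m1 : ∀ a b c : V, x (a * b : V) * x c * (x (a * b : V))⁻¹ * (x c)⁻¹ =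
      x a * x c * (x a)⁻¹ * (x c)⁻¹ * (x b * x c * (x b)⁻¹ * (x c)⁻¹) := fun a b c => by
    rw [← h.cm_mul (hx _ a.2).1 (hx _ b.2).1 (hx _ c.2).1]
    exact h.dep (hx _ (a * b).2) (h.B0.mul_mem (hx _ a.2) (hx _ b.2)) (hx _ c.2).1 (by
      rw [h.tau_mul (hx _ a.2).1 (hx _ b.2).1, ex _ a.2, ex _ b.2, ex _ (a * b).2]; rfl)
  have key := hl V α (fun a b => ⟨x a * x b * (x a)⁻¹ * (x b)⁻¹, h.cmV (hx _ a.2).1 (hx _ b.2).1⟩)
    h.cV (fun v => Subtype.ext (h.el _ v.2)) oα (fun a b c => Subtype.ext (m1 a b c))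
    (fun a b c => Subtype.ext (by
      show _ = x a * x b * (x a)⁻¹ * (x b)⁻¹ * (x a * x c * (x a)⁻¹ * (x c)⁻¹)
      rw [inv (hx _ a.2).1 (hx _ b.2).1, inv (hx _ a.2).1 (hx _ c.2).1, ← m1]
      exact inv (hx _ a.2).1 (hx _ (b * c).2).1))
    (fun a => Subtype.ext (by simp)) (fun a b => Subtype.ext (by
      show x (α a) * x (α b) * (x (α a))⁻¹ * (x (α b))⁻¹ =
        s * (x a * x b * (x a)⁻¹ * (x b)⁻¹) * s⁻¹
      have e : ∀ a : V, x (α a) * t * (x (α a))⁻¹ * t =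
          s * x a * s⁻¹ * t * (s * x a * s⁻¹)⁻¹ * t := fun a => by
        rw [tau_cj h.st, ex _ a.2, ex _ (α a).2, hα]
      rw [h.dep (hx _ (α a).2) (h.sB (hx _ a.2)) (hx _ (α b).2).1 (e a),
        sw (h.sB (hx _ a.2)).1 (hx _ (α b).2) (h.sB (hx _ b.2)) (e b)]
      group))
  intro a ha b hb
  have e : x (a * t * a⁻¹ * t) * x (b * t * b⁻¹ * t) * (x (a * t * a⁻¹ * t))⁻¹ *
      (x (b * t * b⁻¹ * t))⁻¹ = 1 :=
    congrArg Subtype.val (key ⟨_, ha.1.2.2⟩ ⟨_, hb.1.2.2⟩)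
  rw [h.dep (hx _ ha.1.2.2) ha (hx _ hb.1.2.2).1 (ex _ ha.1.2.2),
    sw ha.1 (hx _ hb.1.2.2) hb (ex _ hb.1.2.2)] at e
  rwa [mul_inv_eq_one, mul_inv_eq_iff_eq_mul] at e

theorem main (hl : HLStmt.{u}) (hs : ∀ v ∈ V, ∃ k ∈ h.K, k * t * k⁻¹ * t = v) :
    ∃ B, TF t s r O V B ∧ Nat.card B = 64 := by
  have hab := h.abB hl hs
  let B : Subgroup G :=
    { carrier := {x | x ∈ h.B0 ∧ x ^ 2 ^ 2 = 1}
      one_mem' := ⟨h.B0.one_mem, one_pow _⟩
      mul_mem' := fun {a b} ha hb => ⟨h.B0.mul_mem ha.1 hb.1, by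
        rw [Commute.mul_pow (hab a ha.1 b hb.1), ha.2, hb.2, one_mul]⟩
      inv_mem' := fun {a} ha => ⟨h.B0.inv_mem ha.1, by rw [inv_pow, ha.2, inv_one]⟩ }
  have VB : V ≤ B := fun v hv => ⟨h.WB (h.VK hv) (h.VW hv), by
    rw [sq, pow_mul, sq v, h.el v hv, one_pow]⟩
  have cp : ∀ g x : G, x ^ 2 ^ 2 = 1 → (g * x * g⁻¹) ^ 2 ^ 2 = 1 := fun g x e => by
    rw [conj_pow, e]; simp
  refine ⟨B, ⟨fun a ha b hb => hab a ha.1 b hb.1, fun x => ⟨2, Subtype.ext x.2.2⟩, VB,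
    fun x hx => mem_centralizer_iff.2 fun o ho => (hx.1.1.2.1 o ho).symm,
    mem_normalizer_fintype fun x hx => ?_,
    mem_normalizer_fintype fun x hx => ⟨h.sB hx.1, cp _ _ hx.2⟩,
    mem_normalizer_fintype fun x hx => ⟨h.rB hx.1, cp _ _ hx.2⟩,
    fun ht => h.tV (h.inV (h.kerB ht.1 rfl) ht.2)⟩, ?_⟩
  · have := B.mul_mem (B.inv_mem (VB hx.1.1.2.2)) hx
    rw [show (x * t * x⁻¹ * t)⁻¹ * x = t⁻¹ * x * t⁻¹ by group, h.ti] at this
    rwa [h.ti]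
  let f : B →* V :=
    { toFun := fun x => ⟨x * t * (x : G)⁻¹ * t, x.2.1.1.2.2⟩
      map_one' := Subtype.ext (by simpa using h.tt)
      map_mul' := fun a b => Subtype.ext (h.tau_mul a.2.1.1 b.2.1.1) }
  have h1 : f.range = ⊤ := MonoidHom.range_eq_top.2 fun v => by
    obtain ⟨x, hx, e⟩ := h.surjB hs v v.2
    obtain ⟨w, hw, o, ho, e'⟩ := h.sqW hx.1
    have hp : ∀ n : ℕ, x ^ n * t * (x ^ n)⁻¹ * t = (v : G) ^ n := fun n => by
      induction n with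
      | zero => simpa using h.tt
      | succ n ih => rw [pow_succ, h.tau_mul (h.K.pow_mem hx.1 n) hx.1, ih, e, pow_succ]
    refine ⟨⟨x ^ Nat.card O, h.B0.pow_mem hx _, ?_⟩,
      Subtype.ext ((hp _).trans (h.ipow (h.el _ v.2)))⟩
    rw [← pow_mul, sq, mul_comm, mul_assoc, pow_mul, sq x, mul_comm, pow_mul, e',
      h.split (h.el w hw) ho (h.OV o ho w hw).symm, sq, h.el w hw]
  have h2 : f.ker = V.subgroupOf B := by
    ext x
    rw [MonoidHom.mem_ker, mem_subgroupOf, Subtype.ext_iff]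
    exact ⟨fun e => h.inV (h.kerB x.2.1 (h.tau_one.1 e)) x.2.2,
      fun hx => h.tau_one.2 (h.Vt _ hx)⟩
  have h3 := f.ker.card_mul_index
  rw [index_ker, h1, card_top, h2, Nat.card_congr (subgroupOfEquivOfLe VB).toEquiv, h.cV] at h3
  omega

omit [Finite G] in
theorem start {n : G} (n1 : ∀ v ∈ V, n * v = v * n) (n2 : n * t * n⁻¹ * t ∈ V)
    (n3 : n * t ≠ t * n) : ∃ k ∈ h.K, k * t ≠ t * k := by
  have nO : ∀ o ∈ O, n⁻¹ * o * n ∈ O := fun o ho => by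
    have c1 : ∀ v ∈ V, Commute (n⁻¹ * o * n) v := fun v hv =>
      ((Commute.inv_left (n1 v hv)).mul_left (h.OV o ho v hv)).mul_left (n1 v hv)
    have c2 : Commute o (n * t * n⁻¹) := by
      have := (Commute.mul_right (h.OV o ho _ n2) (h.Ot o ho))
      rwa [mul_assoc, h.tt, mul_one] at this
    have e : (n⁻¹ * o * n) ^ Nat.card O = 1 := by
      have := conj_pow (a := n⁻¹) (b := o) (i := Nat.card O)
      rw [inv_inv, opow ho] at this
      simpa using this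
    obtain ⟨v, hv, o', ho', e' | e'⟩ := h.cen (n⁻¹ * o * n) (by
      calc _ = n⁻¹ * (o * (n * t * n⁻¹)) * n := by group
        _ = _ := by rw [c2.eq]; group) fun v hv => (c1 v hv).eq
    · rw [e', h.split (h.el _ hv) ho' (h.OV _ ho' _ hv).symm] at e
      rw [e', e, one_mul]; exact ho'
    · rw [e', h.split (h.vt hv) ho' (h.vto hv ho')] at e
      exact (h.vt1 hv e).elim
  have e : n * s * n⁻¹ * s⁻¹ * t * (n * s * n⁻¹ * s⁻¹)⁻¹ * t =
      n * t * n⁻¹ * t * (s * (n * t * n⁻¹ * t) * s⁻¹) := by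
    generalize hv : n * t * n⁻¹ * t = v at n2
    have e1 : n * t * n⁻¹ = v * t := by rw [← hv, mul_assoc _ t t, h.tt, mul_one]
    have e2 : n⁻¹ * t * n = v * t := by
      calc _ = n⁻¹ * (v * (v * t)) * n := by rw [← mul_assoc v, h.el v n2, one_mul]
        _ = n⁻¹ * v * n * t := by rw [← e1]; group
        _ = _ := by rw [mul_assoc n⁻¹, ← n1 v n2, inv_mul_cancel_left]
    have e3 : s⁻¹ * t * s = t := by rw [mul_assoc, ← h.st, inv_mul_cancel_left]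
    have e4 := nrm h.sN n2
    calc _ = n * s * (n⁻¹ * (s⁻¹ * t * s) * n) * s⁻¹ * n⁻¹ * t := by group
      _ = n * (s * v * s⁻¹) * n⁻¹ * (n * (s * t * s⁻¹) * n⁻¹ * t) := by rw [e3, e2]; group
      _ = _ := by rw [cj (n1 _ e4), cj h.st, hv, h.ab e4 n2]
  refine ⟨n * s * n⁻¹ * s⁻¹, ⟨fun v hv => ?_, fun o ho => ?_, ?_⟩, fun c => n3 ?_⟩
  · have c1 : Commute n v := n1 v hv
    have c2 : Commute n⁻¹ (s⁻¹ * v * s) := Commute.inv_left (n1 _ (nrm' h.sN hv))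
    calc _ = n * s * (n⁻¹ * (s⁻¹ * v * s)) * s⁻¹ := by group
      _ = n * v * (s * n⁻¹ * s⁻¹) := by rw [c2.eq]; group
      _ = _ := by rw [c1.eq]; group
  · calc _ = n * (s * (n⁻¹ * (s⁻¹ * (o * s)) * n)) * n⁻¹ * s⁻¹ := by group
      _ = _ := by rw [h.Os o ho, inv_mul_cancel_left, ← h.Os _ (nO o ho)]; group
  · rw [e]; exact V.mul_mem n2 (nrm h.sN n2)
  · exact h.tau_one.1 (h.fix n2 (e ▸ h.tau_one.2 c))

end Sit

theorem jb0 (hl : HLStmt.{u}) : JB0Stmt.{u} := by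
  rintro Γ _ G _ _ φ F t O z σ ρ V L h ⟨n, n1, n2, n3⟩
  have j := h.jf
  have c := h.cx
  have nm : ∀ a ∈ N[V], φ a ∈ N[V.map φ] := fun a ha => V.le_normalizer_map φ ⟨a, ha, rfl⟩
  have fpf : ∀ v ∈ V, σ * v = v * σ → v = 1 := fun v hv e => by
    by_contra hne
    obtain ⟨i, hi⟩ := j.tr v hv hne
    have c1 : Commute σ z := by
      have c2 : Commute σ (σ ^ i) := Commute.self_pow _ _
      have := (c2.inv_right.mul_right e).mul_right c2
      rwa [← hi, show (σ ^ i)⁻¹ * (σ ^ i * z * (σ ^ i)⁻¹) * σ ^ i = z by group] at this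
    have : (V : Set Γ) ⊆ {1, z} := fun w hw => by
      by_cases h1 : w = 1
      · exact Or.inl h1
      obtain ⟨k, hk⟩ := j.tr w hw h1
      exact Or.inr (by rw [← hk]; exact cj (c1.pow_left k).eq)
    have h2 := (Set.ncard_le_ncard this).trans (Set.ncard_insert_le _ _)
    rw [Set.ncard_singleton, ← Nat.card_coe_set_eq, SetLike.coe_sort_coe, j.cV] at h2
    omega
  have S : Sit (V.map φ) O t (φ σ) (φ ρ) :=
    { el := by rintro _ ⟨v, hv, rfl⟩; rw [← map_mul, j.el v hv, map_one]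
      cV := by rw [card_map_of_injective c.inj, j.cV]
      tt := c.tt
      tV := fun ⟨a, _, e⟩ => c.tA j.base a e
      Vt := by rintro _ ⟨v, -, rfl⟩; exact c.AC v
      sN := nm _ j.sN
      so := by rw [orderOf_injective φ c.inj, j.so]
      fpf := by
        rintro _ ⟨v, hv, rfl⟩ e
        rw [fpf v hv (c.inj (by rw [map_mul, map_mul, e])), map_one]
      st := c.AC σ
      rN := nm _ j.rN
      rt := c.AC ρ
      rs := by
        obtain ⟨k, hk⟩ := mem_zpowers_iff.1 j.rs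
        exact mem_zpowers_iff.2 ⟨k, by rw [← map_zpow, hk, map_mul, map_mul, map_inv]⟩
      odd := c.odd
      OV := by rintro o ho _ ⟨v, -, rfl⟩; exact (c.oA ho v).symm
      Ot := c.Ot
      Os := fun o ho => (c.oA ho σ).symm
      Or := fun o ho => (c.oA ho ρ).symm
      cen := fun g g1 g2 => by
        obtain ⟨α, hα⟩ := c.aut g1
        obtain ⟨a, ha⟩ := j.inn α
        obtain ⟨o, ho, e⟩ := c.split' g1 hα ha
        refine ⟨φ a, ⟨a, j.CV (mem_centralizer_iff.2 fun v hv => ?_), rfl⟩, o, ho, e⟩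
        have e1 := hα v
        rw [cj (g2 _ ⟨v, hv, rfl⟩), ha, MulAut.conj_apply] at e1
        exact (mul_inv_eq_iff_eq_mul.1 (c.inj e1)).symm }
  have n4 : n * t * n⁻¹ * t ∈ V.map φ := by
    let E : Subgroup G :=
      { carrier := {x | x ∈ V.map φ ∨ x * t ∈ V.map φ}
        one_mem' := Or.inl (one_mem _)
        mul_mem' := by
          rintro a b (ha | ha) (hb | hb)
          · exact Or.inl (mul_mem ha hb)
          · exact Or.inr (by rw [mul_assoc]; exact mul_mem ha hb)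
          · exact Or.inr (by rw [mul_assoc, S.Vt b hb, ← mul_assoc]; exact mul_mem ha hb)
          · refine Or.inl ?_
            have := mul_mem ha hb
            rwa [mul_assoc, ← S.Vt _ hb, mul_assoc b, c.tt, mul_one] at this
        inv_mem' := by
          rintro a (ha | ha)
          · exact Or.inl (inv_mem ha)
          · refine Or.inr ?_
            have := inv_mem ha
            rwa [← cj (S.Vt _ this).symm, mul_inv_rev, mul_inv_cancel_left, S.ti] at this }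
    have hE : St1 (V.map φ) t ≤ E := sup_le (fun x hx => Or.inl hx)
      (zpowers_le.2 (Or.inr (by rw [c.tt]; exact one_mem _)))
    rcases hE (nrm n1 (mem_sup_right (mem_zpowers t))) with ⟨a, -, e⟩ | e
    · exact (h.nc a (isConj_iff.2 ⟨n, e.symm⟩)).elim
    · exact e
  obtain ⟨k, hk, k1⟩ := S.start (fun v hv => (mem_centralizer_iff.1 n2 v hv).symm) n4 n3
  refine S.main hl ?_
  rintro _ ⟨v, hv, rfl⟩
  by_cases v1 : v = 1
  · exact ⟨1, one_mem _, by simpa [v1] using c.tt⟩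
  obtain ⟨w, hw, ew⟩ := hk.2.2
  obtain ⟨i, hi⟩ := j.tr w hw fun e => k1 (S.tau_one.1 (by rw [← ew, e, map_one]))
  obtain ⟨i', hi'⟩ := j.tr v hv v1
  have g1 : σ ^ i' * (σ ^ i)⁻¹ ∈ N[V] := mul_mem (pow_mem j.sN _) (inv_mem (pow_mem j.sN _))
  refine ⟨_, S.cjK (nm _ g1) (c.AC _) (fun o ho => (c.oA ho _).symm) hk, ?_⟩
  rw [Sit.tau_cj (c.AC _), ← ew, ← map_inv, ← map_mul, ← map_mul, ← hi, ← hi']
  congr 1; group

end Cfsg.Agent.H33.S94Jb0
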