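import Cfsg.Agent.H46.J1Defs
import Cfsg.Agent.H40.F6Cz
import Cfsg.Agent.H89.Cj
import Cfsg.Agent.H85.ModMore
import Cfsg.Agent.H69.SlRed

/-! The piece `JZ2` of the project on standard subgroups of type `J₁`. -/

set_option autoImplicit false
open scoped Pointwise commutatorElement
open Subgroup

namespace Cfsg.Agent.H33.S94Jz2
open Cfsg.Agent.H46.S94 Cfsg.Agent.H40.F6

universe u

local notation "C[" A "]" => Subgroup.centralizer (SetLike.coe A)
local notation "N[" A "]" => Subgroup.normalizer (SetLike.coe A)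

section Gen
variable {G : Type u} [Group G] [Finite G]

theorem nz {g f : G} (h : g * f * g⁻¹ ∈ zpowers f) : g ∈ N[zpowers f] := by
  refine mem_normalizer_fintype fun n hn => ?_
  obtain ⟨k, rfl⟩ := hn
  simp only
  rw [← conj_zpow]
  exact zpow_mem h k

omit [Finite G] in
theorem nrm_mem {Y : Subgroup G} {g x : G} (hg : g ∈ N[Y]) (hx : x ∈ Y) : g * x * g⁻¹ ∈ Y :=
  (mem_normalizer_iff.1 hg x).1 hx

omit [Finite G] in
theorem ze {e v : G} (ee : e * e = 1) (hv : v ∈ zpowers e) : v = 1 ∨ v = e := by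
  obtain ⟨n, rfl⟩ := hv
  have e2 : e ^ (2 : ℤ) = 1 := by rw [zpow_two, ee]
  simp only
  rw [zpow_eq_zpow_emod n e2]
  rcases Int.emod_two_eq_zero_or_one n with h | h <;> simp [h]

/-- the theorem on isolated involutions in `X/⟨e⟩` for a square root of `e` -/
theorem zstar {X : Subgroup G} {e f : G} (ee : e * e = 1) (ff : f * f = e) (fX : f ∈ X)
    (Xe : ∀ x ∈ X, x * e = e * x) (fO : ∀ o ∈ Oc X, o * f = f * o)
    (H : ∀ c ∈ X, c * f * c⁻¹ ∈ N[zpowers f] → c ∈ N[zpowers f]) {c : G} (hc : c ∈ X) :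
    c ∈ N[zpowers f] := by
  have eX : e ∈ X := ff ▸ mul_mem fX fX
  have ZX : zpowers e ≤ X := (zpowers_le (G := G)).2 eX
  have cz : ∀ x ∈ X, ∀ v ∈ zpowers e, x * v = v * x := fun x hx v hv => by
    rcases ze ee hv with rfl | rfl
    · simp
    · exact Xe x hx
  haveI nZ : ((zpowers e).subgroupOf X).Normal := ⟨fun v hv g => by
    rw [mem_subgroupOf] at hv ⊢
    simp only [coe_mul, coe_inv]
    rw [cz g g.2 v hv, mul_inv_cancel_right]; exact hv⟩
  have pZ : IsPGroup 2 (zpowers e) :=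
    H10.isPGroup_zpowers_of_pow (k := 1) (by rw [pow_one, pow_two, ee])
  set p1 := QuotientGroup.mk' ((zpowers e).subgroupOf X) with hp1
  set π := (QuotientGroup.mk' (oddCore (X ⧸ (zpowers e).subgroupOf X))).comp p1 with hπ
  have sj : Function.Surjective π :=
    (QuotientGroup.mk'_surjective _).comp (QuotientGroup.mk'_surjective _)
  have ker : ∀ k : X, π k = 1 → ∃ v ∈ zpowers e, ∃ o ∈ Oc X, (k : G) = v * o := fun k hk =>
    split ZX pZ cz ((QuotientGroup.eq_one_iff _).1 hk)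
  have πe : π ⟨e, eX⟩ = 1 := by
    have : p1 ⟨e, eX⟩ = 1 := (QuotientGroup.eq_one_iff _).2 (mem_zpowers e)
    rw [hπ, MonoidHom.comp_apply, this, map_one]
  set F : X := ⟨f, fX⟩ with hF
  have FF : F * F = ⟨e, eX⟩ := Subtype.ext ff
  have ss : π F * π F = 1 := by rw [← map_mul, FF, πe]
  have f4 : f ^ 4 = 1 := by
    rw [show (4 : ℕ) = 2 * 2 from rfl, pow_mul, pow_two f, ff, pow_two, ee]
  have key : ∀ c : X, Commute (π c * π F * (π c)⁻¹) (π F) → (c : G) ∈ N[zpowers f] :=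
    fun c hc => by
    refine H c c.2 (nz ?_)
    have k1 : π (c * F * c⁻¹ * F * (c * F * c⁻¹)⁻¹ * F⁻¹) = 1 := by
      simp only [map_mul, map_inv]
      rw [hc.eq]
      group
    obtain ⟨v, hv, o, ho, e1⟩ := ker _ k1
    have e2 : (c : G) * f * (c : G)⁻¹ * f * ((c : G) * f * (c : G)⁻¹)⁻¹ = v * o * f :=
      mul_inv_eq_iff_eq_mul.1 e1
    have vv : v * v = 1 := by rcases ze ee hv with rfl | rfl <;> simp [ee]
    have c1 : Commute v o := (cz o (Oc_le X ho) v hv).symm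
    have c2 : Commute v f := (cz f fX v hv).symm
    have c3 : Commute o f := fO o ho
    have o4 : o ^ 4 = 1 := by
      have h1 : (v * o * f) ^ 4 = 1 := by rw [← e2, conj_pow, f4]; simp
      rw [(c2.mul_left c3).mul_pow, c1.mul_pow, f4, mul_one, show (4 : ℕ) = 2 * 2 from rfl,
        pow_mul v, pow_two v, vv, one_pow, one_mul] at h1
      exact h1
    have od : Odd (orderOf o) := (odd_Oc X).of_dvd_nat ((Oc X).orderOf_dvd_natCard ho)
    have o1 : o = 1 := by
      have h1 : orderOf o ∣ 2 ^ 2 := orderOf_dvd_of_pow_eq_one o4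
      exact orderOf_eq_one_iff.1
        (Nat.Coprime.eq_one_of_dvd ((Nat.coprime_two_right.2 od).pow_right 2) h1)
    rw [e2, o1, mul_one]
    refine mul_mem ?_ (mem_zpowers f)
    rcases ze ee hv with rfl | rfl
    · exact one_mem _
    · rw [← ff]; exact mul_mem (mem_zpowers f) (mem_zpowers f)
  have cen : ∀ g, π F * g = g * π F := by
    by_contra hz
    have s1 : π F ≠ 1 := fun e1 => hz fun g => by simp [e1]
    obtain ⟨g, g1, g2⟩ := H69.SlRed.iso (fun N hN hodd => le_bot_iff.1 (by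
        rw [← H52.pPrimeCore_quotient_pPrimeCore (p := 2)]
        exact H52.le_pPrimeCore (Nat.coprime_two_right.2 hodd)))
      (orderOf_eq_prime (by rw [pow_two, ss]) s1) hz
    obtain ⟨c, rfl⟩ := sj g
    obtain ⟨k, hk⟩ := nrm_mem (key c g1) (mem_zpowers f)
    have e1 : (c * F * c⁻¹ : X) = F ^ k := Subtype.ext (by simpa using hk.symm)
    have e2 : π c * π F * (π c)⁻¹ ∈ zpowers (π F) := by
      rw [← map_inv, ← map_mul, ← map_mul, e1, map_zpow]
      exact zpow_mem (mem_zpowers _) k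
    rcases ze ss e2 with h | h
    · exact s1 (conj_eq_one_iff.1 h)
    · exact g2 h
  exact key ⟨c, hc⟩ (cen _).symm

end Gen

section Main
variable {Γ : Type} [Group Γ] {G : Type u} [Group G] [Finite G] {φ : Γ →* G} {t : G}
  {O : Subgroup G} {z σ ρ : Γ} {V L : Subgroup Γ}

omit [Finite G] in
/-- odd subgroups normalised by `L`: the fixed points of `t` centralise `L` -/
theorem fix_t (jf : J1F z σ ρ V L) (cx : Cx φ t O) {y : Γ} (yL : y ∈ L) (yy : y * y = 1)
    (y1 : y ≠ 1) {Q : Subgroup G} (hQ : Odd (Nat.card Q)) (Qe : ∀ x ∈ Q, x * φ z = φ z * x)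
    (nQ : ∀ l ∈ L, φ l ∈ N[Q]) {x : G} (hx : x ∈ Q) (xt : x * t = t * x) :
    x * φ y = φ y * x := by
  obtain ⟨ι⟩ := jf.iso
  haveI : IsSimpleGroup L := ι.isSimpleGroup
  have nR : ((Q.comap φ).subgroupOf L).Normal := ⟨fun v hv g => by
    rw [mem_subgroupOf, mem_comap] at hv ⊢
    simp only [coe_mul, coe_inv, map_mul, map_inv]
    exact nrm_mem (nQ g g.2) hv⟩
  have odd : ∀ q ∈ Q, Odd (orderOf q) := fun q hq => hQ.of_dvd_nat (Q.orderOf_dvd_natCard hq)
  have R : ∀ l ∈ L, φ l ∈ Q → l = 1 := by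
    rcases nR.eq_bot_or_eq_top with h | h
    · intro l hl hq
      have : (⟨l, hl⟩ : L) ∈ (Q.comap φ).subgroupOf L := hq
      rw [h, mem_bot] at this
      exact congrArg Subtype.val this
    · have : (⟨y, yL⟩ : L) ∈ (Q.comap φ).subgroupOf L := by rw [h]; trivial
      have h1 := odd (φ y) this
      rw [orderOf_injective φ cx.inj, orderOf_eq_prime (p := 2) (by rw [pow_two, yy]) y1] at h1
      exact absurd h1 (by decide)
  obtain ⟨α, hα⟩ := cx.aut xt
  obtain ⟨a, ha⟩ := jf.inn α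
  have ae : a * z * a⁻¹ = z := by
    apply cx.inj
    rw [← MulAut.conj_apply, ← ha, hα, Qe x hx, mul_inv_cancel_right]
  have m0 : a * y * a⁻¹ ∈ L := by
    rcases jf.cz a (mem_Cz.2 (mul_inv_eq_iff_eq_mul.1 ae)) with h | h
    · exact mul_mem (mul_mem h yL) (inv_mem h)
    · have e : a * y * a⁻¹ = a * z * y * (a * z)⁻¹ := by
        rw [mul_assoc a z y, ← mem_Cz.1 (jf.Lz yL)]; group
      rw [e]
      exact mul_mem (mul_mem h yL) (inv_mem h)
  have m1 : a * y * a⁻¹ * y⁻¹ ∈ L := mul_mem m0 (inv_mem yL)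
  have e2 : φ (a * y * a⁻¹ * y⁻¹) = x * φ y * x⁻¹ * (φ y)⁻¹ := by
    rw [map_mul, ← MulAut.conj_apply, ← ha, hα, map_inv]
  have m2 : φ (a * y * a⁻¹ * y⁻¹) ∈ Q := by
    rw [e2, mul_assoc, mul_assoc, ← mul_assoc (φ y)]
    exact mul_mem hx (nrm_mem (nQ y yL) (inv_mem hx))
  rw [R _ m1 m2, map_one] at e2
  exact mul_inv_eq_iff_eq_mul.1 (mul_inv_eq_one.1 e2.symm)

end Main

theorem jz2 : JZ2Stmt.{u} := by
  intro Γ _ G _ _ φ F t ζ O T P M z σ ρ V L c2 TP LM os H c cF hc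
  have jf := c2.jf
  have cx := c2.cx
  haveI := c2.as.normal
  have zz : z * z = 1 := jf.el z jf.zV
  have zz' : φ z * φ z = 1 := by rw [← map_mul, zz, map_one]
  set X := F ⊓ centralizer ({φ z} : Set G) with hX
  have mX : ∀ {x}, x ∈ X ↔ x ∈ F ∧ x * φ z = φ z * x := by
    intro x
    rw [hX, mem_inf, mem_centralizer_singleton_iff]
  have MX : M ≤ X := fun m hm => by
    have h1 := mem_centralizer_singleton_iff.1 (os.le hm).2
    refine mX.2 ⟨(os.le hm).1, ?_⟩
    rw [← c2.ab.sq, ← mul_assoc, h1, mul_assoc, h1, mul_assoc]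
  have TM : T ≤ M := TP.trans os.PM
  have LX : ∀ l ∈ L, φ l ∈ X := fun l hl => MX (LM ⟨l, hl, rfl⟩)
  have tX : t ∈ N[X] := by
    refine mem_normalizer_fintype fun x hx => ?_
    obtain ⟨h1, h2⟩ := mX.1 hx
    refine mX.2 ⟨c2.as.normal.conj_mem x h1 t, ?_⟩
    have h3 := cx.AC z
    calc t * x * t⁻¹ * φ z = t * x * t⁻¹ * (φ z * t) * t⁻¹ := by group
      _ = t * (x * φ z) * t⁻¹ := by rw [h3]; group
      _ = φ z * (t * x * t⁻¹) := by rw [h2, ← mul_assoc, ← h3]; group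
  obtain ⟨y, ⟨yV, yL⟩, y1⟩ : ∃ y ∈ V ⊓ L, y ≠ 1 := by
    by_contra hn
    push Not at hn
    have h1 : (V ⊓ L : Subgroup Γ) = ⊥ := eq_bot_iff.2 fun y hy => hn y hy
    have h2 := jf.cU
    rw [h1, card_bot] at h2
    omega
  have yy : y * y = 1 := jf.el y yV
  have yy' : φ y * φ y = 1 := by rw [← map_mul, yy, map_one]
  have y1' : φ y ≠ 1 := fun h => y1 (cx.inj (by rw [h, map_one]))
  have yT : φ y ∈ T := c2.tf.VT ⟨y, yV, rfl⟩
  have ft : ∀ x ∈ Oc X, x * t = t * x → x * φ y = φ y * x := fun x hx xt =>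
    fix_t jf cx yL yy y1 (odd_Oc X) (fun x hx => (mX.1 (Oc_le X hx)).2)
      (fun l hl => le_norm_Oc X (LX l hl)) hx xt
  have yO : Oc X ≤ centralizer {φ y} := by
    refine H89.Rec.four_gen yy' cx.tt (cx.AC y) y1' cx.t1 (cx.tA jf.base y) (odd_Oc X)
      (le_norm_Oc X (LX y yL)) (norm_Oc X tX)
      (fun x _ h => mem_centralizer_singleton_iff.2 h)
      (fun x hx h => mem_centralizer_singleton_iff.2 (ft x hx h)) fun x hx h => ?_
    obtain ⟨p, hp, pp⟩ := c2.ls.sq _ ⟨y, yV, rfl⟩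
    have ep : p * t * p⁻¹ = φ y * t := by
      rw [← c2.ls.inv p hp, ← pp, ← mul_assoc, ← mul_assoc, mul_assoc p t t, cx.tt, mul_one]
    have pz : p * φ y = φ y * p := by rw [← pp, mul_assoc]
    have m : p⁻¹ * x * p⁻¹⁻¹ ∈ Oc X := nrm_mem (le_norm_Oc X (inv_mem (MX (TM hp)))) hx
    have k := ft _ m (by
      have h' : x * (p * t * p⁻¹) = p * t * p⁻¹ * x := by rw [ep]; exact h
      calc p⁻¹ * x * p⁻¹⁻¹ * t = p⁻¹ * (x * (p * t * p⁻¹)) * p := by group
        _ = t * (p⁻¹ * x * p⁻¹⁻¹) := by rw [h']; group)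
    refine mem_centralizer_singleton_iff.2 ?_
    calc x * φ y = p * (p⁻¹ * x * p⁻¹⁻¹ * φ y) * p⁻¹ := by
          rw [inv_inv, mul_assoc _ p, pz]; group
      _ = φ y * x := by rw [k, ← mul_assoc, pz]; group
  have MO : M ≤ C[Oc X] := by
    refine H85.qs_le_of_mem os.qs
      (MX.trans ((le_norm_Oc X).trans (H83.normalizer_le_normalizer_centralizer _))) (TM yT)
      (fun x hx => mem_centralizer_singleton_iff.1 (yO hx)) fun hz => ?_
    obtain ⟨ι⟩ := jf.iso
    have m : ι ⟨y, yL⟩ ∈ center (alternatingGroup (Fin 5)) := by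
      refine mem_center_iff.2 fun g => ?_
      obtain ⟨l, rfl⟩ := ι.surjective g
      rw [← map_mul, ← map_mul]
      congr 1
      refine Subtype.ext (cx.inj ?_)
      simp only [coe_mul, map_mul]
      exact hz _ (LM ⟨l, l.2, rfl⟩)
    rw [alternatingGroup.center_eq_bot (by simp), mem_bot, map_eq_one_iff _ ι.injective] at m
    exact y1 (congrArg Subtype.val m)
  have ζM : ζ ∈ M := TM c2.ab.mem
  exact zstar zz' c2.ab.sq (MX ζM) (fun x hx => (mX.1 hx).2) (fun o ho => MO ζM o ho)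
    (fun c hc => H c (mX.1 hc).1 (mX.1 hc).2) (mX.2 ⟨cF, hc⟩)

end Cfsg.Agent.H33.S94Jz2
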