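import Cfsg.Agent.H33.Set1

/-! Coordinates on the two factors; the action of the second singular point. -/

set_option autoImplicit false

namespace Cfsg.Agent.H33.St

open Cfsg Subgroup H23 H95.L3 H91.Pr
open Z9 (hq hs a0 b1 e3 lin G0 eq_hq hq_eq)

/-- normal forms of the `3`-elements -/
def nf : Fin 6 → Z9 := ![1, b1, e3, e3 * e3, e3 * Z9.x, e3 * e3 * Z9.x]

/-- equality modulo the centre -/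
def Same (g h : Z9) : Prop :=
  g.a = h.a ∧ g.b = h.b ∧ g.c = h.c ∧ g.d = h.d ∧ g.p = h.p ∧ g.q = h.q

instance (g h : Z9) : Decidable (Same g h) := by unfold Same; infer_instance

theorem nf_key : ∀ γ : Z9, γ.z = 0 → γ.det = 1 → lin γ ^ 3 = 1 →
    ∃ k ∈ [1, Z9.t, Z9.i, Z9.i⁻¹, Z9.j, Z9.j⁻¹, Z9.i * Z9.j, Z9.j * Z9.i], ∃ p q : ZMod 3, ∃ n : Fin 6,
      Same ((k * hs 0 p q)⁻¹ * γ * (k * hs 0 p q)) (nf n) ∧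
        k * hs 0 p q * a0 * (k * hs 0 p q)⁻¹ = a0 := by
  decide +kernel

/-- coordinates of a vector -/
abbrev T4 : Type := ZMod 3 × ZMod 3 × ZMod 3 × ZMod 3

/-- pairs of Heisenberg elements -/
abbrev Q2 : Type := Z9.Q × Z9.Q

def el (t : T4) : Q2 := (hq 0 t.1 t.2.1, hq 0 t.2.2.1 t.2.2.2)
def cA : Q2 := (hq 1 0 0, 1)
def cZ : Q2 := (hq 1 0 0, hq 1 0 0 ^ 2)
def cjq (γ : Z9 × Z9) (q : Q2) : Q2 := (MulAut.conjNormal γ.1 q.1, MulAut.conjNormal γ.2 q.2)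
def phi (γ : Z9 × Z9) (q : Q2) : Q2 := q * (cjq γ q)⁻¹
def Eqv (u v : Q2) : Prop := v = u ∨ v = u * cZ ∨ u = v * cZ
def InZ (u : Q2) : Prop := (u.1.1.p = 0 ∧ u.1.1.q = 0) ∧ u.2.1.p = 0 ∧ u.2.1.q = 0

instance (u v : Q2) : Decidable (Eqv u v) := by unfold Eqv; infer_instance
instance (u : Q2) : Decidable (InZ u) := by unfold InZ; infer_instance

/-- a product of two elements of the star group which is also a commutator with `y` -/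
def Hit (γ : Z9 × Z9) (u v : Q2) (c : ℕ × ℕ × T4) : Prop :=
  ¬ InZ (u ^ c.1 * v ^ c.2.1) ∧ Eqv (phi γ (el c.2.2)) (u ^ c.1 * v ^ c.2.1)

instance (γ : Z9 × Z9) (u v : Q2) (c : ℕ × ℕ × T4) : Decidable (Hit γ u v c) := by
  unfold Hit; infer_instance

/-- the certificates -/
def cert : Fin 6 → Fin 6 → T4 × T4 × List (ℕ × ℕ × T4) :=
  ![![((0, 0, 0, 0), (0, 0, 0, 0), []),
    ((0, 0, 0, 0), (0, 0, 0, 0), []),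
    ((0, 1, 0, 0), (2, 0, 0, 0), []),
    ((0, 1, 0, 0), (2, 0, 0, 0), []),
    ((0, 1, 0, 0), (2, 0, 0, 0), []),
    ((0, 1, 0, 0), (2, 0, 0, 0), [])],
   ![((0, 0, 0, 0), (0, 0, 0, 0), []),
    ((0, 0, 0, 0), (0, 0, 0, 0), []),
    ((0, 0, 0, 0), (0, 0, 1, 0), [(0, 1, (0, 2, 0, 2)), (0, 1, (0, 1, 0, 2)), (0, 1, (0, 0, 0, 2))]),
    ((0, 0, 0, 0), (0, 0, 1, 0), [(0, 1, (0, 1, 0, 1)), (0, 1, (0, 0, 0, 1)), (0, 1, (0, 2, 0, 1))]),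
    ((0, 1, 1, 0), (2, 0, 0, 0), []),
    ((0, 1, 1, 0), (2, 0, 0, 0), [])],
   ![((0, 0, 0, 1), (0, 0, 2, 0), []),
    ((0, 0, 0, 0), (1, 0, 0, 0), [(0, 1, (0, 2, 0, 2)), (0, 1, (0, 2, 0, 1)), (0, 1, (0, 2, 0, 0))]),
    ((0, 0, 0, 0), (0, 0, 0, 0), []),
    ((0, 0, 1, 0), (1, 0, 0, 0), [(1, 1, (0, 2, 0, 1)), (0, 2, (0, 1, 0, 0)), (0, 1, (0, 2, 0, 0)), (1, 0, (0, 0, 0, 1)), (2, 0, (0, 0, 0, 2))]),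
    ((0, 0, 0, 0), (1, 0, 0, 0), [(0, 1, (0, 2, 1, 0)), (0, 1, (0, 2, 2, 0)), (0, 1, (0, 2, 0, 0))]),
    ((0, 0, 0, 0), (1, 0, 0, 0), [(0, 1, (0, 2, 1, 0)), (0, 1, (0, 2, 2, 0)), (0, 1, (0, 2, 0, 0))])],
   ![((0, 0, 0, 1), (0, 0, 2, 0), []),
    ((0, 0, 0, 0), (1, 0, 0, 0), [(0, 1, (0, 1, 0, 1)), (0, 1, (0, 1, 0, 0)), (0, 1, (0, 1, 0, 2))]),
    ((0, 0, 1, 0), (1, 0, 0, 0), [(1, 1, (0, 1, 0, 2)), (0, 1, (0, 1, 0, 0)), (0, 2, (0, 2, 0, 0)), (2, 0, (0, 0, 0, 1)), (1, 0, (0, 0, 0, 2))]),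
    ((0, 0, 0, 0), (0, 0, 0, 0), []),
    ((0, 0, 0, 0), (1, 0, 0, 0), [(0, 1, (0, 1, 2, 0)), (0, 1, (0, 1, 0, 0)), (0, 1, (0, 1, 1, 0))]),
    ((0, 0, 0, 0), (1, 0, 0, 0), [(0, 1, (0, 1, 2, 0)), (0, 1, (0, 1, 0, 0)), (0, 1, (0, 1, 1, 0))])],
   ![((0, 0, 0, 1), (0, 0, 2, 0), []),
    ((0, 0, 1, 0), (1, 0, 0, 1), []),
    ((0, 0, 0, 0), (0, 0, 1, 0), [(0, 1, (1, 0, 0, 2)), (0, 1, (2, 0, 0, 2)), (0, 1, (0, 0, 0, 2))]),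
    ((0, 0, 0, 0), (0, 0, 1, 0), [(0, 1, (2, 0, 0, 1)), (0, 1, (0, 0, 0, 1)), (0, 1, (1, 0, 0, 1))]),
    ((0, 0, 0, 0), (1, 0, 2, 0), [(0, 1, (0, 2, 2, 1)), (0, 1, (0, 2, 0, 1)), (0, 1, (0, 2, 1, 1))]),
    ((0, 0, 0, 0), (1, 0, 2, 0), [(0, 1, (0, 2, 0, 2)), (0, 1, (0, 2, 1, 2)), (0, 1, (0, 2, 2, 2))])],
   ![((0, 0, 0, 1), (0, 0, 2, 0), []),
    ((0, 0, 1, 0), (1, 0, 0, 1), []),
    ((0, 0, 0, 0), (0, 0, 1, 0), [(0, 1, (1, 0, 0, 2)), (0, 1, (2, 0, 0, 2)), (0, 1, (0, 0, 0, 2))]),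
    ((0, 0, 0, 0), (0, 0, 1, 0), [(0, 1, (2, 0, 0, 1)), (0, 1, (0, 0, 0, 1)), (0, 1, (1, 0, 0, 1))]),
    ((0, 0, 0, 0), (1, 0, 2, 0), [(0, 1, (0, 1, 0, 1)), (0, 1, (0, 1, 1, 1)), (0, 1, (0, 1, 2, 1))]),
    ((0, 0, 0, 0), (1, 0, 2, 0), [(0, 1, (0, 1, 1, 2)), (0, 1, (0, 1, 2, 2)), (0, 1, (0, 1, 0, 2))])]]

theorem cert_ok : ∀ m n : Fin 6, (nf m ∈ Z9.Q ∧ nf n ∈ Z9.Q) ∨ (m = 2 ∧ n = 2) ∨ (m = 3 ∧ n = 3) ∨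
    Eqv (cjq (nf m, nf n) (el (cert m n).1)) (el (cert m n).1) ∧
    Eqv (cjq (nf m, nf n) (el (cert m n).2.1)) (el (cert m n).2.1) ∧
    (Eqv (el (cert m n).1 * el (cert m n).2.1) (el (cert m n).2.1 * el (cert m n).1 * cA) ∨
      ∀ e f : Fin 3, ∃ c ∈ (cert m n).2.2,
        Hit (nf m, nf n) (el (cert m n).1 * cA ^ e.1) (el (cert m n).2.1 * cA ^ f.1) c) := by
  decide +kernel

theorem cert_ee : ∀ e f : Fin 3, (e = 0 ∧ f = 0) ∨ ∃ c ∈ [(0, 2, (0, 0, 0, 1)), (0, 1, (0, 0, 0, 2)),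
    (1, 1, (0, 2, 0, 2)), (1, 0, (0, 2, 0, 0))],
      Hit (e3, e3) (el (1, 0, 0, 0) * cA ^ e.1) (el (0, 0, 1, 0) * cA ^ f.1) c := by
  decide +kernel

end Cfsg.Agent.H33.St
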