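import Cfsg.Agent.H33.Set9e

/-! Sylow `3`-subgroups of order `3 ^ 7`: finite checks on the torus. -/

set_option autoImplicit false

namespace Cfsg.Agent.H33.S9

open Cfsg Subgroup H23 H95.L3 H91.Pr St

/-- the indicator vectors of the subsets with three elements -/
def tri : Fin 20 → W6 :=
  ![![1, 1, 1, 0, 0, 0], ![1, 1, 0, 1, 0, 0], ![1, 1, 0, 0, 1, 0], ![1, 1, 0, 0, 0, 1],
    ![1, 0, 1, 1, 0, 0], ![1, 0, 1, 0, 1, 0], ![1, 0, 1, 0, 0, 1], ![1, 0, 0, 1, 1, 0],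
    ![1, 0, 0, 1, 0, 1], ![1, 0, 0, 0, 1, 1], ![0, 1, 1, 1, 0, 0], ![0, 1, 1, 0, 1, 0],
    ![0, 1, 1, 0, 0, 1], ![0, 1, 0, 1, 1, 0], ![0, 1, 0, 1, 0, 1], ![0, 1, 0, 0, 1, 1],
    ![0, 0, 1, 1, 1, 0], ![0, 0, 1, 1, 0, 1], ![0, 0, 1, 0, 1, 1], ![0, 0, 0, 1, 1, 1]]

/-- moving three coordinates to the front -/
def s3 (a b c : Fin 6) : Equiv.Perm (Fin 6) := Equiv.swap 0 a * Equiv.swap 1 b * Equiv.swap 2 c

theorem tri_inj : ∀ i j, Cg (tri i) (tri j) → i = j := by decide +kernel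
theorem tri_tr : ∀ i, ∃ a b c, Cg (tri i ∘ s3 a b c) ez := by decide +kernel

/-- increasing triples -/
def trp : List (Fin 6 × Fin 6 × Fin 6) :=
  [(0, 1, 2), (0, 1, 3), (0, 1, 4), (0, 1, 5), (0, 2, 3), (0, 2, 4), (0, 2, 5), (0, 3, 4), (0, 3, 5),
    (0, 4, 5), (1, 2, 3), (1, 2, 4), (1, 2, 5), (1, 3, 4), (1, 3, 5), (1, 4, 5), (2, 3, 4), (2, 3, 5),
    (2, 4, 5), (3, 4, 5)]

set_option synthInstance.maxSize 4096 in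
theorem tri_all : ∀ v : W6, (∃ t ∈ trp,
    (((p1 (v ∘ s3 t.1 t.2.1 t.2.2)).2.2 = 0 ∧ (p2 (v ∘ s3 t.1 t.2.1 t.2.2)).2.2 = 0) ∨
      (p1 (v ∘ s3 t.1 t.2.1 t.2.2)).2 = 0) ∧ ∀ k : ZMod 3, ¬ Cg (v ∘ s3 t.1 t.2.1 t.2.2) (k • ez)) ∨
    Cg v 0 ∨ ∃ i, Cg v (tri i) := forall_W6 (by decide +kernel)

set_option synthInstance.maxSize 4096 in
theorem tri_hyp (p q r : ZMod 3 × ZMod 3) (hp : p ≠ 0) (hq : q ≠ 0) (hr : r ≠ 0) :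
    ∃ a b c : ZMod 3, ∃ i,
    Cg (a • (p.1 • ez + p.2 • ea₁) + b • (q.1 • ez + q.2 • ea₂) + c • (r.1 • ez + r.2 • ex))
      (tri i) := by
  obtain ⟨a, b, c, h⟩ := (by decide +kernel : ∀ p : ZMod 3 × ZMod 3, p ≠ 0 → ∀ q : ZMod 3 × ZMod 3,
    q ≠ 0 → ∀ r : ZMod 3 × ZMod 3, r ≠ 0 → ∃ a b c : ZMod 3,
      a * p.2 * (a * p.2) + b * q.2 * (b * q.2) + (a * p.1 + b * q.1 + c * r.1) * (c * r.2) = 0 ∧
      (a * p.1 + b * q.1 + c * r.1 ≠ 0 ∨ c * r.2 ≠ 0)) p hp q hq r hr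
  obtain ⟨i, e⟩ := (by decide +kernel : ∀ a b c d : ZMod 3, b * b + c * c + a * d = 0 →
    a ≠ 0 ∨ d ≠ 0 → ∃ i, Cg (a • ez + b • ea₁ + c • ea₂ + d • ex) (tri i)) _ _ _ _ h.1 h.2
  exact ⟨a, b, c, i, by convert e using 1; module⟩

theorem jm_QQ : ∀ p : V3, p.2.2 = 0 → jm p ∈ QQ := by decide +kernel
theorem jm_Z : ∀ p : V3, p.2 = 0 → jm p = ca ^ p.1.val := by decide +kernel

theorem nJJ : ∀ c : C9, c * cb * c⁻¹ ∈ JJ → c * ce * c⁻¹ ∈ JJ →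
    ∃ (i : Fin 3) (j : Fin 2), c * (cx ^ i.1 * ct ^ j.1)⁻¹ ∈ JJ := by decide +kernel

theorem nJJ' (e : C9) (h : e * cb * e⁻¹ ∈ JJ) : e ∈ QQ ∨ ∀ q ∈ QQ, e * q = q * e → q ∈ JJ :=
  ((by decide +kernel : ∀ e : C9, e * cb * e⁻¹ ∈ JJ → e ∈ QQ ∨ ∀ i j k : Fin 3,
    e * (ca ^ i.1 * cb ^ j.1 * cx ^ k.1) = ca ^ i.1 * cb ^ j.1 * cx ^ k.1 * e →
      ca ^ i.1 * cb ^ j.1 * cx ^ k.1 ∈ JJ) e h).imp_right fun k q hq => by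
    obtain ⟨i, j, l, rfl⟩ := QQ_gen q hq
    exact k i j l

theorem swJJ : ∀ p : V3, jm p ∈ QQ → ∀ q ∈ QQ, q * jm p * q⁻¹ = jm p * ca⁻¹ → ∀ r : V3,
    q * jm r * q⁻¹ = ca ^ 2 * jm p ^ 2 * jm r → ∃ (i : Fin 3) (j : Fin 2) (k : ZMod 3),
      cx ^ i.1 * ct ^ j.1 * jm p * (cx ^ i.1 * ct ^ j.1)⁻¹ = cb ∧
      cx ^ i.1 * ct ^ j.1 * jm r * (cx ^ i.1 * ct ^ j.1)⁻¹ = ce * ca ^ k.val := by decide +kernel

/-- the permutation interchanging the two halves -/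
def pi6 : Equiv.Perm (Fin 6) := Equiv.swap 0 3 * Equiv.swap 1 4 * Equiv.swap 2 5

/-- the action of an element interchanging the two factors -/
def fM (k l : ZMod 3) (w : W6) : W6 := -(w ∘ pi6) + (k * (p1 w).2.2 + l * (p2 w).2.2) • ez

theorem fM_add (k l : ZMod 3) (a b : W6) : fM k l (a + b) = fM k l a + fM k l b := by
  funext i; simp only [fM, p1_add, p2_add, Prod.snd_add, Pi.add_apply, Pi.smul_apply, Pi.neg_apply,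
    Function.comp, smul_eq_mul]; ring


set_option synthInstance.maxSize 4096 in
theorem fM_gen : ∀ k l : ZMod 3, Cg ez (fM k l ez) ∧ Cg ea₂ (fM k l ea₁) ∧ Cg ea₁ (fM k l ea₂) ∧
    Cg (eu₂ + k • ez) (fM k l eu₁) ∧ Cg (eu₁ + l • ez) (fM k l eu₂) ∧
    Cg (fun _ => 1) (fM k l fun _ => 1) ∧ (∀ v ∈ [ez, ea₁, ea₂], Cg (fM k l (fM k l v)) v) ∧
    (Cg (fM k l (fM k l eu₁)) eu₁ → l = -k) := by decide +kernel

set_option synthInstance.maxSize 4096 in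
theorem fM_sw : ∀ k : ZMod 3,
    (∀ v ∈ [ez, ea₁, ea₂], Cg (fM k (-k) (v ∘ Equiv.swap 2 5)) (fM k (-k) v ∘ Equiv.swap 2 5)) ∧
    (Cg (fM k (-k) (eu₁ ∘ Equiv.swap 2 5)) (fM k (-k) eu₁ ∘ Equiv.swap 2 5) → k = 0) := by
  decide +kernel

end Cfsg.Agent.H33.S9
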