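import Cfsg.Agent.H33.OrthDeg7
import Cfsg.Agent.H27.SympSimple

/-! Actions of symplectic groups of small degree: the groups `Q_x`. -/

set_option autoImplicit false
set_option linter.unusedSectionVars false

namespace Cfsg.Agent.H33

open Finset

theorem card_eq_mul_of_fiber {α β : Type*} [DecidableEq β] (s : Finset α) (t : Finset β)
    (f : α → β) (hf : ∀ a ∈ s, f a ∈ t) {k : ℕ}
    (h : ∀ b ∈ t, (s.filter (fun a => f a = b)).card = k) : s.card = t.card * k := by
  rw [card_eq_sum_card_fiberwise hf, sum_eq_card_nsmul h, smul_eq_mul]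

open Classical in
theorem sum_ncl_le {Ω Z : Type*} [Fintype Ω] (o : Ω → Finset Ω) (ho : ∀ ω, ω ∈ o ω)
    {P : Ω → Prop} (S : Finset Z) (A : Ω → Z → Prop)
    (hA : ∀ ω, ∀ ω' ∈ o ω, ∀ z, A ω' z → A ω z) {a : ℕ}
    (ha : ∀ ω, P ω → (S.filter (A ω)).card ≤ a) :
    ∑ z ∈ S, ncl o (fun ω => P ω ∧ A ω z) ≤ a * ncl o P := by
  have h1 : ∀ z, ncl o (fun ω => P ω ∧ A ω z) = (((univ.filter P).image o).filter
      (fun O => ∃ ω, P ω ∧ A ω z ∧ o ω = O)).card := fun z => by
    unfold ncl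
    congr 1
    ext O
    simp only [mem_image, mem_filter, mem_univ, true_and]
    exact ⟨fun ⟨ω, h, h'⟩ => ⟨⟨ω, h.1, h'⟩, ω, h.1, h.2, h'⟩, fun ⟨_, ω, h1, h2, h3⟩ =>
      ⟨ω, ⟨h1, h2⟩, h3⟩⟩
  simp only [h1, card_filter]
  rw [sum_comm, mul_comm, ← smul_eq_mul]
  refine (sum_le_card_nsmul _ _ a fun O hO => ?_).trans (le_of_eq (by unfold ncl; congr))
  obtain ⟨ω, hω, rfl⟩ := mem_image.1 hO
  rw [← card_filter]
  refine le_trans (card_le_card fun z hz => ?_) (ha ω (mem_filter.1 hω).2)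
  obtain ⟨h1, ω', -, h2, h3⟩ := mem_filter.1 hz
  exact mem_filter.2 ⟨h1, hA ω ω' (h3 ▸ ho ω') z h2⟩

theorem mem_of_ncl_le_one {Ω : Type*} [Fintype Ω] (o : Ω → Finset Ω) (ho : ∀ ω, ω ∈ o ω)
    {P : Ω → Prop} (h : ncl o P ≤ 1) {ω ω' : Ω} (hω : P ω) (hω' : P ω') : ω' ∈ o ω := by
  by_contra hm
  have h1 := ncl_succ_le o ho (P := fun ω' => ω' = ω) (P' := P) (fun _ h => h ▸ hω) hω'
    (fun _ h => h ▸ hm)
  have h2 := ncl_pos o (P := fun ω' => ω' = ω) rfl
  omega

namespace SD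

open Cfsg.Agent.H27 Module

variable {F V : Type*} [Field F] [AddCommGroup V] [Module F V] {B : LinearMap.BilinForm F V}

theorem ext_smul {g g' : isomGroup B} (h : ∀ v : V, g • v = g' • v) : g = g' :=
  Subtype.ext (LinearEquiv.ext h)

theorem B_gsmul (g : isomGroup B) (v w : V) : B (g • v) (g • w) = B v w := g.2 v w

theorem gsmul_smul (g : isomGroup B) (c : F) (v : V) : g • c • v = c • g • v := map_smul g.1 c v

theorem gsmul_add (g : isomGroup B) (v w : V) : g • (v + w) = g • v + g • w := map_add g.1 v w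

theorem gsmul_sub (g : isomGroup B) (v w : V) : g • (v - w) = g • v - g • w := map_sub g.1 v w

theorem gsmul_zero (g : isomGroup B) : g • (0 : V) = 0 := map_zero g.1

theorem gsmul_ne_zero (g : isomGroup B) {v : V} (hv : v ≠ 0) : g • v ≠ 0 :=
  g.1.map_ne_zero_iff.2 hv

variable (hA : B.IsAlt)
include hA

theorem B_swap (v w : V) : B v w = -B w v := (hA.neg_eq w v).symm

theorem B_symm {v w : V} (h : B v w = 0) : B w v = 0 := hA.isRefl _ _ h

theorem tv_smul (a : V) (c : F) (v : V) : isoTv hA a c • v = v + (c * B v a) • a :=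
  altTv_apply hA a c v

theorem tv_smul_of_orth {a v : V} (h : B v a = 0) (c : F) : isoTv hA a c • v = v := by
  rw [tv_smul, h, mul_zero, zero_smul, add_zero]

theorem mul_tv (g : isomGroup B) (a : V) (c : F) :
    g * isoTv hA a c = isoTv hA (g • a) c * g := by
  rw [isom_smul_def, ← isoTv_conj, inv_mul_cancel_right]

/-- The elements of `Q_x`. -/
def S (x u : V) (c : F) : isomGroup B :=
  isoTv hA (x + u) 1 * isoTv hA u (-1) * isoTv hA x (c - 1)

theorem S_smul {x u : V} (h : B u x = 0) (c : F) (v : V) :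
    S hA x u c • v = v + B v x • u + B v u • x + (c * B v x) • x := by
  have h' := B_symm hA h
  simp only [S, mul_smul, tv_smul, map_add, map_smul, LinearMap.add_apply, LinearMap.smul_apply,
    h, h', hA.self_eq_zero, smul_eq_mul]
  module

theorem S_mul {x u u' : V} (h : B u x = 0) (h' : B u' x = 0) (c c' : F) :
    S hA x u c * S hA x u' c' = S hA x (u + u') (c + c' + B u' u) := by
  refine ext_smul fun v => ?_
  rw [mul_smul, S_smul hA h, S_smul hA h', S_smul hA (by simp [h, h'])]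
  simp only [map_add, map_smul, LinearMap.add_apply, LinearMap.smul_apply,
    h', B_symm hA h, hA.self_eq_zero, smul_eq_mul]
  module

theorem S_zero (x : V) (c : F) : S hA x 0 c = isoTv hA x c := by
  rw [S, isoTv_zero_vec, add_zero, mul_one, isoTv_mul, add_sub_cancel]

theorem S_zero_zero (x : V) : S hA x 0 0 = 1 := by rw [S_zero, isoTv_zero]

theorem S_inv {x u : V} (h : B u x = 0) (c : F) : (S hA x u c)⁻¹ = S hA x (-u) (-c) := by
  rw [inv_eq_iff_mul_eq_one, S_mul hA h (by simp [h])]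
  simp [hA.self_eq_zero, S_zero_zero]

theorem mul_S (g : isomGroup B) (x u : V) (c : F) :
    g * S hA x u c = S hA (g • x) (g • u) c * g := by
  rw [S, S, ← mul_assoc, ← mul_assoc, mul_tv hA g, gsmul_add, mul_assoc _ g, mul_tv hA g,
    ← mul_assoc, mul_assoc _ g, mul_tv hA g, ← mul_assoc]

theorem S_smul_left {x u : V} (h : B u x = 0) (a c : F) :
    S hA (a • x) u c = S hA x (a • u) (a * a * c) := by
  refine ext_smul fun v => ?_
  rw [S_smul hA (by simp [h]), S_smul hA (by simp [h])]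
  simp only [map_smul, smul_eq_mul]
  module

theorem S_add_smul {x u : V} (h : B u x = 0) (a c : F) :
    S hA x (u + a • x) c = S hA x u (c + 2 * a) := by
  refine ext_smul fun v => ?_
  rw [S_smul hA (by simp [h, hA.self_eq_zero]), S_smul hA h]
  simp only [map_smul, map_add, smul_eq_mul]
  module

theorem S_swap {x u : V} (h : B u x = 0) : S hA x u 0 = S hA u x 0 := by
  refine ext_smul fun v => ?_
  rw [S_smul hA h, S_smul hA (B_symm hA h)]
  module

theorem S_smul_of_orth {x u v : V} (h : B u x = 0) (c : F) (hv : B v x = 0) :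
    S hA x u c • v = v + B v u • x := by
  rw [S_smul hA h, hv]
  module

theorem S_smul_self {x u : V} (h : B u x = 0) (c : F) : S hA x u c • x = x := by
  rw [S_smul_of_orth hA h c (hA.self_eq_zero x), B_symm hA h, zero_smul, add_zero]

theorem tv_mul_tv {x y : V} (h : B y x = 0) (a a' c : F) :
    isoTv hA (y + a • x) c * isoTv hA (y + a' • x) (-c) =
      S hA x ((c * (a - a')) • y) (c * (a * a - a' * a')) := by
  refine ext_smul fun v => ?_
  rw [S_smul hA (by simp [h]), mul_smul, tv_smul, tv_smul]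
  simp only [map_add, map_smul, LinearMap.add_apply, LinearMap.smul_apply,
    h, B_symm hA h, hA.self_eq_zero, smul_eq_mul]
  module

/-! ### Geometry -/

omit hA in
variable (B) in
/-- The complement of a hyperbolic plane. -/
def hp (x x' : V) : Submodule F V := B.orthogonal (Submodule.span F {x, x'})

variable {x x' : V}

theorem mem_hp {u : V} : u ∈ hp B x x' ↔ B u x = 0 ∧ B u x' = 0 := by
  constructor
  · intro h
    exact ⟨B_symm hA (h x (Submodule.subset_span (by simp))),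
      B_symm hA (h x' (Submodule.subset_span (by simp)))⟩
  · rintro ⟨h1, h2⟩ n hn
    obtain ⟨a, b, rfl⟩ := Submodule.mem_span_pair.1 hn
    change B _ u = 0
    simp [B_symm hA h1, B_symm hA h2]

theorem eq_zero_of_hp (h : B x x' = 1) {a b : F} (hu : a • x + b • x' ∈ hp B x x') :
    a = 0 ∧ b = 0 := by
  obtain ⟨h1, h2⟩ := (mem_hp hA).1 hu
  simpa [hA.self_eq_zero, h, B_swap hA x' x, and_comm] using And.intro h1 h2

theorem pr_mem (h : B x x' = 1) {u : V} (hu : B u x = 0) : u - B u x' • x ∈ hp B x x' :=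
  (mem_hp hA).2 ⟨by simp [hu, hA.self_eq_zero], by simp [h]⟩

theorem not_mem_span_of_hp (h : B x x' = 1) {u : V} (hu : u ∈ hp B x x') (h0 : u ≠ 0) :
    u ∉ F ∙ x := fun hm => by
  obtain ⟨a, rfl⟩ := Submodule.mem_span_singleton.1 hm
  have := eq_zero_of_hp hA h (a := a) (b := 0) (by simpa using hu)
  exact h0 (by rw [this.1, zero_smul])

theorem ne_zero_of_hyp (h : B x x' = 1) : x ≠ 0 := by
  rintro rfl
  simp at h

variable [FiniteDimensional F V] (hB : B.Nondegenerate)
include hB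

theorem finrank_hp (h : B x x' = 1) : finrank F (hp B x x') + 2 = finrank F V := by
  have h1 : finrank F (Submodule.span F ({x, x'} : Set V)) = 2 := by
    have h2 : LinearIndependent F ![x, x'] := by
      rw [LinearIndependent.pair_iff]
      intro a b hab
      exact eq_zero_of_hp hA h (hab ▸ zero_mem _)
    have := finrank_span_eq_card h2
    rwa [Matrix.range_cons, Matrix.range_cons, Matrix.range_empty, Set.union_empty,
      Set.singleton_union, Fintype.card_fin] at this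
  have h2 := Submodule.finrank_le (Submodule.span F ({x, x'} : Set V))
  rw [hp, LinearMap.BilinForm.finrank_orthogonal hB]
  omega

theorem exists_orth_one (X : Submodule F V) {z : V} (hz : z ∉ X) :
    ∃ a, (∀ w ∈ X, B w a = 0) ∧ B z a = 1 := by
  obtain ⟨w, hw, h⟩ := exists_orth_ne_zero hB hA.isRefl X hz
  exact ⟨(B z w)⁻¹ • w, fun n hn => by rw [map_smul, hw n hn, smul_zero],
    by rw [map_smul, smul_eq_mul, inv_mul_cancel₀ h]⟩

theorem exists_hyp (hx : x ≠ 0) : ∃ x', B x x' = 1 := by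
  obtain ⟨a, -, h⟩ := exists_orth_one hA hB ⊥ (z := x) (by simpa using hx)
  exact ⟨a, h⟩

theorem exists_hp (h : B x x' = 1) {W : Submodule F V} (hW : W ≤ hp B x x') {z : V}
    (hz : z ∈ hp B x x') (hzW : z ∉ W) :
    ∃ a ∈ hp B x x', (∀ w ∈ W, B w a = 0) ∧ B z a = 1 := by
  obtain ⟨a, h1, h2⟩ := exists_orth_one hA hB (Submodule.span F {x, x'} ⊔ W) (z := z) (fun hm => by
    obtain ⟨s, hs, w, hw, rfl⟩ := Submodule.mem_sup.1 hm
    obtain ⟨a, b, rfl⟩ := Submodule.mem_span_pair.1 hs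
    obtain ⟨rfl, rfl⟩ := eq_zero_of_hp hA h ((Submodule.add_mem_iff_left _ (hW hw)).1 hz)
    exact hzW (by simpa using hw))
  exact ⟨a, fun n hn => h1 n (Submodule.mem_sup_left hn),
    fun w hw => h1 w (Submodule.mem_sup_right hw), h2⟩

theorem exists_hp_one (h : B x x' = 1) {z : V} (hz : z ∈ hp B x x') (h0 : z ≠ 0) :
    ∃ a ∈ hp B x x', B z a = 1 := by
  obtain ⟨a, h1, -, h2⟩ := exists_hp hA hB h bot_le hz (by simpa using h0)
  exact ⟨a, h1, h2⟩

theorem exists_hp_pair (h : B x x' = 1) {w z : V} (hw : w ∈ hp B x x') (hz : z ∈ hp B x x')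
    (hzw : z ∉ F ∙ w) : ∃ a ∈ hp B x x', B w a = 0 ∧ B z a = 1 := by
  obtain ⟨a, h1, h2, h3⟩ := exists_hp hA hB h ((Submodule.span_singleton_le_iff_mem _ _).2 hw)
    hz hzw
  exact ⟨a, h1, h2 w (Submodule.mem_span_singleton_self w), h3⟩

theorem exists_step (K : Subgroup (isomGroup B)) (X : Submodule F V)
    (hK : ∀ w, (∀ z ∈ X, B z w = 0) → ∀ c : F, isoTv hA w c ∈ K)
    {v w : V} (hv : v ∉ X) (hw : w ∉ X) (hvw : ∀ z ∈ X, B z v = B z w) :
    ∃ g ∈ K, g • v = w ∧ ∀ z ∈ X, g • z = z := by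
  obtain ⟨t, ⟨g, hg, rfl⟩, -, h⟩ := exists_mem_step hB hA (K.map (isomGroup B).subtype) X
    (fun w hw c => ⟨_, hK w hw c, rfl⟩) hv hw hvw
  exact ⟨g, hg, h⟩

theorem exists_smul_eq {v w : V} (hv : v ≠ 0) (hw : w ≠ 0) : ∃ g : isomGroup B, g • v = w := by
  obtain ⟨g, -, h, -⟩ := exists_step hA hB ⊤ ⊥ (fun _ _ _ => trivial) (v := v) (w := w)
    (by simpa using hv) (by simpa using hw) (by simp)
  exact ⟨g, h⟩

theorem exists_step_hp (h : B x x' = 1) (K : Subgroup (isomGroup B))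
    (hK : ∀ w ∈ hp B x x', ∀ c : F, isoTv hA w c ∈ K) {v w : V} (hv : v ∈ hp B x x')
    (hv0 : v ≠ 0) (hw : w ∈ hp B x x') (hw0 : w ≠ 0) : ∃ g ∈ K, g • v = w ∧ g • x = x := by
  have key : ∀ v ∈ hp B x x', v ≠ 0 → v ∉ Submodule.span F {x, x'} := fun v hv hv0 hm => by
    obtain ⟨a, b, rfl⟩ := Submodule.mem_span_pair.1 hm
    obtain ⟨rfl, rfl⟩ := eq_zero_of_hp hA h hv
    simp at hv0
  obtain ⟨g, hg, h1, h2⟩ := exists_step hA hB K (Submodule.span F {x, x'}) hK (key v hv hv0)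
    (key w hw hw0) (fun z hz => (hv z hz).trans (hw z hz).symm)
  exact ⟨g, hg, h1, h2 x (Submodule.subset_span (by simp))⟩

theorem exists_torus (h : B x x' = 1) {l : F} (hl : l ≠ 0) :
    ∃ k : isomGroup B, k • x = l • x ∧ ∀ z ∈ hp B x x', k • z = z := by
  have h1 : x ∉ hp B x x' := fun hm => by simpa [h] using ((mem_hp hA).1 hm).2
  obtain ⟨g, -, h2⟩ := exists_step hA hB ⊤ (hp B x x') (fun _ _ _ => trivial) h1
    (w := l • x) (by rwa [Submodule.smul_mem_iff _ hl])
    (fun z hz => by simp [((mem_hp hA).1 hz).1])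
  exact ⟨g, h2⟩

theorem exists_smul_pair (h : B x x' = 1) {l : F} (hl : l ≠ 0) {v w : V} (hv : v ∈ hp B x x')
    (hv0 : v ≠ 0) (hw : w ∈ hp B x x') (hw0 : w ≠ 0) :
    ∃ g : isomGroup B, g • x = l • x ∧ g • v = w := by
  obtain ⟨k, h1, h2⟩ := exists_torus hA hB h hl
  obtain ⟨g, -, h3, h4⟩ := exists_step_hp hA hB h ⊤ (fun _ _ _ => trivial) hv hv0 hw hw0
  exact ⟨k * g, by rw [mul_smul, h4, h1], by rw [mul_smul, h3, h2 w hw]⟩

end SD

end Cfsg.Agent.H33
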