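import Cfsg.Agent.H33.SpDeg1

/-! Actions of symplectic groups of small degree: orbits of `Q_x`. -/

set_option autoImplicit false
set_option linter.unusedSectionVars false

namespace Cfsg.Agent.H33

open Finset

/-- Double annihilators for a symmetric pairing. -/
theorem mem_of_perp {A : Type*} [AddCommGroup A] [Finite A] (P : H32.CPairing A A)
    (hP : ∀ a b, P.p a b = 1 → P.p b a = 1) (R : AddSubgroup A) {a : A}
    (ha : ∀ y ∈ P.perp R, P.p y a = 1) : a ∈ R := by
  have h1 := P.card_perp_mul R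
  have h2 := P.card_perp_mul (P.perp R)
  have hle : R ≤ P.perp (P.perp R) := fun a ha w hw => hP _ _ (hw a ha)
  have heq : R = P.perp (P.perp R) := by
    apply AddSubgroup.eq_of_le_of_card_ge hle
    rw [← h1, mul_comm] at h2
    exact (Nat.eq_of_mul_eq_mul_left Nat.card_pos h2).le
  rw [heq]
  exact fun w hw => hP _ _ (ha w hw)

namespace SD

open Cfsg.Agent.H27 Module OD

variable {F V : Type*} [Field F] [Fintype F] [AddCommGroup V] [Module F V] [Fintype V]
  {B : LinearMap.BilinForm F V} (hA : B.IsAlt) {Ω : Type*} [MulAction (isomGroup B) Ω]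

local notation "q" => Fintype.card F

/-- `S x u c` fixes `ω`. -/
def St (x : V) (ω : Ω) (u : V) (c : F) : Prop := B u x = 0 ∧ S hA x u c • ω = ω

/-- The image of the stabiliser in `x^⊥`. -/
def RB (x : V) (ω : Ω) : AddSubgroup V where
  carrier := {u | ∃ c, St hA x ω u c}
  add_mem' := by
    rintro a b ⟨c, h1, h2⟩ ⟨d, h3, h4⟩
    exact ⟨_, by simp [h1, h3], by rw [← S_mul hA h1 h3, mul_smul, h4, h2]⟩
  zero_mem' := ⟨0, by simp, by rw [S_zero_zero, one_smul]⟩
  neg_mem' := by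
    rintro a ⟨c, h1, h2⟩
    exact ⟨_, by simp [h1], by rw [← S_inv hA h1, inv_smul_eq_iff, h2]⟩

/-- The stabiliser in the transvection group. -/
def ZS (x : V) (ω : Ω) : AddSubgroup F where
  carrier := {c | isoTv hA x c • ω = ω}
  add_mem' {a b} ha hb := by
    change _ = _ at ha hb ⊢
    rw [← isoTv_mul, mul_smul, hb, ha]
  zero_mem' := by
    change _ = _
    rw [isoTv_zero, one_smul]
  neg_mem' {a} ha := by
    change _ = _ at ha ⊢
    rw [← isoTv_inv, inv_smul_eq_iff, ha]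

/-- The annihilator of `RB`. -/
def An (x : V) (ω : Ω) : AddSubgroup V where
  carrier := {w | B w x = 0 ∧ ∀ u ∈ RB hA x ω, ps F (B w u) = 1}
  add_mem' {a b} ha hb := ⟨by simp [ha.1, hb.1], fun u hu => by
    rw [map_add, LinearMap.add_apply]; exact ps_add (ha.2 u hu) (hb.2 u hu)⟩
  zero_mem' := ⟨by simp, fun u _ => by simp⟩
  neg_mem' {a} ha := ⟨by simp [ha.1], fun u hu => by
    rw [map_neg, LinearMap.neg_apply]; exact ps_neg (ha.2 u hu)⟩

/-- The annihilator of `ZS`. -/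
def YS (x : V) (ω : Ω) : AddSubgroup F where
  carrier := {y | ∀ c ∈ ZS hA x ω, ps F (y * c) = 1}
  add_mem' {a b} ha hb := fun c hc => by rw [add_mul]; exact ps_add (ha c hc) (hb c hc)
  zero_mem' := fun u _ => by simp
  neg_mem' {a} ha := fun c hc => by rw [neg_mul]; exact ps_neg (ha c hc)

variable {hA} {x x' : V} {ω : Ω}

theorem mem_RB {u : V} : u ∈ RB hA x ω ↔ ∃ c, St hA x ω u c := Iff.rfl

theorem mem_ZS {c : F} : c ∈ ZS hA x ω ↔ isoTv hA x c • ω = ω := Iff.rfl

theorem mem_An {w : V} :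
    w ∈ An hA x ω ↔ B w x = 0 ∧ ∀ u ∈ RB hA x ω, ps F (B w u) = 1 := Iff.rfl

theorem mem_YS {y : F} : y ∈ YS hA x ω ↔ ∀ c ∈ ZS hA x ω, ps F (y * c) = 1 := Iff.rfl

theorem orth_of_RB {u : V} (h : u ∈ RB hA x ω) : B u x = 0 := h.choose_spec.1

theorem St_zero {c : F} : St hA x ω 0 c ↔ c ∈ ZS hA x ω := by
  rw [St, S_zero, mem_ZS]
  simp

theorem St.add {u u' : V} {c c' : F} (h : St hA x ω u c) (h' : St hA x ω u' c') :
    St hA x ω (u + u') (c + c' + B u' u) :=
  ⟨by simp [h.1, h'.1], by rw [← S_mul hA h.1 h'.1, mul_smul, h'.2, h.2]⟩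

theorem St.neg {u : V} {c : F} (h : St hA x ω u c) : St hA x ω (-u) (-c) :=
  ⟨by simp [h.1], by rw [← S_inv hA h.1, inv_smul_eq_iff, h.2]⟩

theorem St.sub {u u' : V} {c c' : F} (h : St hA x ω u c) (h' : St hA x ω u' c') :
    St hA x ω (u - u') (c - c' - B u' u) := by
  have := h.add h'.neg
  rwa [map_neg, LinearMap.neg_apply, ← sub_eq_add_neg, ← sub_eq_add_neg, ← sub_eq_add_neg] at this

theorem St.sub_mem_ZS {u : V} {c c' : F} (h : St hA x ω u c) (h' : St hA x ω u c') :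
    c - c' ∈ ZS hA x ω := by
  have := h.sub h'
  rwa [sub_self, hA.self_eq_zero, sub_zero, St_zero] at this

theorem St.add_ZS {u : V} {c d : F} (h : St hA x ω u c) (h' : d ∈ ZS hA x ω) :
    St hA x ω u (c + d) := by
  simpa using h.add (St_zero.2 h')

theorem St_add_smul {u : V} {a c : F} : St hA x ω (u + a • x) c ↔ St hA x ω u (c + 2 * a) := by
  have : B (u + a • x) x = B u x := by simp [hA.self_eq_zero]
  rw [St, St, this]
  exact and_congr_right fun h => by rw [S_add_smul hA h]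

theorem St.swap {u : V} (h : St hA x ω u 0) : St hA u ω x 0 :=
  ⟨B_symm hA h.1, by rw [← S_swap hA h.1, h.2]⟩

theorem smul_mem_RB (a : F) : a • x ∈ RB hA x ω :=
  ⟨-(2 * a), by
    rw [← zero_add (a • x), St_add_smul, neg_add_cancel, St_zero]; exact zero_mem _⟩

theorem smul_mem_An (a : F) : a • x ∈ An hA x ω :=
  ⟨by simp [hA.self_eq_zero], fun u hu => by simp [B_symm hA (orth_of_RB hu)]⟩

theorem S_smul_eq_iff {u s : V} (hu : B u x = 0) (hs : B s x = 0) {c d : F} :
    S hA x u c • ω = S hA x s d • ω ↔ St hA x ω (u - s) (c - d - B u s) := by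
  rw [← inv_smul_eq_iff, ← mul_smul, S_inv hA hs, S_mul hA (by simp [hs]) hu, St,
    neg_add_eq_sub, neg_add_eq_sub, map_neg, ← sub_eq_add_neg]
  simp [hu, hs]

section equiv

variable {g : isomGroup B} {t : F}

theorem smul_S_smul (hg : g • x = t • x') {u : V} (hu : B (g • u) x' = 0) (c : F) (ω : Ω) :
    g • S hA x u c • ω = S hA x' (t • g • u) (t * t * c) • g • ω := by
  rw [← mul_smul, mul_S, hg, S_smul_left hA hu, mul_smul]

theorem B_gsmul_eq (hg : g • x = t • x') (u : V) : B (t • g • u) x' = B u x := by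
  rw [← B_gsmul g u, hg]
  simp

theorem B_gsmul_zero (ht : t ≠ 0) (hg : g • x = t • x') {u : V} (hu : B u x = 0) :
    B (g • u) x' = 0 := by
  simpa [ht, hu] using B_gsmul_eq hg u

theorem St_gsmul (ht : t ≠ 0) (hg : g • x = t • x') {u : V} {c : F} :
    St hA x' (g • ω) (t • g • u) (t * t * c) ↔ St hA x ω u c := by
  rw [St, St, B_gsmul_eq hg]
  refine and_congr_right fun hu => ?_
  rw [← smul_S_smul hg (B_gsmul_zero ht hg hu), smul_left_cancel_iff]

theorem inv_smul_eq (ht : t ≠ 0) (hg : g • x = t • x') : g⁻¹ • x' = t⁻¹ • x := by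
  rw [inv_smul_eq_iff, gsmul_smul, hg, inv_smul_smul₀ ht]

theorem RB_gsmul (ht : t ≠ 0) (hg : g • x = t • x') {u : V} (h : u ∈ RB hA x ω) :
    t • g • u ∈ RB hA x' (g • ω) := by
  obtain ⟨c, hc⟩ := h
  exact ⟨_, (St_gsmul ht hg).2 hc⟩

theorem RB_back (ht : t ≠ 0) (hg : g • x = t • x') {u : V} (h : u ∈ RB hA x' (g • ω)) :
    t⁻¹ • g⁻¹ • u ∈ RB hA x ω := by
  simpa using RB_gsmul (inv_ne_zero ht) (inv_smul_eq ht hg) h

theorem ZS_gsmul (ht : t ≠ 0) (hg : g • x = t • x') {c : F} :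
    t * t * c ∈ ZS hA x' (g • ω) ↔ c ∈ ZS hA x ω := by
  rw [← St_zero, ← St_zero, ← St_gsmul ht hg, gsmul_zero, smul_zero]

theorem An_gsmul (ht : t ≠ 0) (hg : g • x = t • x') {w : V} (h : w ∈ An hA x ω) :
    t⁻¹ • g • w ∈ An hA x' (g • ω) := by
  refine ⟨by simp [B_gsmul_zero ht hg h.1], fun u hu => ?_⟩
  have := h.2 _ (RB_back ht hg hu)
  rw [← B_gsmul g, gsmul_smul, smul_inv_smul] at this
  simpa using this

theorem An_back (ht : t ≠ 0) (hg : g • x = t • x') {w : V} (h : w ∈ An hA x' (g • ω)) :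
    t • g⁻¹ • w ∈ An hA x ω := by
  simpa using An_gsmul (inv_ne_zero ht) (inv_smul_eq ht hg) h

theorem YS_gsmul (ht : t ≠ 0) (hg : g • x = t • x') {y : F} (h : y ∈ YS hA x ω) :
    t⁻¹ * t⁻¹ * y ∈ YS hA x' (g • ω) := fun c hc => by
  have := h (t⁻¹ * t⁻¹ * c) ((ZS_gsmul ht hg).1 (by convert hc using 1; field_simp))
  convert this using 2
  ring

theorem St_gsmul' (hg : g • x = x') {u : V} {c : F} :
    St hA x' (g • ω) (g • u) c ↔ St hA x ω u c := by
  simpa using St_gsmul (hA := hA) (ω := ω) (u := u) (c := c) one_ne_zero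
    (show g • x = (1 : F) • x' by rw [one_smul, hg])

theorem ZS_gsmul' (hg : g • x = x') : ZS hA x' (g • ω) = ZS hA x ω := by
  ext c
  simpa using ZS_gsmul (hA := hA) (ω := ω) (c := c) one_ne_zero
    (show g • x = (1 : F) • x' by rw [one_smul, hg])

theorem RB_gsmul' (hg : g • x = x') {u : V} (h : u ∈ RB hA x ω) : g • u ∈ RB hA x' (g • ω) := by
  obtain ⟨c, hc⟩ := h
  exact ⟨_, (St_gsmul' hg).2 hc⟩

theorem An_gsmul' (hg : g • x = x') {w : V} (h : w ∈ An hA x ω) : g • w ∈ An hA x' (g • ω) := by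
  simpa using An_gsmul one_ne_zero (show g • x = (1 : F) • x' by rw [one_smul, hg]) h

end equiv

variable [Fintype Ω]

variable (hA) in
open Classical in
/-- The orbit of `ω` under `Q_x`. -/
noncomputable def orb (x : V) (ω : Ω) : Finset Ω :=
  univ.filter (fun ω' => ∃ u c, B u x = 0 ∧ S hA x u c • ω = ω')

theorem mem_orb {ω' : Ω} : ω' ∈ orb hA x ω ↔ ∃ u c, B u x = 0 ∧ S hA x u c • ω = ω' := by
  simp [orb]

theorem mem_orb_self (x : V) (ω : Ω) : ω ∈ orb hA x ω :=
  mem_orb.2 ⟨0, 0, by simp, by rw [S_zero_zero, one_smul]⟩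

theorem orb_eq (x : V) (ω : Ω) : ∀ ω' ∈ orb hA x ω, orb hA x ω' = orb hA x ω := by
  intro ω' h
  obtain ⟨s, d, hs, rfl⟩ := mem_orb.1 h
  ext ω''
  simp only [mem_orb]
  constructor
  · rintro ⟨u, c, hu, rfl⟩
    exact ⟨u + s, _, by simp [hu, hs], by rw [← mul_smul, S_mul hA hu hs]⟩
  · rintro ⟨u, c, hu, rfl⟩
    have : B (u - s) x = 0 := by simp [hu, hs]
    exact ⟨u - s, c - d - B s (u - s), this, by
      rw [← mul_smul, S_mul hA this hs, sub_add_cancel]; congr 2; ring⟩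

theorem mem_orb_symm {ω' : Ω} (h : ω' ∈ orb hA x ω) : ω ∈ orb hA x ω' := by
  rw [orb_eq x ω ω' h]; exact mem_orb_self x ω

theorem RB_of_mem_orb {ω' : Ω} (h : ω' ∈ orb hA x ω) : RB hA x ω' = RB hA x ω := by
  have key : ∀ {ω ω' : Ω}, ω' ∈ orb hA x ω → RB hA x ω ≤ RB hA x ω' := fun h u hu => by
    obtain ⟨s, d, hs, rfl⟩ := mem_orb.1 h
    have := RB_gsmul' (S_smul_self hA hs d) hu
    rwa [S_smul_of_orth hA hs d (orth_of_RB hu),
      AddSubgroup.add_mem_cancel_right _ (smul_mem_RB _)] at this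
  exact le_antisymm (key (mem_orb_symm h)) (key h)

theorem ZS_of_mem_orb {ω' : Ω} (h : ω' ∈ orb hA x ω) : ZS hA x ω' = ZS hA x ω := by
  obtain ⟨s, d, hs, rfl⟩ := mem_orb.1 h
  exact ZS_gsmul' (S_smul_self hA hs d)

theorem An_of_mem_orb {ω' : Ω} (h : ω' ∈ orb hA x ω) : An hA x ω' = An hA x ω := by
  ext w
  simp only [mem_An, RB_of_mem_orb h]

theorem YS_of_mem_orb {ω' : Ω} (h : ω' ∈ orb hA x ω) : YS hA x ω' = YS hA x ω := by
  ext w
  simp only [mem_YS, ZS_of_mem_orb h]

theorem orb_gsmul {g : isomGroup B} {t : F} (ht : t ≠ 0) (hg : g • x = t • x')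
    (ω ω' : Ω) : g • ω' ∈ orb hA x' (g • ω) ↔ ω' ∈ orb hA x ω := by
  have key : ∀ {x x' : V} {g : isomGroup B} {t : F}, t ≠ 0 → g • x = t • x' → ∀ ω ω' : Ω,
      ω' ∈ orb hA x ω → g • ω' ∈ orb hA x' (g • ω) := fun ht hg ω ω' h => by
    obtain ⟨u, c, hu, rfl⟩ := mem_orb.1 h
    exact mem_orb.2 ⟨_, _, (B_gsmul_eq hg u).trans hu,
      (smul_S_smul hg (B_gsmul_zero ht hg hu) c ω).symm⟩
  refine ⟨fun h => ?_, key ht hg ω ω'⟩
  simpa using key (inv_ne_zero ht) (inv_smul_eq ht hg) _ _ h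

/-! ### Cardinalities -/

open Classical in
/-- The elements of an additive subgroup inside the complement of the hyperbolic plane. -/
noncomputable def hf (B : LinearMap.BilinForm F V) (x x' : V) (W : AddSubgroup V) : Finset V :=
  univ.filter (fun u => u ∈ hp B x x' ∧ u ∈ W)

theorem mem_hf {W : AddSubgroup V} {u : V} : u ∈ hf B x x' W ↔ u ∈ hp B x x' ∧ u ∈ W := by
  simp [hf]

open Classical in
/-- The elements of an additive subgroup of the field. -/
noncomputable def ff (W : AddSubgroup F) : Finset F := univ.filter (fun u => u ∈ W)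

theorem mem_ff {W : AddSubgroup F} {u : F} : u ∈ ff W ↔ u ∈ W := by simp [ff]

theorem card_ff (W : AddSubgroup F) : (ff W).card = Nat.card W := by
  rw [← Nat.card_eq_finsetCard]
  exact Nat.card_congr (Equiv.subtypeEquivRight fun _ => mem_ff)

theorem card_hf (W : AddSubgroup V) :
    (hf B x x' W).card = Nat.card (W.comap (hp B x x').subtype.toAddMonoidHom) := by
  rw [← Nat.card_eq_finsetCard]
  exact Nat.card_congr ⟨fun v => ⟨⟨v.1, (mem_hf.1 v.2).1⟩, (mem_hf.1 v.2).2⟩,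
    fun v => ⟨v.1.1, mem_hf.2 ⟨v.1.2, v.2⟩⟩, fun _ => rfl, fun _ => rfl⟩

theorem orth_of_hp {u : V} (hA : B.IsAlt) (hu : u ∈ hp B x x') : B u x = 0 :=
  ((mem_hp hA).1 hu).1

open Classical in
theorem card_orb_mul (h : B x x' = 1) (ω : Ω) :
    (hf B x x' ⊤).card * q = (orb hA x ω).card *
      ((hf B x x' ⊤ ×ˢ univ).filter (fun p : V × F => St hA x ω p.1 p.2)).card := by
  rw [← card_univ, ← card_product]
  apply card_eq_mul_of_fiber _ _ (fun p : V × F => S hA x p.1 p.2 • ω)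
  · intro p hp'
    exact mem_orb.2 ⟨p.1, p.2, orth_of_hp hA (mem_hf.1 (mem_product.1 hp').1).1, rfl⟩
  intro ω' hω'
  obtain ⟨s, d, hs, rfl⟩ := mem_orb.1 hω'
  have hs' := pr_mem hA h hs
  rw [← sub_add_cancel s (B s x' • x), S_add_smul hA (orth_of_hp hA hs')]
  generalize s - B s x' • x = s at hs'
  generalize d + 2 * _ = d
  refine card_bij' (fun p _ => (p.1 - s, p.2 - d - B p.1 s))
    (fun p _ => (p.1 + s, p.2 + d + B p.1 s)) ?_ ?_ ?_ ?_
  · intro p hp'
    simp only [mem_filter, mem_product, mem_hf, mem_univ, AddSubgroup.mem_top, and_true] at hp' ⊢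
    exact ⟨sub_mem hp'.1 hs', (S_smul_eq_iff (orth_of_hp hA hp'.1) (orth_of_hp hA hs')).1 hp'.2⟩
  · intro p hp'
    simp only [mem_filter, mem_product, mem_hf, mem_univ, AddSubgroup.mem_top, and_true] at hp' ⊢
    refine ⟨add_mem hp'.1 hs', (S_smul_eq_iff (orth_of_hp hA (add_mem hp'.1 hs'))
      (orth_of_hp hA hs')).2 ?_⟩
    convert hp'.2 using 1
    · simp
    · simp only [map_add, LinearMap.add_apply, hA.self_eq_zero]
      ring
  · intro p _
    refine Prod.ext (by simp) ?_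
    simp only [map_sub, LinearMap.sub_apply, hA.self_eq_zero]
    ring
  · intro p _
    refine Prod.ext (by simp) ?_
    simp only [map_add, LinearMap.add_apply, hA.self_eq_zero]
    ring

open Classical in
theorem card_St (ω : Ω) :
    ((hf B x x' ⊤ ×ˢ univ).filter (fun p : V × F => St hA x ω p.1 p.2)).card =
      (hf B x x' (RB hA x ω)).card * (ff (ZS hA x ω)).card := by
  refine card_eq_mul_of_fiber _ _ (fun p => p.1) (fun p hp' => ?_) fun u hu => ?_
  · simp only [mem_filter, mem_product, mem_hf, mem_univ, AddSubgroup.mem_top, and_true] at hp' ⊢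
    exact ⟨hp'.1, _, hp'.2⟩
  · obtain ⟨hu, c, hc⟩ := mem_hf.1 hu
    refine card_bij' (fun p _ => p.2 - c) (fun d _ => (u, c + d)) ?_ ?_ ?_ ?_
    · rintro ⟨u', c'⟩ hp'
      simp only [mem_filter] at hp'
      obtain ⟨⟨-, h1⟩, rfl⟩ := hp'
      exact mem_ff.2 (h1.sub_mem_ZS hc)
    · intro d hd
      simp only [mem_filter, mem_product, mem_hf, mem_univ, AddSubgroup.mem_top, and_true]
      exact ⟨hu, hc.add_ZS (mem_ff.1 hd)⟩
    · rintro ⟨u', c'⟩ hp'
      simp only [mem_filter] at hp'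
      simp [hp'.2.symm]
    · simp

/-- The pairing of the field with itself. -/
noncomputable def pairF (F : Type*) [Field F] [Fintype F] : H32.CPairing F F where
  p y c := ps F (y * c)
  zero_left a := by simp
  zero_right a := by simp
  add_left y z a := by rw [add_mul, AddChar.map_add_eq_mul]
  add_right y a b := by rw [mul_add, AddChar.map_add_eq_mul]
  sep a ha := by
    by_contra! h
    exact ha (eq_zero_of_ps h)

theorem card_YS_mul (x : V) (ω : Ω) : (ff (YS hA x ω)).card * (ff (ZS hA x ω)).card = q := by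
  rw [card_ff, card_ff, ← Nat.card_eq_fintype_card, ← (pairF F).card_perp_mul (ZS hA x ω)]
  rfl

variable [FiniteDimensional F V] (hB : B.Nondegenerate)
include hB

theorem card_hf_top (hA : B.IsAlt) (h : B x x' = 1) :
    (hf B x x' ⊤).card = q ^ (finrank F V - 2) := by
  rw [card_hf, AddSubgroup.comap_top, AddSubgroup.card_top, card_submodule, ← finrank_hp hA hB h,
    Nat.add_sub_cancel]

/-- The pairing on the complement of a hyperbolic plane. -/
noncomputable def pairV (hA : B.IsAlt) (h : B x x' = 1) :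
    H32.CPairing (hp B x x') (hp B x x') where
  p w u := ps F (B w u)
  zero_left a := by simp
  zero_right a := by simp
  add_left y z a := by rw [Submodule.coe_add, map_add, LinearMap.add_apply, AddChar.map_add_eq_mul]
  add_right y a b := by rw [Submodule.coe_add, map_add, AddChar.map_add_eq_mul]
  sep a ha := by
    obtain ⟨y, hy, h1⟩ := exists_hp_one hA hB h a.2 (fun h0 => ha (Subtype.ext h0))
    by_contra! hcon
    refine one_ne_zero (eq_zero_of_ps (F := F) fun c => ?_)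
    have := hcon ⟨(-c) • y, Submodule.smul_mem _ _ hy⟩
    simpa [B_swap hA y, h1] using this

theorem mem_perp_RB (h : B x x' = 1) {w : hp B x x'} :
    w ∈ (pairV hB hA h).perp ((RB hA x ω).comap (hp B x x').subtype.toAddMonoidHom) ↔
      (w : V) ∈ An hA x ω := by
  refine ⟨fun hw => ⟨orth_of_hp hA w.2, fun u hu => ?_⟩, fun hw u hu => hw.2 u hu⟩
  have := hw ⟨_, pr_mem hA h (orth_of_RB hu)⟩ (sub_mem hu (smul_mem_RB _))
  change ps F (B w (u - _)) = 1 at this
  rwa [map_sub, map_smul, orth_of_hp hA w.2, smul_zero, sub_zero] at this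

theorem card_An_mul (h : B x x' = 1) (ω : Ω) :
    (hf B x x' (An hA x ω)).card * (hf B x x' (RB hA x ω)).card = q ^ (finrank F V - 2) := by
  rw [← card_hf_top hB hA h, card_hf, card_hf, card_hf, AddSubgroup.comap_top, AddSubgroup.card_top,
    ← (pairV hB hA h).card_perp_mul ((RB hA x ω).comap (hp B x x').subtype.toAddMonoidHom)]
  congr 1
  exact Nat.card_congr (Equiv.subtypeEquivRight fun w => (mem_perp_RB hB h).symm)

theorem mem_RB_of_An (h : B x x' = 1) {u : V} (hu : B u x = 0)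
    (hu' : ∀ w ∈ hp B x x', w ∈ An hA x ω → ps F (B w u) = 1) : u ∈ RB hA x ω := by
  rw [← sub_add_cancel u (B u x' • x), AddSubgroup.add_mem_cancel_right _ (smul_mem_RB _)]
  refine mem_of_perp (pairV hB hA h) (fun a b hab => ?_)
    ((RB hA x ω).comap (hp B x x').subtype.toAddMonoidHom) (a := ⟨_, pr_mem hA h hu⟩)
    fun w hw => ?_
  · change ps F _ = 1
    rw [B_swap hA]
    exact ps_neg hab
  · change ps F (B w (u - _)) = 1
    rw [map_sub, map_smul, orth_of_hp hA w.2, smul_zero, sub_zero]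
    exact hu' w w.2 ((mem_perp_RB hB h).1 hw)

theorem card_orb (h : B x x' = 1) (ω : Ω) :
    (orb hA x ω).card = (hf B x x' (An hA x ω)).card * (ff (YS hA x ω)).card := by
  have h1 := card_orb_mul (hA := hA) h ω
  rw [card_St, card_hf_top hB hA h, ← card_An_mul hB h ω, ← card_YS_mul (hA := hA) x ω,
    mul_mul_mul_comm] at h1
  refine (Nat.eq_of_mul_eq_mul_right (Nat.mul_pos ?_ ?_) h1).symm
  · exact card_pos.2 ⟨0, mem_hf.2 ⟨zero_mem _, zero_mem _⟩⟩
  · exact card_pos.2 ⟨0, mem_ff.2 (zero_mem _)⟩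

end SD

end Cfsg.Agent.H33
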