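import Cfsg.Agent.H33.SpTwo

/-! Actions of symplectic groups of small degree: counting, and regular orbits. -/

set_option autoImplicit false
set_option linter.unusedSectionVars false

namespace Cfsg.Agent.H33.SD

open Cfsg.Agent.H27 Module OD Finset

variable {F V : Type*} [Field F] [Fintype F] [AddCommGroup V] [Module F V] [Fintype V]
  {B : LinearMap.BilinForm F V} {hA : B.IsAlt} {Ω : Type*} [MulAction (isomGroup B) Ω] [Fintype Ω]
  {x x' : V} {ω : Ω}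

local notation "q" => Fintype.card F

variable (B) in
/-- A relation between points and elements of `Ω` that is preserved by the group. -/
def Eqv (ρ : V → Ω → Prop) : Prop :=
  ∀ (x x' : V) (g : isomGroup B) (t : F), t ≠ 0 → g • x = t • x' → ∀ ω, ρ x ω → ρ x' (g • ω)

theorem Eqv.fix {ρ : V → Ω → Prop} (h : Eqv B ρ) {g : isomGroup B} (hg : g • x = x')
    (hω : ρ x ω) : ρ x' (g • ω) := h x x' g 1 one_ne_zero (by rw [hg, one_smul]) ω hω

theorem Eqv.orb {ρ : V → Ω → Prop} (h : Eqv B ρ) (x : V) (ω : Ω) :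
    ∀ ω' ∈ orb hA x ω, ρ x ω → ρ x ω' := fun ω' h' hω => by
  obtain ⟨s, d, hs, rfl⟩ := mem_orb.1 h'
  exact h.fix (S_smul_self hA hs d) hω

theorem Eqv.not {ρ : V → Ω → Prop} (h : Eqv B ρ) : Eqv B (fun x ω => ¬ ρ x ω) :=
  fun x x' g t ht hg ω hω hω' => hω (by
    simpa using h x' x g⁻¹ t⁻¹ (inv_ne_zero ht) (inv_smul_eq ht hg) _ hω')

theorem Eqv.and {ρ ρ' : V → Ω → Prop} (h : Eqv B ρ) (h' : Eqv B ρ') :
    Eqv B (fun x ω => ρ x ω ∧ ρ' x ω) := fun x x' g t ht hg ω hω =>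
  ⟨h x x' g t ht hg ω hω.1, h' x x' g t ht hg ω hω.2⟩

theorem eqv_bot : Eqv B (fun x (ω : Ω) => ZS hA x ω = ⊥) := fun x x' g t ht hg ω hω => by
  beta_reduce at hω ⊢
  rw [eq_bot_iff]
  intro c hc
  have : t⁻¹ * t⁻¹ * c ∈ ZS hA x ω := (ZS_gsmul ht hg).1 (by convert hc using 1; field_simp)
  simpa [hω, ht] using this

theorem eqv_top : Eqv B (fun x (ω : Ω) => ZS hA x ω = ⊤) := fun x x' g t ht hg ω hω => by
  beta_reduce at hω ⊢
  rw [eq_top_iff]
  intro c _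
  convert (ZS_gsmul ht hg (c := t⁻¹ * t⁻¹ * c)).2 (hω ▸ AddSubgroup.mem_top _) using 1
  field_simp

theorem eqv_RB : Eqv B (fun x (ω : Ω) => ∀ u ∈ RB hA x ω, u ∈ F ∙ x) :=
  fun x x' g t ht hg ω hω u hu => by
    obtain ⟨a, ha⟩ := Submodule.mem_span_singleton.1 (hω _ (RB_back ht hg hu))
    refine Submodule.mem_span_singleton.2 ⟨t * a * t, ?_⟩
    rw [mul_smul, mul_smul, ← hg, ← gsmul_smul, ha, gsmul_smul, smul_inv_smul, smul_inv_smul₀ ht]

theorem eqv_card (p : ℕ → Prop) : Eqv B (fun x (ω : Ω) => p (orb hA x ω).card) :=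
  fun x x' g t ht hg ω hω => by
    beta_reduce at hω ⊢
    rwa [show (orb hA x' (g • ω)).card = (orb hA x ω).card from (card_bij (fun ω' _ => g • ω')
      (fun ω' h => (orb_gsmul ht hg ω ω').2 h) (fun a _ b _ h => smul_left_cancel g h)
      (fun ω' h => ⟨g⁻¹ • ω', (orb_gsmul ht hg ω _).1 (by rwa [smul_inv_smul]), by simp⟩)).symm]

variable (hA) in
/-- The number of orbits of type `ρ` in which a given character occurs. -/
noncomputable def mu (ρ : V → Ω → Prop) (x w : V) (y : F) : ℕ :=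
  ncl (orb hA x) (fun ω => ρ x ω ∧ w ∈ An hA x ω ∧ y ∈ YS hA x ω)

variable {ρ : V → Ω → Prop}

theorem mu_pos {w : V} {y : F} (h : ρ x ω) (hw : w ∈ An hA x ω) (hy : y ∈ YS hA x ω) :
    1 ≤ mu hA ρ x w y := ncl_pos _ (ω := ω) ⟨h, hw, hy⟩

theorem mem_orb_of_mu {w : V} (h : mu hA ρ x w 0 ≤ 1) {ω' : Ω} (h1 : ρ x ω) (h2 : w ∈ An hA x ω)
    (h3 : ρ x ω') (h4 : w ∈ An hA x ω') : ω' ∈ orb hA x ω :=
  mem_of_ncl_le_one _ (mem_orb_self x) h ⟨h1, h2, zero_mem _⟩ ⟨h3, h4, zero_mem _⟩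

theorem mu_bot (h : ∀ ω, ρ x ω → ZS hA x ω = ⊥) (w : V) (y : F) :
    mu hA ρ x w y = mu hA ρ x w 0 :=
  ncl_congr _ fun ω => and_congr_right fun hω => by simp [mem_YS, h ω hω]

theorem mu_zero : mu hA ρ x 0 0 = ncl (orb hA x) (ρ x) := ncl_congr _ fun ω => by simp

theorem mem_orb_hp (h : B x x' = 1) {ω' : Ω} (h' : ω' ∈ orb hA x ω) :
    ∃ u ∈ hp B x x', ∃ c, S hA x u c • ω = ω' := by
  obtain ⟨s, d, hs, rfl⟩ := mem_orb.1 h'
  refine ⟨_, pr_mem hA h hs, d + 2 * B s x', ?_⟩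
  rw [← S_add_smul hA (orth_of_hp hA (pr_mem hA h hs)), sub_add_cancel]

theorem tv_comm_x {y : V} (hA : B.IsAlt) (h : B x y = 0) (c e : F) (ω : Ω) :
    isoTv hA y c • isoTv hA x e • ω = isoTv hA x e • isoTv hA y c • ω := by
  rw [← mul_smul, mul_tv, tv_smul_of_orth hA h, mul_smul]

theorem tv_tv (hA : B.IsAlt) (c e : F) (ω : Ω) :
    isoTv hA x c • isoTv hA x e • ω = isoTv hA x (c + e) • ω := by
  rw [← mul_smul, isoTv_mul]

theorem tv_eq_iff {c e : F} : isoTv hA x c • ω = isoTv hA x e • ω ↔ c - e ∈ ZS hA x ω := by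
  rw [mem_ZS, sub_eq_neg_add, ← tv_tv, ← isoTv_inv, inv_smul_eq_iff]

theorem kfixZ (h : B x x' = 1) {l : F} (hl1 : l ≠ 1) {k : isomGroup B} (hk : k • x = l • x)
    (hk' : ∀ z ∈ hp B x x', k • z = z) (hR : ∀ u, (l - 1) • u ∈ RB hA x ω → u ∈ RB hA x ω)
    (hω : k • ω ∈ orb hA x ω) : ∃ ω' ∈ orb hA x ω, (∃ e, k • ω' = isoTv hA x e • ω') ∧
      ∀ y ∈ hp B x x', ∀ c, isoTv hA y c • ω' ∈ orb hA x ω →
        ∃ θ, isoTv hA y c • ω' = isoTv hA x θ • ω' := by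
  have hl : 1 - l ≠ 0 := sub_ne_zero.2 hl1.symm
  have hS : ∀ u ∈ hp B x x', ∀ (c : F) (ω : Ω),
      k • S hA x u c • ω = S hA x (l • u) (l * l * c) • k • ω := fun u hu c ω => by
    rw [smul_S_smul hk (by rw [hk' u hu, orth_of_hp hA hu]), hk' u hu]
  have hx0 : B (0 : V) x = 0 := by simp
  obtain ⟨s, hs, d, hd⟩ := mem_orb_hp h hω
  have hu := Submodule.smul_mem _ (1 - l)⁻¹ hs
  have hm : S hA x ((1 - l)⁻¹ • s) 0 • ω ∈ orb hA x ω := mem_orb.2 ⟨_, _, orth_of_hp hA hu, rfl⟩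
  have he : k • S hA x ((1 - l)⁻¹ • s) 0 • ω = isoTv hA x d • S hA x ((1 - l)⁻¹ • s) 0 • ω := by
    rw [hS _ hu, ← hd, smul_smul (S hA x _ _), smul_smul (isoTv hA x d), ← S_zero, S_mul hA hx0 (orth_of_hp hA hu),
      S_mul hA (orth_of_hp hA (Submodule.smul_mem _ l hu)) (orth_of_hp hA hs)]
    congr 2
    · match_scalars
      field_simp
      ring
    · simp [hA.self_eq_zero]
  refine ⟨_, hm, ⟨d, he⟩, fun y hy c hc => ?_⟩
  rw [← RB_of_mem_orb hm] at hR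
  rw [← orb_eq x ω _ hm] at hc
  generalize S hA x ((1 - l)⁻¹ • s) 0 • ω = ω' at *
  obtain ⟨u, hu, e, hue⟩ := mem_orb_hp h hc
  have hux := orth_of_hp hA hu
  have hlu := orth_of_hp hA (Submodule.smul_mem _ l hu)
  have h1 : k • isoTv hA y c • ω' = isoTv hA x d • isoTv hA y c • ω' := by
    rw [← mul_smul, mul_tv, hk' y hy, mul_smul, he, tv_comm_x hA (B_symm hA (orth_of_hp hA hy))]
  rw [← hue, hS u hu, he, ← mul_smul, ← mul_smul, ← S_zero, S_mul hA hlu hx0, S_mul hA hx0 hux,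
    add_zero, zero_add, S_smul_eq_iff hlu hux] at h1
  obtain ⟨e', he'⟩ := hR u ⟨_, by rwa [sub_smul, one_smul]⟩
  refine ⟨e - e', ?_⟩
  rw [← hue, ← S_zero, S_smul_eq_iff hux hx0]
  simpa using he'

theorem kfix (h : B x x' = 1) {l : F} (hl : l * l ≠ 1) {k : isomGroup B} (hk : k • x = l • x)
    (hk' : ∀ z ∈ hp B x x', k • z = z) (hR : ∀ u, (l - 1) • u ∈ RB hA x ω → u ∈ RB hA x ω)
    (hω : k • ω ∈ orb hA x ω) (hZ : ZS hA x ω = ⊥) : ∃ ω' ∈ orb hA x ω,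
      ∀ y ∈ hp B x x', ∀ c, isoTv hA y c • ω' ∈ orb hA x ω → isoTv hA y c • ω' = ω' := by
  obtain ⟨ω', h1, ⟨e, h2⟩, h3⟩ := kfixZ h (fun h => hl (by simp [h])) hk hk' hR hω
  refine ⟨ω', h1, fun y hy c hc => ?_⟩
  obtain ⟨θ, hθ⟩ := h3 y hy c hc
  have h4 : k • isoTv hA y c • ω' = isoTv hA x e • isoTv hA y c • ω' := by
    rw [← mul_smul, mul_tv, hk' y hy, mul_smul, h2, tv_comm_x hA (B_symm hA (orth_of_hp hA hy))]
  rw [hθ, ← mul_smul k, mul_tv, hk, isoTv_smul, mul_smul, h2, tv_tv, tv_tv, tv_eq_iff,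
    ZS_of_mem_orb h1, hZ, AddSubgroup.mem_bot] at h4
  have h5 : θ = 0 := by
    by_contra h0
    exact hl (mul_right_cancel₀ h0 (by linear_combination h4))
  rw [hθ, h5, isoTv_zero, one_smul]

variable [FiniteDimensional F V]

open Classical in
theorem sum_mu_le (hB : B.Nondegenerate) (h : B x x' = 1) (hρ : Eqv B ρ) (T : Finset F) :
    ∑ y ∈ T, (mu hA ρ x 0 y + ∑ w ∈ (hf B x x' ⊤).erase 0, mu hA ρ x w y) ≤
      (univ.filter (ρ x)).card := by
  rw [card_filter_eq_sum_ncl (orb hA x) (mem_orb_self x) (orb_eq x) (ρ x) (hρ.orb x)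
    (fun ω (p : V × F) => p.1 ∈ hp B x x' ∧ p.1 ∈ An hA x ω ∧ p.2 ∈ YS hA x ω)
    (fun _ _ h _ hp' => by rwa [An_of_mem_orb h, YS_of_mem_orb h]) (fun ω => by
      rw [card_orb hB h, ← card_product]
      congr 1
      ext p
      simp [mem_hf, mem_ff, and_assoc])]
  refine le_trans (le_of_eq ?_) (sum_le_sum_of_subset (subset_univ (hf B x x' ⊤ ×ˢ T)))
  rw [sum_product_right]
  refine sum_congr rfl fun y _ => ?_
  rw [add_sum_erase (hf B x x' ⊤) (fun w => mu hA ρ x w y) (mem_hf.2 ⟨zero_mem _, trivial⟩)]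
  exact sum_congr rfl fun w hw => ncl_congr _ fun ω => by simp [(mem_hf.1 hw).1]

theorem mu_le (hB : B.Nondegenerate) (h : B x x' = 1) (hρ : Eqv B ρ) {w w' : V}
    (hw : w ∈ hp B x x') (hw0 : w ≠ 0) (hw' : w' ∈ hp B x x') (hw0' : w' ≠ 0) {t : F} (ht : t ≠ 0)
    (y : F) : mu hA ρ x w y ≤ mu hA ρ x w' (t * t * y) := by
  obtain ⟨g, h1, h2⟩ := exists_smul_pair hA hB h (inv_ne_zero ht) hw hw0
    (Submodule.smul_mem _ t⁻¹ hw') (smul_ne_zero (inv_ne_zero ht) hw0')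
  refine ncl_le_of_equiv _ _ (MulAction.toPerm g) (orb_gsmul (inv_ne_zero ht) h1)
    fun ω hω => ⟨hρ _ _ g _ (inv_ne_zero ht) h1 ω hω.1, ?_, ?_⟩
  · simpa [h2, ht] using An_gsmul (inv_ne_zero ht) h1 hω.2.1
  · simpa using YS_gsmul (inv_ne_zero ht) h1 hω.2.2

open Classical in
theorem card_erase_hf (hA : B.IsAlt) (hB : B.Nondegenerate) (h : B x x' = 1) :
    ((hf B x x' ⊤).erase 0).card + 1 = q ^ (finrank F V - 2) := by
  rw [card_erase_add_one (mem_hf.2 ⟨zero_mem _, AddSubgroup.mem_top _⟩), card_hf_top hB hA h]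

open Classical in
theorem mul_le_sum_mu (hB : B.Nondegenerate) (h : B x x' = 1) (hρ : Eqv B ρ) {w : V}
    (hw : w ∈ hp B x x') (hw0 : w ≠ 0) {y : F} {k : ℕ} (hk : k ≤ mu hA ρ x w y) :
    ((hf B x x' ⊤).erase 0).card * k ≤ ∑ w ∈ (hf B x x' ⊤).erase 0, mu hA ρ x w y := by
  rw [← smul_eq_mul]
  refine card_nsmul_le_sum _ _ _ fun w' hw' => hk.trans ?_
  simpa using mu_le hB h hρ hw hw0 (mem_hf.1 (mem_of_mem_erase hw')).1 (ne_of_mem_erase hw')
    one_ne_zero y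

open Classical in
theorem sum_mu_le_ncl {a : ℕ} (ha : ∀ ω, ρ x ω → (hf B x x' (An hA x ω)).card ≤ a + 1) :
    ∑ w ∈ (hf B x x' ⊤).erase 0, mu hA ρ x w 0 ≤ a * mu hA ρ x 0 0 := by
  rw [mu_zero]
  refine le_trans (le_of_eq (sum_congr rfl fun w _ => ncl_congr _ fun ω => by simp))
    (sum_ncl_le (orb hA x) (mem_orb_self x) _ (fun ω w => w ∈ An hA x ω)
      (fun _ _ h _ hz => An_of_mem_orb h ▸ hz) fun ω hω => ?_)
  have h1 := card_erase_add_one (mem_hf.2 ⟨zero_mem (hp B x x'), zero_mem (An hA x ω)⟩)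
  have h2 := ha ω hω
  refine le_trans (card_le_card fun w hw => ?_) (show ((hf B x x' (An hA x ω)).erase 0).card ≤ a by
    omega)
  simp only [mem_filter, mem_erase, mem_hf] at hw ⊢
  exact ⟨hw.1.1, hw.1.2.1, hw.2⟩

theorem card_hf_le {W : AddSubgroup V} {v : V} (h : ∀ w ∈ hp B x x', w ∈ W → w ∈ F ∙ v) :
    (hf B x x' W).card ≤ q := by
  classical
  refine le_trans (card_le_card (t := univ.image (fun a : F => a • v)) fun w hw => ?_)
    (card_image_le.trans (card_univ).le)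
  obtain ⟨a, ha⟩ := Submodule.mem_span_singleton.1 (h w (mem_hf.1 hw).1 (mem_hf.1 hw).2)
  exact mem_image.2 ⟨a, mem_univ _, ha⟩

variable (B) in
/-- The numerical hypotheses. -/
structure Dat (N0 : ℕ) : Prop where
  hB : B.Nondegenerate
  hd : finrank F V = 4 ∨ 6 ≤ finrank F V
  hq : 3 ≤ q
  h3 : q = 3 → 6 ≤ finrank F V
  hN : (q - 1) * N0 + 1 = q ^ finrank F V

variable {N0 : ℕ}

theorem Dat.hN' (D : Dat B N0) : (q - 1) * N0 + 1 = q ^ 2 * q ^ (finrank F V - 2) := by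
  rw [D.hN, ← pow_add]
  congr 1
  have := D.hd
  omega

theorem Dat.sq_le (D : Dat B N0) : q ^ 2 ≤ q ^ (finrank F V - 2) :=
  Nat.pow_le_pow_right Fintype.card_pos (by have := D.hd; omega)

theorem Dat.exists_hp (D : Dat B N0) (hA : B.IsAlt) (h : B x x' = 1) :
    ∃ y ∈ hp B x x', y ≠ 0 :=
  Submodule.exists_mem_ne_zero_of_ne_bot fun h0 => by
    have := finrank_hp hA D.hB h
    have := D.hd
    rw [h0, finrank_bot] at *
    omega

theorem Dat.exists_ne (D : Dat B N0) : ∃ l : F, l ≠ 0 ∧ l ≠ 1 := by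
  classical
  by_contra! h
  have := H30.isF2_iff_card.1 h
  have := D.hq
  omega

open Classical in
theorem dvd_of_rel (D : Dat B N0) (hA : B.IsAlt) [MulAction.IsPretransitive (isomGroup B) Ω]
    (hx0 : x ≠ 0) (hρ : Eqv B ρ) : Fintype.card Ω ∣ N0 * (univ.filter (ρ x)).card := by
  rcases isEmpty_or_nonempty Ω with hΩ | ⟨⟨ω₀⟩⟩
  · simp [univ_eq_empty]
  have h1 := double_count (G := isomGroup B) (univ.erase (0 : V)) ρ
    (fun g a ω h => hρ.fix rfl h)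
    (fun g a ha => mem_erase.2 ⟨gsmul_ne_zero g (ne_of_mem_erase ha), mem_univ _⟩) (a₀ := x)
    (fun a ha => exists_smul_eq hA D.hB hx0 (ne_of_mem_erase ha))
    (ω₀ := ω₀) (fun ω => MulAction.exists_smul_eq _ ω₀ ω)
  obtain ⟨b, hb⟩ := sub_one_dvd_card (F := F) ((univ.erase (0 : V)).filter (fun a => ρ a ω₀))
    (by simp) (fun v hv c hc => by
      simp only [mem_filter, mem_erase, mem_univ, and_true] at hv ⊢
      refine ⟨smul_ne_zero hc hv.1, ?_⟩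
      simpa using hρ v (c • v) 1 c⁻¹ (inv_ne_zero hc) (by rw [one_smul, inv_smul_smul₀ hc]) ω₀ hv.2)
  have h2 : (univ.erase (0 : V)).card = (q - 1) * N0 := by
    have := D.hN
    rw [← Module.card_eq_pow_finrank, ← card_univ (α := V), ← card_erase_add_one (mem_univ (0 : V))] at this
    omega
  rw [hb, h2, mul_assoc, mul_left_comm (Fintype.card Ω)] at h1
  have hq := D.hq
  exact ⟨b, Nat.eq_of_mul_eq_mul_left (by omega) h1⟩

variable (hA) in
/-- `Q_x` acts regularly on the orbit of `ω`. -/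
def Reg (x : V) (ω : Ω) : Prop := ZS hA x ω = ⊥ ∧ ∀ u ∈ RB hA x ω, u ∈ F ∙ x

theorem eqv_Reg : Eqv B (Reg hA : V → Ω → Prop) := eqv_bot.and eqv_RB

theorem card_YS_of_bot (h : ZS hA x ω = ⊥) : (ff (YS hA x ω)).card = q := by
  rw [← card_YS_mul (hA := hA) x ω, card_ff (ZS hA x ω), h, AddSubgroup.card_bot, mul_one]

open Classical in
theorem reg_unique (D : Dat B N0) (hN : Fintype.card Ω < N0) (hx : x ≠ 0) (hω : Reg hA x ω) :
    (univ.filter (Reg hA x : Ω → Prop)).card = q * q ^ (finrank F V - 2) ∧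
      ∀ ω', Reg hA x ω' → ω' ∈ orb hA x ω := by
  obtain ⟨x', h⟩ := exists_hyp hA D.hB hx
  have h1 := card_filter_eq_mul_ncl (orb hA x) (mem_orb_self x) (orb_eq x) (Reg hA x : Ω → Prop)
    (eqv_Reg.orb x) (a := q * q ^ (finrank F V - 2)) (fun ω hω => by
      rw [card_orb D.hB h, card_YS_of_bot hω.1, mul_comm, ← card_An_mul (hA := hA) D.hB h ω,
        show hf B x x' (RB hA x ω) = {0} from eq_singleton_iff_unique_mem.2
          ⟨mem_hf.2 ⟨zero_mem _, zero_mem _⟩, fun u hu => by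
            by_contra h0
            exact not_mem_span_of_hp hA h (mem_hf.1 hu).1 h0 (hω.2 u (mem_hf.1 hu).2)⟩]
      simp)
  have h2 : ncl (orb hA x) (Reg hA x : Ω → Prop) ≤ 1 := by
    by_contra h2
    have h3 := Nat.mul_le_mul_left (q * q ^ (finrank F V - 2))
      (show 2 ≤ ncl (orb hA x) (Reg hA x : Ω → Prop) by omega)
    have h4 := card_le_univ (univ.filter (Reg hA x : Ω → Prop))
    have h5 := D.hN'
    obtain ⟨r, hr⟩ : ∃ r, q = r + 3 := ⟨q - 3, by have := D.hq; omega⟩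
    generalize q ^ (finrank F V - 2) = A at *
    rw [hr] at h1 h3 h5
    simp only [show r + 3 - 1 = r + 2 by omega] at h5
    have h6 := Nat.mul_le_mul_left (r + 2) (show (r + 3) * A * 2 ≤ N0 by omega)
    nlinarith [Nat.zero_le (r * r * A), Nat.zero_le (r * A)]
  have h3 := ncl_pos (orb hA x) hω
  exact ⟨by rw [h1, show ncl (orb hA x) (Reg hA x : Ω → Prop) = 1 by omega, mul_one],
    fun ω' hω' => mem_of_ncl_le_one _ (mem_orb_self x) h2 hω hω'⟩

theorem reg_fixed (D : Dat B N0) (hN : Fintype.card Ω < N0) (h : B x x' = 1) (hω : Reg hA x ω) :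
    ∃ ω' : Ω, Reg hA x ω' ∧ ∀ y ∈ hp B x x', ∀ c, isoTv hA y c • ω' = ω' := by
  have hu := (reg_unique D hN (ne_zero_of_hyp hA h) hω).2
  have hR : ∀ {l : F}, l ≠ 1 → ∀ u, (l - 1) • u ∈ RB hA x ω → u ∈ RB hA x ω := fun hl u hu => by
    obtain ⟨a, rfl⟩ := Submodule.mem_span_singleton.1
      ((Submodule.smul_mem_iff _ (sub_ne_zero.2 hl)).1 (hω.2 _ hu))
    exact smul_mem_RB a
  have htv : ∀ ω' ∈ orb hA x ω, ∀ y ∈ hp B x x', ∀ c, isoTv hA y c • ω' ∈ orb hA x ω :=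
    fun ω' h1 y hy c => hu _ (eqv_Reg.fix (tv_smul_of_orth hA (B_symm hA (orth_of_hp hA hy)) c)
      (eqv_Reg.orb x ω ω' h1 hω))
  by_cases hq : 4 ≤ q
  · obtain ⟨l, hl0, hl⟩ := exists_sq_ne_one hq
    obtain ⟨k, hk, hk'⟩ := exists_torus hA D.hB h hl0
    obtain ⟨ω', h1, h2⟩ := kfix h hl hk hk' (hR fun h => hl (by simp [h]))
      (hu _ (eqv_Reg _ _ k l hl0 hk ω hω)) hω.1
    exact ⟨ω', eqv_Reg.orb x ω ω' h1 hω, fun y hy c => h2 y hy c (htv ω' h1 y hy c)⟩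
  have hq3 : q = 3 := by have := D.hq; omega
  have h3 := three_eq_zero hq3
  obtain ⟨l, hl0, hl⟩ := D.exists_ne
  obtain ⟨k, hk, hk'⟩ := exists_torus hA D.hB h hl0
  obtain ⟨ω', h1, -, h2⟩ := kfixZ h hl hk hk' (hR hl) (hu _ (eqv_Reg _ _ k l hl0 hk ω hω))
  have hω' := eqv_Reg.orb x ω ω' h1 hω
  refine ⟨ω', hω', ?_⟩
  have hcomm : ∀ {g : isomGroup B}, g • x = x → ∀ (e : F) (ω : Ω),
      g • isoTv hA x e • ω = isoTv hA x e • g • ω := fun hg e ω => by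
    rw [← mul_smul, mul_tv, hg, mul_smul]
  let K : Subgroup (isomGroup B) :=
    { carrier := {g | g • x = x ∧ ∃ e, g • ω' = isoTv hA x e • ω'}
      one_mem' := ⟨one_smul _ _, 0, by rw [isoTv_zero]⟩
      mul_mem' := by
        rintro a b ⟨a1, e, a2⟩ ⟨b1, e', b2⟩
        exact ⟨by rw [mul_smul, b1, a1], e' + e, by rw [mul_smul, b2, hcomm a1, a2, tv_tv]⟩
      inv_mem' := by
        rintro a ⟨a1, e, a2⟩
        refine ⟨by rw [inv_smul_eq_iff, a1], -e, ?_⟩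
        rw [inv_smul_eq_iff, hcomm a1, a2, tv_tv, neg_add_cancel, isoTv_zero, one_smul] }
  have hK : ∀ w ∈ hp B x x', ∀ c : F, isoTv hA w c ∈ K := fun w hw c =>
    ⟨tv_smul_of_orth hA (B_symm hA (orth_of_hp hA hw)) c, h2 w hw c (htv ω' h1 w hw c)⟩
  have key : ∀ y ∈ hp B x x', y ≠ 0 → isoTv hA y 1 • ω' = ω' := by
    intro y hy hy0
    obtain ⟨s, hs⟩ := (hK y hy 1).2
    have h4 : ∀ z ∈ hp B x x', z ≠ 0 → isoTv hA z 1 • ω' = isoTv hA x s • ω' := fun z hz hz0 => by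
      obtain ⟨g, ⟨g1, e, g2⟩, g3, -⟩ := exists_step_hp hA D.hB h K hK hy hy0 hz hz0
      have h5 := congrArg (fun a => g • a) hs
      rwa [← mul_smul, mul_tv, g3, mul_smul, hcomm g1, g2, tv_comm_x hA
        (B_symm hA (orth_of_hp hA hz)), tv_tv, add_comm, ← tv_tv, smul_left_cancel_iff] at h5
    have h5 : ∀ z ∈ hp B x x', z ≠ 0 → ∀ e, isoTv hA z 1 • isoTv hA x e • ω' =
        isoTv hA x (e + s) • ω' := fun z hz hz0 e => by
      rw [tv_comm_x hA (B_symm hA (orth_of_hp hA hz)), h4 z hz hz0, tv_tv]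
    obtain ⟨z, hz, hzy, hzy'⟩ := exists_orth_not_mem hA D.hB h (D.h3 hq3) hy
    have hz0 : z ≠ 0 := fun h0 => hzy' (h0 ▸ zero_mem _)
    have h6 : isoTv hA (z + y) 1 * isoTv hA (z - y) 1 =
        isoTv hA z 1 * isoTv hA z 1 * isoTv hA y 1 * isoTv hA y 1 := ext_smul fun v => by
      simp only [mul_smul, tv_smul, map_add, map_sub, map_smul, LinearMap.add_apply,
        LinearMap.sub_apply, LinearMap.smul_apply, hzy, B_symm hA hzy, hA.self_eq_zero,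
        smul_eq_mul]
      module
    have h7 := congrArg (fun g => g • ω') h6
    simp only [mul_smul] at h7
    rw [h4 _ (sub_mem hz hy) (fun h0 => hzy' (by
        rw [sub_eq_zero.1 h0]; exact Submodule.mem_span_singleton_self y)),
      h5 _ (add_mem hz hy) (fun h0 => hzy' (by
        rw [eq_neg_of_add_eq_zero_left h0]; exact neg_mem (Submodule.mem_span_singleton_self y))),
      hs, h5 y hy hy0, h5 z hz hz0, h5 z hz hz0,
      tv_eq_iff, hω'.1, AddSubgroup.mem_bot] at h7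
    rw [hs, show s = 0 by linear_combination h7 + s * h3, isoTv_zero, one_smul]
  intro y hy c
  by_cases hy0 : y = 0
  · rw [hy0, isoTv_zero_vec, one_smul]
  by_cases hc : c = 0
  · rw [hc, isoTv_zero, one_smul]
  rcases mul_self_eq_one_iff.1 (mul_self_of_three hq3 hc) with rfl | rfl
  · exact key y hy hy0
  · rw [← isoTv_inv, inv_smul_eq_iff, key y hy hy0]

end Cfsg.Agent.H33.SD
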