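import Cfsg.Agent.H33.SpDeg3

/-! Actions of symplectic groups of small degree: the case analysis. -/

set_option autoImplicit false
set_option linter.unusedSectionVars false

namespace Cfsg.Agent.H33.SD

open Cfsg.Agent.H27 Module OD Finset

variable {F V : Type*} [Field F] [Fintype F] [AddCommGroup V] [Module F V] [Fintype V]
  [FiniteDimensional F V] {B : LinearMap.BilinForm F V} {hA : B.IsAlt} {Ω : Type*}
  [MulAction (isomGroup B) Ω] [Fintype Ω] {x x' : V} {ω : Ω} {ρ : V → Ω → Prop} {N0 : ℕ}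

local notation "q" => Fintype.card F

theorem ar1 {p E c N : ℕ} (hp : 3 ≤ p) (hE : E + 1 = p ^ 2) (hN : (p - 1) * N + 1 = p ^ 4)
    (h1 : 2 * E ≤ p * c) (h2 : p * (c + E) < N) : False := by
  obtain ⟨r, rfl⟩ : ∃ r, p = r + 3 := ⟨p - 3, by omega⟩
  simp only [show r + 3 - 1 = r + 2 by omega] at hN
  obtain rfl : E = r * r + 6 * r + 8 := by nlinarith
  rw [mul_add] at h2
  have := Nat.mul_le_mul_left (r + 2) (show 2 * (r * r + 6 * r + 8) +
    (r + 3) * (r * r + 6 * r + 8) + 1 ≤ N by omega)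
  nlinarith [Nat.zero_le (r * r), Nat.zero_le (r * r * r)]

theorem ar2 {p E c N N0 f : ℕ} (hp : 3 ≤ p) (hE : E + 1 = p ^ 2) (hN : (p - 1) * N0 + 1 = p ^ 4)
    (h1 : E ≤ (p - 1) * c) (h2 : p * (c + E) + f ≤ N) (h3 : N < N0) (hf : 0 < f)
    (h4 : N ∣ N0 * f) : False := by
  obtain ⟨r, rfl⟩ : ∃ r, p = r + 3 := ⟨p - 3, by omega⟩
  simp only [show r + 3 - 1 = r + 2 by omega] at hN h1
  obtain rfl : E = r * r + 6 * r + 8 := by nlinarith
  obtain rfl : N0 = (r + 3) * (r + 4 + (r * r + 6 * r + 8)) + (r + 4) :=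
    Nat.eq_of_mul_eq_mul_left (show 0 < r + 2 by omega) (by nlinarith)
  have h15 : r + 4 ≤ c := Nat.le_of_mul_le_mul_left (by nlinarith) (show 0 < r + 2 by omega)
  have h16 := Nat.mul_le_mul_left (r + 3) (Nat.add_le_add_right h15 (r * r + 6 * r + 8))
  obtain ⟨e, he⟩ : ∃ e, (r + 3) * (r + 4 + (r * r + 6 * r + 8)) + (r + 4) = N + e :=
    ⟨_, (Nat.add_sub_cancel' h3.le).symm⟩
  rw [he, add_mul, Nat.dvd_add_right (dvd_mul_right _ _)] at h4
  have h17 := Nat.le_of_dvd (Nat.mul_pos (by omega) hf) h4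
  have h18 := Nat.mul_le_mul (show e ≤ r + 4 by omega) (show f ≤ r + 4 by omega)
  have h19 := (h16.trans (Nat.le_add_right _ f)).trans (h2.trans (h17.trans h18))
  nlinarith [Nat.zero_le (r * r), Nat.zero_le (r * r * r)]

theorem tv_mem_orb (hρ : Eqv B ρ) {w a : V} (hμ : mu hA ρ x w 0 ≤ 1) (hω : ρ x ω)
    (hw : w ∈ An hA x ω) (ha : B a x = 0) (hwa : B w a = 0) (c : F) :
    isoTv hA a c • ω ∈ orb hA x ω := by
  have h1 := tv_smul_of_orth hA (B_symm hA ha) c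
  refine mem_orb_of_mu hμ hω hw (hρ.fix h1 hω) ?_
  simpa [tv_smul_of_orth hA hwa] using An_gsmul' h1 hw

theorem smul_mem_of_tv {W : AddSubgroup V} {a u : V} (hu : u ∈ W) (hua : B u a ≠ 0)
    (h : ∀ c, isoTv hA a c • u ∈ W) (s : F) : s • a ∈ W := by
  have := sub_mem (h (s / B u a)) hu
  rwa [tv_smul, add_sub_cancel_left, div_mul_cancel₀ _ hua] at this

theorem full (hB : B.Nondegenerate) (h : B x x' = 1) (hρ : Eqv B ρ)
    (hμ : ∀ w ∈ hp B x x', w ≠ 0 → mu hA ρ x w 0 ≤ 1) (hω : ρ x ω) {w₁ w₂ : V}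
    (h1 : w₁ ∈ hp B x x') (h1' : w₁ ∈ An hA x ω) (h0 : w₁ ≠ 0) (h2 : w₂ ∈ hp B x x')
    (h2' : w₂ ∈ An hA x ω) (h12 : w₂ ∉ F ∙ w₁) : ∀ b ∈ hp B x x', b ∈ An hA x ω := by
  have star : ∀ a ∈ hp B x x', ∀ w ∈ hp B x x', w ∈ An hA x ω → w ≠ 0 → B w a = 0 →
      ∀ w' ∈ An hA x ω, B w' a ≠ 0 → ∀ s : F, s • a ∈ An hA x ω :=
    fun a ha w hw hw' hw0 hwa w' h3 h4 => smul_mem_of_tv h3 h4 fun c =>
      An_of_mem_orb (tv_mem_orb hρ (hμ w hw hw0) hω hw' (orth_of_hp hA ha) hwa c) ▸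
        An_gsmul' (tv_smul_of_orth hA (B_symm hA (orth_of_hp hA ha)) c) h3
  obtain ⟨a, ha, h3, h4⟩ := exists_hp_pair hA hB h h1 h2 h12
  have h5 := star a ha w₁ h1 h1' h0 h3 w₂ h2' (by simp [h4])
  have h6 : ∀ b ∈ hp B x x', ∀ w' ∈ An hA x ω, B w' b ≠ 0 → b ∈ An hA x ω := by
    intro b hb w' h7 h8
    rw [← one_smul F b]
    by_cases hab : B a b = 0
    · exact star b hb a ha (one_smul F a ▸ h5 1) (by rintro rfl; simp at h4) hab w' h7 h8 1
    · refine star b hb (w₂ + (-B w₂ b / B a b) • a) (add_mem h2 (Submodule.smul_mem _ _ ha))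
        (add_mem h2' (h5 _)) (fun h9 => ?_) ?_ w' h7 h8 1
      · simpa [h4, hA.self_eq_zero] using congrArg (fun z => B z a) h9
      · simp [div_mul_cancel₀ _ hab]
  intro b hb
  by_cases h7 : B w₂ b = 0
  · have := sub_mem (h6 (b + a) (add_mem hb ha) w₂ h2' (by simp [h7, h4])) (h5 1)
    rwa [one_smul, add_sub_cancel_right] at this
  · exact h6 b hb w₂ h2' h7

theorem RB_of_full (hB : B.Nondegenerate) (h : B x x' = 1)
    (hf : ∀ b ∈ hp B x x', b ∈ An hA x ω) : ∀ u ∈ RB hA x ω, u ∈ F ∙ x := by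
  intro u hu
  have h1 := pr_mem hA h (orth_of_RB hu)
  have h2 : u - B u x' • x = 0 := by
    by_contra h0
    obtain ⟨a, ha, h3⟩ := exists_hp_one hA hB h h1 h0
    refine one_ne_zero (eq_zero_of_ps (F := F) fun c => ?_)
    have := (hf _ (Submodule.smul_mem _ (-c) ha)).2 _ (sub_mem hu (smul_mem_RB (B u x')))
    rwa [map_smul, LinearMap.smul_apply, B_swap hA a, h3, smul_eq_mul, neg_mul_neg] at this
  exact Submodule.mem_span_singleton.2 ⟨_, (sub_eq_zero.1 h2).symm⟩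

theorem not_Reg (D : Dat B N0) (hN : Fintype.card Ω < N0)
    [MulAction.IsPretransitive (isomGroup B) Ω] (hx : x ≠ 0) (ω : Ω) : ¬ Reg hA x ω := by
  classical
  intro hω
  have hB := D.hB
  obtain ⟨x', h⟩ := exists_hyp hA hB hx
  obtain ⟨ω, hω, hfix⟩ := reg_fixed D hN h hω
  obtain ⟨y, hy, hy0⟩ := D.exists_hp hA h
  obtain ⟨y', hy', hyy⟩ := exists_hp_one hA hB h hy hy0
  have hxy := B_symm hA (orth_of_hp hA hy)
  have hxh : x ∈ hp B y y' := (mem_hp hA).2 ⟨hxy, B_symm hA (orth_of_hp hA hy')⟩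
  have hZ : ZS hA y ω = ⊤ := eq_top_iff.2 fun c _ => hfix y hy c
  obtain ⟨w, hw, hw', hw0⟩ : ∃ w ∈ hp B y y', w ∈ An hA y ω ∧ w ≠ 0 := by
    by_contra! hcon
    obtain ⟨c, hc⟩ := mem_RB_of_An (hA := hA) (ω := ω) hB hyy hxy
      fun w hw hw' => by simp [hcon w hw hw']
    have := hc.add_ZS (d := -c) (hZ ▸ AddSubgroup.mem_top _)
    rw [add_neg_cancel] at this
    exact not_mem_span_of_hp hA h hy hy0 (hω.2 y ⟨0, this.swap⟩)
  obtain ⟨g, hg⟩ := exists_smul_eq hA hB hx hy0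
  have h1 := (reg_unique D hN hy0 (eqv_Reg.fix hg hω)).1
  have h2 : (univ.filter (Reg hA y : Ω → Prop)).card +
      (univ.filter (fun ω : Ω => ZS hA y ω = ⊤)).card ≤ Fintype.card Ω := by
    rw [← card_union_of_disjoint (disjoint_filter.2 fun ω _ h3 h4 => bot_ne_top (h3.1.symm.trans h4))]
    exact card_le_univ _
  have h3 := sum_mu_le (hA := hA) (Ω := Ω) hB hyy (eqv_top (hA := hA)) {0}
  rw [sum_singleton] at h3
  have h4 := card_erase_hf hA hB hyy
  have h5 := D.hN'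
  have h6 := mu_pos (hA := hA) (ρ := fun x (ω : Ω) => ZS hA x ω = ⊤) hZ (zero_mem _) (zero_mem _)
  have h7 := mul_le_sum_mu hB hyy eqv_top hw hw0
    (mu_pos (ρ := fun x (ω : Ω) => ZS hA x ω = ⊤) hZ hw' (zero_mem _))
  obtain ⟨r, hr⟩ : ∃ r, q = r + 3 := ⟨q - 3, by have := D.hq; omega⟩
  have hμ : ∀ w ∈ hp B y y', w ≠ 0 → mu hA (fun x (ω : Ω) => ZS hA x ω = ⊤) y w 0 ≤ 1 := by
    intro w hw hw0
    by_contra h8
    have h9 := mul_le_sum_mu hB hyy eqv_top hw hw0 (k := 2) (not_le.1 h8)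
    generalize ((hf B y y' ⊤).erase 0).card = E at *
    rw [← h4] at h1 h5
    rw [hr] at h1 h5
    simp only [show r + 3 - 1 = r + 2 by omega] at h5
    have := Nat.mul_le_mul_left (r + 2) (show (r + 3) * (E + 1) + 2 * E + 2 ≤ N0 by omega)
    nlinarith [Nat.zero_le (r * E)]
  by_cases hpt : ∀ ω' : Ω, ZS hA y ω' = ⊤ → ∃ v, ∀ w ∈ hp B y y', w ∈ An hA y ω' → w ∈ F ∙ v
  · have h8 := sum_mu_le_ncl (hA := hA) (x := y) (x' := y') (a := q - 1)
      (ρ := fun x (ω : Ω) => ZS hA x ω = ⊤) fun ω' hω' => by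
        obtain ⟨v, hv⟩ := hpt ω' hω'
        have := card_hf_le hv
        omega
    have h9 := dvd_of_rel (Ω := Ω) D hA hy0 (eqv_Reg (hA := hA))
    rw [h1] at h9
    have hE : 0 < ((hf B y y' ⊤).erase 0).card :=
      card_pos.2 ⟨w, mem_erase.2 ⟨hw0, mem_hf.2 ⟨hw, trivial⟩⟩⟩
    generalize ((hf B y y' ⊤).erase 0).card = E at *
    rw [← h4] at h1 h5 h9
    rw [hr] at h1 h5 h8 h9
    simp only [show r + 3 - 1 = r + 2 by omega] at h5 h8
    generalize mu hA (fun x (ω : Ω) => ZS hA x ω = ⊤) y 0 0 = c at *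
    have h10 : N0 = Fintype.card Ω + 1 := by
      by_contra h10
      have := Nat.mul_le_mul_left (r + 2) (show (r + 3) * (E + 1) + c + E + 2 ≤ N0 by omega)
      nlinarith
    rw [h10, add_mul, one_mul, Nat.dvd_add_right (dvd_mul_right _ _)] at h9
    have := Nat.le_of_dvd (by positivity) h9
    omega
  push Not at hpt
  obtain ⟨ω', hω', hpt⟩ := hpt
  obtain ⟨w₁, a1, a2, a3⟩ := hpt 0
  obtain ⟨w₂, b1, b2, b3⟩ := hpt w₁
  have hfull := full hB hyy eqv_top hμ hω' a1 a2 (by simpa using a3) b1 b2 b3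
  have horb : ∀ ω₁ : Ω, ZS hA y ω₁ = ⊤ → ∀ w ∈ hp B y y', w ≠ 0 → w ∈ An hA y ω₁ →
      ω₁ ∈ orb hA y ω' := fun ω₁ c1 w c2 c3 c4 =>
    mem_orb_of_mu (hμ w c2 c3) hω' (hfull w c2) c1 c4
  have hm := horb ω hZ w hw hw0 hw'
  rw [← orb_eq y ω' ω hm] at horb
  rw [← An_of_mem_orb hm] at hfull
  have hR := RB_of_full hB hyy hfull
  obtain ⟨l, hl0, hl⟩ := D.exists_ne
  obtain ⟨k, hk, hk'⟩ := exists_torus hA hB hyy hl0
  obtain ⟨ω₁, c1, -, c2⟩ := kfixZ hyy hl hk hk' (fun u hu => by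
      obtain ⟨a, rfl⟩ := Submodule.mem_span_singleton.1
        ((Submodule.smul_mem_iff _ (sub_ne_zero.2 hl)).1 (hR _ hu))
      exact smul_mem_RB a)
    (horb _ (eqv_top _ _ k l hl0 hk ω hZ) _ (Submodule.smul_mem _ l⁻¹ hw)
      (smul_ne_zero (inv_ne_zero hl0) hw0) (hk' w hw ▸ An_gsmul hl0 hk hw'))
  have c3 : ZS hA y ω₁ = ⊤ := eqv_top.orb y ω ω₁ c1 hZ
  have c4 : ZS hA x ω₁ = ⊤ := eq_top_iff.2 fun c _ => by
    have d1 := tv_smul_of_orth hA (B_symm hA hxy) c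
    obtain ⟨θ, hθ⟩ := c2 x hxh c (horb _ (eqv_top.fix d1 c3) x hxh hx (by
      have := An_gsmul' d1 (An_of_mem_orb c1 ▸ hfull x hxh)
      rwa [tv_smul_of_orth hA (hA.self_eq_zero x)] at this))
    exact hθ.trans (mem_ZS.1 (c3 ▸ AddSubgroup.mem_top θ))
  obtain ⟨s, d, hs, hsd⟩ := mem_orb.1 (mem_orb_symm c1)
  have c5 := eqv_top.fix (S_smul_of_orth hA hs d hxy) c4
  beta_reduce at c5
  rw [hsd] at c5
  have c6 : B x s ≠ 0 := fun h0 => by
    rw [h0, zero_smul, add_zero, hω.1] at c5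
    exact bot_ne_top c5
  obtain ⟨g', d1, d2, d3⟩ := exists_step_hp hA hB h (MulAction.stabilizer _ ω) hfix hy hy0
    (Submodule.smul_mem _ l hy) (smul_ne_zero hl0 hy0)
  have c7 := eqv_top.fix (g := g') rfl c5
  beta_reduce at c7
  rw [d1, gsmul_add, gsmul_smul, d2, d3, smul_smul] at c7
  have c8 : (isoTv hA (x + B x s • y) 1 * isoTv hA (x + (B x s * l) • y) (-1)) • ω = ω := by
    rw [mul_smul, mem_ZS.1 (c7.ge trivial), mem_ZS.1 (c5.ge trivial)]
  rw [tv_mul_tv hA hxy] at c8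
  refine not_mem_span_of_hp hA hyy hxh hx ((Submodule.smul_mem_iff _ ?_).1
    (hR _ ⟨_, by simp [hxy], c8⟩))
  rw [one_mul, ← mul_one_sub]
  exact mul_ne_zero c6 (sub_ne_zero.2 hl.symm)

theorem comm_mem_ZS {u u' : V} (hu : u ∈ RB hA x ω) (hu' : u' ∈ RB hA x ω) :
    2 * B u' u ∈ ZS hA x ω := by
  obtain ⟨c, hc⟩ := hu
  obtain ⟨c', hc'⟩ := hu'
  have := (hc.add hc').sub_mem_ZS (add_comm u u' ▸ hc'.add hc)
  convert this using 1
  rw [B_swap hA u u']
  ring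

theorem two_mul_le_card {W : AddSubgroup V} {w u : V} (hw : w ∈ hp B x x') (hw0 : w ≠ 0)
    (hw' : ∀ s : F, s • w ∈ W) (hu : u ∈ hp B x x') (hu' : u ∈ W) (huw : u ∉ F ∙ w) :
    2 * q ≤ (hf B x x' W).card := by
  classical
  have h1 : (univ.image (fun s : F => s • w)).card = q :=
    card_image_of_injective _ (smul_left_injective F hw0)
  have h2 : (univ.image (fun s : F => u + s • w)).card = q :=
    card_image_of_injective _ fun a b h => smul_left_injective F hw0 (add_left_cancel h)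
  rw [two_mul]
  nth_rewrite 1 [← h1]
  rw [← h2, ← card_union_of_disjoint]
  · refine card_le_card fun z hz => ?_
    rcases mem_union.1 hz with hz | hz <;> obtain ⟨s, -, rfl⟩ := mem_image.1 hz
    · exact mem_hf.2 ⟨Submodule.smul_mem _ _ hw, hw' s⟩
    · exact mem_hf.2 ⟨add_mem hu (Submodule.smul_mem _ _ hw), add_mem hu' (hw' s)⟩
  · refine disjoint_left.2 fun z h3 h4 => huw ?_
    obtain ⟨s, -, rfl⟩ := mem_image.1 h3
    obtain ⟨t, -, h5⟩ := mem_image.1 h4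
    exact Submodule.mem_span_singleton.2 ⟨s - t, by rw [sub_smul, ← h5, add_sub_cancel_right]⟩

theorem smul_mem_of_card {W : AddSubgroup V} {v : V} (h : ∀ w ∈ hp B x x', w ∈ W → w ∈ F ∙ v)
    (hc : q ≤ (hf B x x' W).card) (s : F) : s • v ∈ W := by
  classical
  have := eq_of_subset_of_card_le (s := hf B x x' W) (t := univ.image (fun a : F => a • v))
    (fun w hw => by
      obtain ⟨a, ha⟩ := Submodule.mem_span_singleton.1 (h w (mem_hf.1 hw).1 (mem_hf.1 hw).2)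
      exact mem_image.2 ⟨a, mem_univ _, ha⟩) (card_image_le.trans (card_univ.le.trans hc))
  exact (mem_hf.1 (this ▸ mem_image.2 ⟨s, mem_univ _, rfl⟩ : s • v ∈ hf B x x' W)).2

theorem mu_bot_le (D : Dat B N0) (hN : Fintype.card Ω < N0) (h : B x x' = 1) {w : V}
    (hw : w ∈ hp B x x') (hw0 : w ≠ 0) : mu hA (fun x (ω : Ω) => ZS hA x ω = ⊥) x w 0 ≤ 1 := by
  classical
  by_contra h1
  have h2 := mul_le_sum_mu D.hB h eqv_bot hw hw0 (k := 2) (not_le.1 h1)
  have h3 := sum_mu_le (hA := hA) (Ω := Ω) D.hB h (eqv_bot (hA := hA)) univ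
  simp only [mu_bot (ρ := fun x (ω : Ω) => ZS hA x ω = ⊥) (fun _ h => h), sum_const,
    card_univ, smul_eq_mul] at h3
  have h4 := card_erase_hf hA D.hB h
  have h5 := D.hN'
  have h6 := D.sq_le
  have h7 := card_le_univ (univ.filter (fun ω : Ω => ZS hA x ω = ⊥))
  obtain ⟨r, hr⟩ : ∃ r, q = r + 3 := ⟨q - 3, by have := D.hq; omega⟩
  generalize ((hf B x x' ⊤).erase 0).card = E at *
  rw [← h4] at h5 h6
  rw [hr] at h3 h5 h6
  simp only [show r + 3 - 1 = r + 2 by omega] at h5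
  have h8 := Nat.mul_le_mul_left (r + 3) (h2.trans (Nat.le_add_left _
    (mu hA (fun x (ω : Ω) => ZS hA x ω = ⊥) x 0 0)))
  have := Nat.mul_le_mul_left (r + 2) (show (r + 3) * (E * 2) ≤ N0 by omega)
  nlinarith [Nat.zero_le (r * E), Nat.zero_le (r * r * E)]

theorem RB_le_of_An (D : Dat B N0) (hN : Fintype.card Ω < N0) (h : B x x' = 1)
    (hZ : ZS hA x ω = ⊥) {w : V} (hw : w ∈ hp B x x') (hw' : w ∈ An hA x ω) (hw0 : w ≠ 0) :
    ∀ u ∈ hp B x x', u ∈ RB hA x ω → u ∈ F ∙ w := by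
  classical
  have hB := D.hB
  intro u hu hu'
  by_contra huw
  have ho : ∀ a ∈ hp B x x', B w a = 0 → ∀ c, isoTv hA a c • ω ∈ orb hA x ω := fun a ha hwa c =>
    tv_mem_orb eqv_bot (mu_bot_le D hN h hw hw0) hZ hw' (orth_of_hp hA ha) hwa c
  have h1 : ∀ a ∈ hp B x x', B w a = 0 → ∀ u ∈ RB hA x ω, B u a ≠ 0 → ∀ s : F, s • a ∈ RB hA x ω :=
    fun a ha hwa u hu hua => smul_mem_of_tv hu hua fun c => RB_of_mem_orb (ho a ha hwa c) ▸
      RB_gsmul' (tv_smul_of_orth hA (B_symm hA (orth_of_hp hA ha)) c) hu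
  obtain ⟨a, ha, hwa, hua⟩ := exists_hp_pair hA hB h hw hu huw
  have h2 : (2 : F) = 0 := by
    have := comm_mem_ZS (h1 a ha hwa u hu' (by simp [hua]) 1) hu'
    simpa [hZ, hua] using this
  have h3 : ∀ a ∈ hp B x x', B w a = 0 → ∀ u ∈ RB hA x ω, B u a ≠ 0 → St hA x ω a (-B u a) := by
    rintro a ha hwa u ⟨e, he⟩ hua
    have h4 := (St_of_mem_orb h2 (mem_orb_symm (ho a ha hwa (B u a)⁻¹)) ((St_gsmul'
      (tv_smul_of_orth hA (B_symm hA (orth_of_hp hA ha)) (B u a)⁻¹)).2 he)).sub he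
    simpa [tv_smul, hua, hA.self_eq_zero] using h4
  have h4 : ∀ a ∈ hp B x x', B w a = 0 → B u a = 1 → a ∈ F ∙ w := by
    intro a ha hwa hua
    by_contra haw
    obtain ⟨a', ha', hwa', haa⟩ := exists_hp_pair hA hB h hw ha haw
    obtain ⟨l, hl0, hl⟩ := D.exists_ne
    have h5 := h1 a ha hwa u hu' (by simp [hua])
    have h6 := (h3 a' ha' hwa' _ (h5 1) (by simp [haa])).sub_mem_ZS
      (h3 a' ha' hwa' _ (h5 l) (by simp [haa, hl0]))
    simp only [hZ, AddSubgroup.mem_bot, map_smul, LinearMap.smul_apply, haa, smul_eq_mul] at h6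
    exact hl (by linear_combination h6)
  rcases D.hd with hd | hd
  · have ha0 : a ≠ 0 := by rintro rfl; simp at hua
    have h5 := two_mul_le_card ha ha0 (h1 a ha hwa u hu' (by simp [hua])) hu hu' (fun hm => by
      obtain ⟨s, rfl⟩ := Submodule.mem_span_singleton.1 hm
      simp [hA.self_eq_zero] at hua)
    have hE := card_erase_hf hA hB h
    have h6 := fun ω : Ω => card_An_mul (hA := hA) hB h ω
    have h7 := D.hN
    rw [hd] at hE h6 h7
    have hq0 : 0 < q := Fintype.card_pos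
    let ρ : V → Ω → Prop := fun x ω => ZS hA x ω = ⊥ ∧ 2 * (orb hA x ω).card ≤ q * q
    have hρ : Eqv B ρ := eqv_bot.and (eqv_card fun n => 2 * n ≤ q * q)
    have h8 : ρ x ω := ⟨hZ, by
      rw [card_orb hB h, card_YS_of_bot hZ, ← mul_assoc]
      refine Nat.mul_le_mul_right _ (Nat.le_of_mul_le_mul_right ?_ hq0)
      have := Nat.mul_le_mul_left (hf B x x' (An hA x ω)).card h5
      rw [h6] at this
      calc _ = (hf B x x' (An hA x ω)).card * (2 * q) := by ring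
        _ ≤ _ := this
        _ = _ := by ring⟩
    have h9 := mul_le_sum_mu hB h hρ hw hw0 (mu_pos h8 hw' (zero_mem _))
    have h10 := sum_mu_le_ncl (hA := hA) (x := x) (x' := x') (a := q / 2) (ρ := ρ) fun ω hω => by
      have := hω.2
      rw [card_orb hB h, card_YS_of_bot hω.1, ← mul_assoc] at this
      have := Nat.le_of_mul_le_mul_right this hq0
      omega
    have h11 := sum_mu_le (hA := hA) hB h hρ univ
    simp only [mu_bot (ρ := ρ) (fun _ h => h.1), sum_const, card_univ, smul_eq_mul] at h11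
    refine ar1 D.hq hE h7 (c := mu hA ρ x 0 0) ?_ (lt_of_le_of_lt ?_ hN)
    · have := Nat.mul_le_mul_right (mu hA ρ x 0 0) (Nat.div_mul_le_self q 2)
      rw [mul_right_comm] at this
      omega
    · exact (Nat.mul_le_mul_left q (Nat.add_le_add_left (by simpa using h9) _)).trans
        (h11.trans (card_le_univ _))
  · obtain ⟨b, hb, hwb, hub, hbw⟩ : ∃ b ∈ hp B x x', B w b = 0 ∧ B u b = 0 ∧ b ∉ F ∙ w := by
      by_contra! hcon
      have h5 : B.orthogonal (Submodule.span F {x, x', w, u}) ≤ F ∙ w := fun b hb => by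
        have := fun z hz => hb z (Submodule.subset_span hz)
        exact hcon b ((mem_hp hA).2 ⟨B_symm hA (this x (by simp)), B_symm hA (this x' (by simp))⟩)
          (this w (by simp)) (this u (by simp))
      have h6 := Submodule.finrank_mono h5
      rw [LinearMap.BilinForm.finrank_orthogonal hB, finrank_span_singleton hw0] at h6
      have h7 : finrank F (Submodule.span F ({x, x', w, u} : Set V)) ≤ 4 := by
        refine (finrank_span_le_card ({x, x', w, u} : Set V)).trans ?_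
        simpa using card_le_four
      omega
    exact hbw ((Submodule.add_mem_iff_right _ (h4 a ha hwa hua)).1
      (h4 (a + b) (add_mem ha hb) (by simp [hwa, hwb]) (by simp [hua, hub])))

theorem not_bot (D : Dat B N0) (hN : Fintype.card Ω < N0)
    [MulAction.IsPretransitive (isomGroup B) Ω] (h : B x x' = 1) (hZ : ZS hA x ω = ⊥) {w : V}
    (hw : w ∈ hp B x x') (hw' : w ∈ An hA x ω) : w = 0 := by
  classical
  by_contra hw0
  have hB := D.hB
  have hx := ne_zero_of_hyp hA h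
  have hq0 : 0 < q := Fintype.card_pos
  have hAn : ∀ ω : Ω, ZS hA x ω = ⊥ → ∃ u ∈ hp B x x', u ∈ RB hA x ω ∧ u ≠ 0 ∧
      ∀ w ∈ hp B x x', w ∈ An hA x ω → w ∈ F ∙ u := by
    intro ω hZ
    obtain ⟨u, hu, hux⟩ : ∃ u ∈ RB hA x ω, u ∉ F ∙ x := by
      by_contra! hcon
      exact not_Reg D hN hx ω ⟨hZ, hcon⟩
    have h1 := pr_mem hA h (orth_of_RB hu)
    have h2 := sub_mem hu (smul_mem_RB (B u x'))
    have h3 : u - B u x' • x ≠ 0 := fun h0 =>
      hux (Submodule.mem_span_singleton.2 ⟨_, (sub_eq_zero.1 h0).symm⟩)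
    refine ⟨_, h1, h2, h3, fun w hw hw' => ?_⟩
    by_cases hw0 : w = 0
    · simp [hw0]
    · obtain ⟨a, ha⟩ := Submodule.mem_span_singleton.1 (RB_le_of_An D hN h hZ hw hw' hw0 _ h1 h2)
      have ha0 : a ≠ 0 := by rintro rfl; exact h3 (by rw [← ha, zero_smul])
      exact Submodule.mem_span_singleton.2 ⟨a⁻¹, by rw [← ha, inv_smul_smul₀ ha0]⟩
  obtain ⟨u, hu, hu', hu0, hu''⟩ := hAn ω hZ
  have hRB := RB_le_of_An D hN h hZ hw hw' hw0
  have h1 := card_hf_le hu''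
  have h2 := card_hf_le hRB
  have h3 := card_An_mul (hA := hA) hB h ω
  have h4 := D.sq_le
  have hq := D.hq
  have hd : finrank F V = 4 := by
    by_contra hd
    have h5 : q ^ 4 ≤ q ^ (finrank F V - 2) :=
      Nat.pow_le_pow_right hq0 (by have := D.hd; omega)
    have h6 := Nat.mul_le_mul h1 h2
    have h7 : q ^ 2 < q ^ 4 := Nat.pow_lt_pow_right (by omega) (by omega)
    rw [pow_two] at h7
    omega
  rw [← h3, pow_two] at h4
  have hRw := smul_mem_of_card hRB (by nlinarith)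
  have hAu := smul_mem_of_card hu'' (by nlinarith)
  have hAw : ∀ s : F, s • w ∈ An hA x ω := fun s => by
    obtain ⟨a, rfl⟩ := Submodule.mem_span_singleton.1 (hu'' w hw hw')
    rw [smul_smul]
    exact hAu _
  obtain ⟨l, hl0, hl⟩ := exists_sq_ne_one (F := F) (by have := D.h3; omega)
  obtain ⟨k, hk, hk'⟩ := exists_torus hA hB h hl0
  have hμ := fun w hw hw0 => mu_bot_le (hA := hA) (Ω := Ω) D hN h (w := w) hw hw0
  obtain ⟨ω', h5, h6⟩ := kfix h hl hk hk' (fun v hv => by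
      have hl1 : l - 1 ≠ 0 := sub_ne_zero.2 fun h => hl (by simp [h])
      obtain ⟨a, ha⟩ := Submodule.mem_span_singleton.1
        (hRB _ (pr_mem hA h (orth_of_RB hv)) (sub_mem hv (smul_mem_RB _)))
      rw [← inv_smul_smul₀ hl1 v, ← sub_add_cancel ((l - 1) • v) (B ((l - 1) • v) x' • x), ← ha,
        smul_add, smul_smul, smul_smul]
      exact add_mem (hRw _) (smul_mem_RB _))
    (mem_orb_of_mu (hμ _ (Submodule.smul_mem _ l⁻¹ hw) (smul_ne_zero (inv_ne_zero hl0) hw0)) hZ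
      (hAw _) (eqv_bot _ _ k l hl0 hk ω hZ) (hk' w hw ▸ An_gsmul hl0 hk hw')) hZ
  have h7 : ZS hA w ω' ≠ ⊥ := fun h0 => by
    have h8 := h6 w hw 1 (orb_eq x ω ω' h5 ▸ tv_mem_orb eqv_bot (hμ w hw hw0)
      (eqv_bot.orb x ω ω' h5 hZ) (An_of_mem_orb h5 ▸ hw') (orth_of_hp hA hw) (hA.self_eq_zero w) 1)
    simpa [h0] using mem_ZS.2 h8
  obtain ⟨g, hg⟩ := exists_smul_eq hA hB hw0 hx
  have h8 : 0 < (univ.filter (fun ω : Ω => ¬ ZS hA x ω = ⊥)).card :=
    card_pos.2 ⟨g • ω', mem_filter.2 ⟨mem_univ _, eqv_bot.not.fix hg h7⟩⟩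
  have h9 := dvd_of_rel (Ω := Ω) D hA hx (eqv_bot (hA := hA)).not
  have h10 := card_filter_add_card_filter_not (s := univ) (fun ω : Ω => ZS hA x ω = ⊥)
  have h11 := sum_mu_le (hA := hA) (Ω := Ω) hB h (eqv_bot (hA := hA)) univ
  simp only [mu_bot (ρ := fun x (ω : Ω) => ZS hA x ω = ⊥) (fun _ h => h), sum_const,
    card_univ, smul_eq_mul] at h10 h11
  have h12 := mul_le_sum_mu hB h eqv_bot hw hw0
    (mu_pos (ρ := fun x (ω : Ω) => ZS hA x ω = ⊥) hZ hw' (zero_mem _))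
  have h13 := sum_mu_le_ncl (hA := hA) (x := x) (x' := x') (a := q - 1)
    (ρ := fun x (ω : Ω) => ZS hA x ω = ⊥) fun ω' hω' => by
      obtain ⟨v, -, -, -, hv⟩ := hAn ω' hω'
      have := card_hf_le hv
      omega
  have hE := card_erase_hf hA hB h
  have h14 := D.hN
  rw [hd] at hE h14
  rw [mul_one] at h12
  refine ar2 D.hq hE h14 (h12.trans h13) ?_ hN h8 (by convert h9)
  rw [← h10]
  refine Nat.add_le_add_right ((Nat.mul_le_mul_left q (Nat.add_le_add_left h12 _)).trans ?_) _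
  convert h11

end Cfsg.Agent.H33.SD
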