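import Cfsg.Agent.H33.SpDeg4
import Cfsg.Agent.H27.AltCount

/-! The minimal degree of the symplectic groups over fields with at least three elements. -/

set_option autoImplicit false
set_option linter.unusedSectionVars false

namespace Cfsg.Agent.H33.SD

open Cfsg.Agent.H27 Module OD Finset

variable {F V : Type*} [Field F] [Fintype F] [AddCommGroup V] [Module F V] [Fintype V]
  [FiniteDimensional F V] {B : LinearMap.BilinForm F V} {hA : B.IsAlt} {Ω : Type*}
  [MulAction (isomGroup B) Ω] [Fintype Ω] {x x' : V} {ω : Ω} {N0 : ℕ}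

local notation "q" => Fintype.card F

theorem exists_YS (h : ZS hA x ω ≠ ⊤) : ∃ y ∈ YS hA x ω, y ≠ 0 := by
  by_contra! hcon
  have h1 := card_YS_mul (hA := hA) x ω
  rw [show ff (YS hA x ω) = {0} from eq_singleton_iff_unique_mem.2
    ⟨mem_ff.2 (zero_mem _), fun y hy => hcon y (mem_ff.1 hy)⟩, card_singleton, one_mul,
    ← card_univ] at h1
  exact h (eq_top_iff.2 fun c _ => mem_ff.1 (eq_univ_of_card _ h1 ▸ mem_univ c))

theorem odd_main (D : Dat B N0) (hN : Fintype.card Ω < N0) (h2 : (2 : F) ≠ 0)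
    [MulAction.IsPretransitive (isomGroup B) Ω] (hx : x ≠ 0) (ω : Ω) : ZS hA x ω = ⊤ := by
  classical
  have hB := D.hB
  have hne : ∀ v : V, v ≠ 0 → ∃ b ∈ ZS hA v ω, b ≠ 0 := by
    intro v hv
    by_contra! hcon
    have hZ : ZS hA v ω = ⊥ := eq_bot_iff.2 hcon
    obtain ⟨v', h⟩ := exists_hyp hA hB hv
    refine not_Reg D hN hv ω ⟨hZ, fun u hu => ?_⟩
    have h1 := sub_mem hu (smul_mem_RB (B u v'))
    have h3 := not_bot D hN h hZ (pr_mem hA h (orth_of_RB hu)) ⟨orth_of_RB h1, fun u' hu' => by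
      have := comm_mem_ZS hu' h1
      rw [hZ, AddSubgroup.mem_bot, mul_eq_zero, or_iff_right h2] at this
      rw [this, AddChar.map_zero_eq_one]⟩
    exact Submodule.mem_span_singleton.2 ⟨_, (sub_eq_zero.1 h3).symm⟩
  by_contra hZ
  obtain ⟨x', h⟩ := exists_hyp hA hB hx
  obtain ⟨y, hy, hy0⟩ := exists_YS hZ
  have h1 : (hf B x x' (RB hA x ω)).card ≤ (hf B x x' (An hA x ω)).card := by
    refine card_le_card_of_injOn (fun u => (y * 2) • u) (fun u hu => ?_)
      (smul_right_injective V (mul_ne_zero hy0 h2)).injOn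
    obtain ⟨h3, h4⟩ := mem_hf.1 hu
    refine mem_hf.2 ⟨Submodule.smul_mem _ _ h3, by simp [orth_of_RB h4], fun u' hu' => ?_⟩
    rw [map_smul, LinearMap.smul_apply, smul_eq_mul, mul_assoc]
    exact hy _ (comm_mem_ZS hu' h4)
  have h3 : ∀ u ∈ (hf B x x' ⊤).erase 0, ∃ s : F, s ≠ 0 ∧ s • u ∈ RB hA x ω := by
    intro u hu
    have hu' := (mem_hf.1 (mem_of_mem_erase hu)).1
    have h4 : ∀ c : F, ∃ b ∈ ZS hA (u + c • x) ω, b ≠ 0 := fun c => hne _ fun h0 =>
      not_mem_span_of_hp hA h hu' (ne_of_mem_erase hu) (Submodule.mem_span_singleton.2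
        ⟨-c, by rw [neg_smul, eq_neg_of_add_eq_zero_left h0]⟩)
    choose b hb hb0 using h4
    obtain ⟨c, -, c', -, hcc, hbb⟩ := exists_ne_map_eq_of_card_lt_of_maps_to
      (s := univ) (t := univ.erase (0 : F)) (card_erase_lt_of_mem (mem_univ _)) (f := b)
      (fun c _ => mem_erase.2 ⟨hb0 c, mem_univ _⟩)
    refine ⟨b c * (c - c'), mul_ne_zero (hb0 c) (sub_ne_zero.2 hcc), b c * (c * c - c' * c'),
      by simp [orth_of_hp hA hu'], ?_⟩
    rw [← tv_mul_tv hA (orth_of_hp hA hu'), mul_smul, mem_ZS.1 (neg_mem (hbb ▸ hb c')),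
      mem_ZS.1 (hb c)]
  choose! s hs0 hs using h3
  have h4 := card_le_mul_card_image_of_maps_to (s := (hf B x x' ⊤).erase 0)
    (t := (hf B x x' (RB hA x ω)).erase 0) (f := fun u => s u • u) (fun u hu => mem_erase.2
      ⟨smul_ne_zero (hs0 u hu) (ne_of_mem_erase hu), mem_hf.2
        ⟨Submodule.smul_mem _ _ (mem_hf.1 (mem_of_mem_erase hu)).1, hs u hu⟩⟩) (q - 1)
    fun b _ => by
      rw [← card_univ, ← card_erase_of_mem (mem_univ (0 : F))]
      refine card_le_card_of_injOn s (fun u hu => ?_) fun u hu u' hu' huu => ?_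
      · exact mem_coe.2 (mem_erase.2 ⟨hs0 u (mem_filter.1 hu).1, mem_univ _⟩)
      · refine smul_right_injective V (hs0 u (mem_filter.1 hu).1) ?_
        exact (mem_filter.1 hu).2.trans (huu ▸ (mem_filter.1 hu').2.symm)
  have h5 := card_erase_hf hA hB h
  have h6 := card_erase_add_one (mem_hf.2 ⟨zero_mem (hp B x x'), zero_mem (RB hA x ω)⟩)
  have h7 := card_An_mul (hA := hA) hB h ω
  have h8 := D.sq_le
  have h9 := Nat.mul_le_mul_right (hf B x x' (RB hA x ω)).card h1
  rw [h7, ← h6, ← h5] at h9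
  rw [← h5] at h8
  obtain ⟨r, hr⟩ : ∃ r, q = r + 3 := ⟨q - 3, by have := D.hq; omega⟩
  rw [hr] at h4 h8
  simp only [show r + 3 - 1 = r + 2 by omega] at h4
  generalize ((hf B x x' ⊤).erase 0).card = E at *
  generalize ((hf B x x' (RB hA x ω)).erase 0).card = R at *
  rcases le_total R (r + 2) with h10 | h10
  · nlinarith [Nat.mul_le_mul_left (r + 2) h10]
  · nlinarith [Nat.mul_le_mul_right R h10]

theorem exists_mul_self (h2 : (2 : F) = 0) (c : F) : ∃ t, t * t = c := by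
  obtain ⟨t, ht⟩ := FiniteField.isSquare_of_char_two
    (CharP.ringChar_of_prime_eq_zero Nat.prime_two (by exact_mod_cast h2)) c
  exact ⟨t, ht.symm⟩

theorem even_bot (D : Dat B N0) (hN : Fintype.card Ω < N0) (h2 : (2 : F) = 0) (h : B x x' = 1)
    (hZ : ZS hA x ω ≠ ⊤) {w : V} (hw : w ∈ hp B x x') (hw' : w ∈ An hA x ω) (hw0 : w ≠ 0) :
    ZS hA x ω = ⊥ := by
  classical
  by_contra hZ'
  have hB := D.hB
  let ρ : V → Ω → Prop := fun x ω => ¬ ZS hA x ω = ⊥
  have hρ : Eqv B ρ := eqv_bot.not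
  obtain ⟨y, hy, hy0⟩ := exists_YS hZ
  have h1 : ∀ y' ∈ univ.erase (0 : F), 1 ≤ mu hA ρ x w y' := fun y' hy' => by
    obtain ⟨t, ht⟩ := exists_mul_self h2 (y' / y)
    have := (mu_pos (ρ := ρ) hZ' hw' hy).trans (mu_le hB h hρ hw hw0 hw hw0 (t := t) (by
      rintro rfl
      exact div_ne_zero (ne_of_mem_erase hy') hy0 (by rw [← ht, zero_mul])) y)
    rwa [ht, div_mul_cancel₀ _ hy0] at this
  have h3 : 3 ≤ mu hA ρ x w 0 := by
    have h4 := sum_ncl_le (orb hA x) (mem_orb_self x) (P := fun ω => ρ x ω ∧ w ∈ An hA x ω)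
      (univ.erase (0 : F)) (fun ω y => y ∈ YS hA x ω) (fun _ _ h _ hz => YS_of_mem_orb h ▸ hz)
      (a := q / 2 - 1) fun ω hω => by
        have h5 := card_YS_mul (hA := hA) x ω
        obtain ⟨c, hc, hc0⟩ : ∃ c ∈ ZS hA x ω, c ≠ 0 := by
          by_contra! hcon
          exact hω.1 (eq_bot_iff.2 hcon)
        have h6 := Nat.mul_le_mul_left (ff (YS hA x ω)).card
          (one_lt_card.2 ⟨c, mem_ff.2 hc, 0, mem_ff.2 (zero_mem _), hc0⟩)
        have h7 := card_erase_add_one (mem_ff.2 (zero_mem (YS hA x ω)))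
        refine le_trans (card_le_card fun y hy => ?_)
          (show ((ff (YS hA x ω)).erase 0).card ≤ _ by omega)
        simp only [mem_filter, mem_erase, mem_ff] at hy ⊢
        exact ⟨hy.1.1, hy.2⟩
    have h5 := card_nsmul_le_sum _ _ _ h1
    rw [card_erase_of_mem (mem_univ _), card_univ, smul_eq_mul, mul_one] at h5
    have h6 : q - 1 ≤ (q / 2 - 1) * mu hA ρ x w 0 := by
      refine h5.trans (le_trans (le_of_eq (sum_congr rfl fun y _ => ncl_congr _ fun ω => ?_))
        (h4.trans (le_of_eq ?_)))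
      · exact and_assoc.symm
      · congr 1
        exact ncl_congr _ fun ω => by simp
    by_contra h7
    have := Nat.mul_le_mul_left (q / 2 - 1) (show mu hA ρ x w 0 ≤ 2 by omega)
    have := D.hq
    omega
  have h4 := sum_mu_le (hA := hA) hB h hρ univ
  rw [← add_sum_erase _ _ (mem_univ 0)] at h4
  have h5 := mul_le_sum_mu hB h hρ hw hw0 h3
  have h6 := card_nsmul_le_sum (univ.erase (0 : F))
    (fun y => mu hA ρ x 0 y + ∑ w ∈ (hf B x x' ⊤).erase 0, mu hA ρ x w y) _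
    fun y hy => (mul_le_sum_mu hB h hρ hw hw0 (h1 y hy)).trans (Nat.le_add_left _ _)
  rw [card_erase_of_mem (mem_univ _), card_univ, smul_eq_mul, mul_one] at h6
  have h7 := (h4.trans (card_le_univ _)).trans_lt hN
  have h8 := card_erase_hf hA hB h
  have h9 := D.hN'
  have h10 := D.sq_le
  rw [← h8] at h9 h10
  obtain ⟨r, hr⟩ : ∃ r, q = r + 3 := ⟨q - 3, by have := D.hq; omega⟩
  rw [hr] at h6 h9 h10
  simp only [show r + 3 - 1 = r + 2 by omega] at h6 h9
  have h11 : ((hf B x x' ⊤).erase 0).card * 3 + (r + 2) * ((hf B x x' ⊤).erase 0).card + 1 ≤ N0 := by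
    omega
  generalize ((hf B x x' ⊤).erase 0).card = E at h9 h10 h11
  nlinarith [Nat.mul_le_mul_left (r + 2) h11, Nat.mul_le_mul_left r h10, Nat.zero_le (r * r),
    Nat.zero_le (r * r * r)]

theorem St_of_fix (hB : B.Nondegenerate) (h2 : (2 : F) = 0) {y : V}
    (hR : ∀ u, B u x = 0 → u ∈ RB hA x ω) (hy : B y x = 0) (hyx : y ∉ F ∙ x) {γ : F} (hγ : γ ≠ 0)
    (hg : ∃ g : isomGroup B, g • ω = ω ∧ g • x = x ∧
      ∀ v, B v x = 0 → ∃ a : F, g • v = v + (γ * B v y) • y + a • x) (a : F) :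
    St hA x ω (a • y) (a * a / γ) := by
  obtain ⟨g, h1, h3, h4⟩ := hg
  obtain ⟨v, h5, h6⟩ := exists_orth_one hA hB (F ∙ x) hyx
  have h7 : B ((a / γ) • v) x = 0 := by
    simp [B_symm hA (h5 x (Submodule.mem_span_singleton_self x))]
  have h8 : B ((a / γ) • v) y = a / γ := by
    rw [map_smul, LinearMap.smul_apply, B_swap hA, h6, smul_eq_mul]
    linear_combination -(a / γ) * h2
  generalize (a / γ) • v = v at h7 h8
  obtain ⟨c, hc⟩ := hR v h7
  obtain ⟨b, hb⟩ := h4 v h7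
  have h9 := (St_gsmul' h3).2 hc
  rw [h1, hb, St_add_smul, h2, zero_mul, add_zero, h8, mul_div_cancel₀ _ hγ] at h9
  convert h9.sub hc using 1
  · simp
  · rw [map_add, map_smul, hA.self_eq_zero, h8, smul_eq_mul]
    linear_combination (a * a / γ) * h2

theorem even_main (D : Dat B N0) (hN : Fintype.card Ω < N0) (h2 : (2 : F) = 0)
    [MulAction.IsPretransitive (isomGroup B) Ω] (hx : x ≠ 0) (ω : Ω) : ZS hA x ω = ⊤ := by
  have hB := D.hB
  have hR : ∀ v : V, v ≠ 0 → ZS hA v ω ≠ ⊤ → ∀ u, B u v = 0 → u ∈ RB hA v ω := by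
    intro v hv hZ u hu
    obtain ⟨v', h⟩ := exists_hyp hA hB hv
    refine mem_RB_of_An hB h hu fun w hw hw' => ?_
    by_cases hw0 : w = 0
    · simp [hw0]
    · exact absurd (not_bot D hN h (even_bot D hN h2 h hZ hw hw' hw0) hw hw') hw0
  have huniq : ∀ x y : V, x ≠ 0 → ZS hA x ω ≠ ⊤ → B y x = 0 → y ∉ F ∙ x → ∀ γ γ' : F, γ ≠ 0 →
      γ' ≠ 0 → (∃ g : isomGroup B, g • ω = ω ∧ g • x = x ∧
        ∀ v, B v x = 0 → ∃ a : F, g • v = v + (γ * B v y) • y + a • x) →
      (∃ g : isomGroup B, g • ω = ω ∧ g • x = x ∧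
        ∀ v, B v x = 0 → ∃ a : F, g • v = v + (γ' * B v y) • y + a • x) → γ = γ' := by
    intro x y hx hZ hy hyx γ γ' hγ hγ' hg hg'
    by_contra hne
    refine hZ (eq_top_iff.2 fun c _ => ?_)
    have h1 : γ' - γ ≠ 0 := sub_ne_zero.2 (Ne.symm hne)
    obtain ⟨a, ha⟩ := exists_mul_self h2 (c * γ * γ' / (γ' - γ))
    convert (St_of_fix hB h2 (hR x hx hZ) hy hyx hγ hg a).sub_mem_ZS
      (St_of_fix hB h2 (hR x hx hZ) hy hyx hγ' hg' a) using 1
    rw [ha]
    field_simp
  by_contra hZ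
  obtain ⟨l, hl0, hl⟩ := D.exists_ne
  have key : ∀ y, B y x = 0 → y ∉ F ∙ x → St hA x ω y 0 := by
    intro y hy hyx
    have hxy := B_symm hA hy
    have hv0 : ∀ b : F, y + b • x ≠ 0 := fun b h0 => hyx (Submodule.mem_span_singleton.2
      ⟨-b, by rw [neg_smul, eq_neg_of_add_eq_zero_left h0]⟩)
    have hxv : ∀ b : F, B x (y + b • x) = 0 := fun b => by simp [hxy, hA.self_eq_zero]
    have hZv : ∀ b : F, ZS hA (y + b • x) ω ≠ ⊤ := fun b h0 => by
      have h1 : ∀ γ : F, ∃ g : isomGroup B, g • ω = ω ∧ g • x = x ∧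
          ∀ v, B v x = 0 → ∃ a : F, g • v = v + (γ * B v y) • y + a • x := fun γ =>
        ⟨_, mem_ZS.1 (h0.ge trivial : γ ∈ _), tv_smul_of_orth hA (hxv b) γ, fun v hv =>
          ⟨γ * B v y * b, by rw [tv_smul]; simp only [map_add, map_smul, hv]; module⟩⟩
      exact hl (huniq x y hx hZ hy hyx l 1 hl0 one_ne_zero (h1 l) (h1 1))
    by_contra hcon
    have h1 : ∀ b : F, ∃ c, c ≠ 0 ∧ St hA (y + b • x) ω x c := fun b => by
      obtain ⟨c, hc⟩ := hR _ (hv0 b) (hZv b) x (hxv b)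
      refine ⟨c, fun h0 => hcon ?_, hc⟩
      have := (h0 ▸ hc).swap
      rwa [St_add_smul, h2, zero_mul, add_zero] at this
    choose c hc0 hc using h1
    have h3 : ∀ b : F, ∃ g : isomGroup B, g • ω = ω ∧ g • x = x ∧
        ∀ v, B v x = 0 → ∃ a : F, g • v = v + (c b * B v y) • y + a • x := fun b =>
      ⟨_, (hc b).2, by rw [S_smul_of_orth hA (hxv b) _ (hxv b), hA.self_eq_zero, zero_smul,
        add_zero], fun v hv => ⟨B v y + c b * B v y * b, by
          rw [S_smul hA (hxv b)]; simp only [map_add, map_smul, hv]; module⟩⟩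
    have h4 : ∀ b : F, ∃ g : isomGroup B, g • ω = ω ∧ g • y = y ∧
        ∀ v, B v y = 0 → ∃ a : F, g • v = v + ((2 * b + c b * (b * b)) * B v x) • x + a • y :=
      fun b => ⟨_, (hc b).2, by
        rw [S_smul_of_orth hA (hxv b) _ (by simp [hy, hA.self_eq_zero]), hy, zero_smul, add_zero],
        fun v hv => ⟨B v x + c b * b * B v x, by
          rw [S_smul hA (hxv b)]; simp only [map_add, map_smul, hv, smul_eq_mul]; module⟩⟩
    simp only [h2, zero_mul, zero_add] at h4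
    have hy0 : y ≠ 0 := by simpa using hv0 0
    have h5 := huniq x y hx hZ hy hyx _ _ (hc0 1) (hc0 l) (h3 1) (h3 l)
    have h6 := huniq y x hy0 (by simpa using hZv 0) hxy (fun hm => by
      obtain ⟨a, rfl⟩ := Submodule.mem_span_singleton.1 hm
      have ha : a ≠ 0 := by rintro rfl; simp at hx
      exact hyx (Submodule.mem_span_singleton.2 ⟨a⁻¹, inv_smul_smul₀ ha y⟩)) _ _
      (by simpa using hc0 1) (mul_ne_zero (hc0 l) (mul_ne_zero hl0 hl0)) (h4 1) (h4 l)
    rw [h5] at h6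
    rcases mul_self_eq_one_iff.1 (by simpa using (mul_left_cancel₀ (hc0 l) h6).symm) with h7 | h7
    · exact hl h7
    · exact hl (by linear_combination h7 - h2)
  obtain ⟨x', h⟩ := exists_hyp hA hB hx
  obtain ⟨y, hy, hy0⟩ := D.exists_hp hA h
  obtain ⟨y', hy', hyy⟩ := exists_hp_one hA hB h hy hy0
  refine hZ (eq_top_iff.2 fun c _ => ?_)
  by_cases hc : c = 0
  · simp [hc]
  have key' : ∀ y ∈ hp B x x', y ≠ 0 → St hA x ω y 0 := fun y hy hy0 =>
    key y (orth_of_hp hA hy) (not_mem_span_of_hp hA h hy hy0)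
  have hcy := Submodule.smul_mem _ c hy'
  have := ((key' _ hcy (fun h0 => hc (by simpa [hyy] using congrArg (B y) h0))).add
    (key' y hy hy0)).sub_mem_ZS (key' _ (add_mem hcy hy) fun h0 =>
      hc (by simpa [hyy, hA.self_eq_zero] using congrArg (B y) h0))
  simpa [hyy] using this

theorem le_index (hA : B.IsAlt) (D : Dat B N0) (H : Subgroup (isomGroup B)) (hH : H ≠ ⊤) :
    N0 ≤ H.index := by
  classical
  have : Finite (isomGroup B) := Finite.of_injective (fun g => (g.1 : V → V))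
    fun _ _ h => Subtype.ext (DFunLike.coe_injective h)
  have := Fintype.ofFinite (isomGroup B ⧸ H)
  by_contra hlt
  refine hH (eq_top_of_isoTv_mem D.hB hA H fun w c => ?_)
  by_cases hw : w = 0
  · rw [hw, isoTv_zero_vec]
    exact one_mem _
  have hN : Fintype.card (isomGroup B ⧸ H) < N0 := by
    rw [← Nat.card_eq_fintype_card]; exact not_le.1 hlt
  have h1 : ZS hA w ((1 : isomGroup B) : isomGroup B ⧸ H) = ⊤ := by
    by_cases h2 : (2 : F) = 0
    · exact even_main D hN h2 hw _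
    · exact odd_main D hN h2 hw _
  have := mem_ZS.1 (h1.ge trivial : c ∈ _)
  rwa [← MulAction.mem_stabilizer_iff, MulAction.stabilizer_quotient] at this

open scoped Pointwise in
theorem exists_index (hA : B.IsAlt) (D : Dat B N0) :
    ∃ H : Subgroup (isomGroup B), Subgroup.center _ ≤ H ∧ H.index = N0 := by
  classical
  have : Nontrivial V := Module.nontrivial_of_finrank_pos (R := F) (by have := D.hd; omega)
  obtain ⟨x, hx0⟩ := exists_ne (0 : V)
  refine ⟨stab B (F ∙ x), fun g hg => ?_, ?_⟩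
  · obtain ⟨a, ha⟩ := (mem_center_isomGroup_iff D.hB hA).1 hg
    exact mem_stab_of_le fun v hv => ha v ▸ Submodule.smul_mem _ a hv
  rw [index_eq_card_range _ (fun g => g • (F ∙ x))]
  · have hn := D.hN
    rw [← Module.card_eq_pow_finrank, ← card_univ (α := V),
      ← card_erase_add_one (mem_univ (0 : V)), add_left_inj,
      card_eq_mul_card_image_span (F := F) _ (by simp) (fun v hv t ht =>
        mem_erase.2 ⟨smul_ne_zero ht (ne_of_mem_erase hv), mem_univ _⟩)] at hn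
    rw [Nat.eq_of_mul_eq_mul_left (by have := D.hq; omega) hn, ← Nat.card_eq_finsetCard]
    refine Nat.card_congr (Equiv.subtypeEquivRight fun W => ?_)
    have h1 : ∀ g : isomGroup B, g • (F ∙ x) = F ∙ (g • x) := fun g => by
      rw [isom_smul_submodule, Submodule.map_span, Set.image_singleton]
      rfl
    simp only [Set.mem_range, mem_image, mem_erase, mem_univ, and_true, h1]
    constructor
    · rintro ⟨g, rfl⟩
      exact ⟨_, gsmul_ne_zero g hx0, rfl⟩
    · rintro ⟨y, hy0, rfl⟩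
      obtain ⟨g, hg⟩ := exists_smul_eq hA D.hB hx0 hy0
      exact ⟨g, by rw [hg]⟩
  · intro g g'
    rw [mem_stab_iff_smul, mul_smul, inv_smul_eq_iff, eq_comm]

end Cfsg.Agent.H33.SD
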