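import Cfsg.Agent.H33.SpDeg2

/-! The minimal degree of the symplectic groups over the field with two elements. -/

set_option autoImplicit false
set_option linter.unusedSectionVars false

namespace Cfsg.Agent.H33.SD

open Cfsg.Agent.H27 Module OD Finset

variable {F V : Type*} [Field F] [Fintype F] [AddCommGroup V] [Module F V] [Fintype V]
  {B : LinearMap.BilinForm F V} {hA : B.IsAlt} {Ω : Type*} [MulAction (isomGroup B) Ω] [Fintype Ω]
  {x x' : V} {ω : Ω}

theorem St_of_mem_orb (h2 : (2 : F) = 0) {ω' : Ω} (h : ω' ∈ orb hA x ω) {u : V} {c : F}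
    (hu : St hA x ω u c) : St hA x ω' u c := by
  obtain ⟨s, d, hs, rfl⟩ := mem_orb.1 h
  have := (St_gsmul' (S_smul_self hA hs d)).2 hu
  rwa [S_smul_of_orth hA hs d hu.1, St_add_smul, h2, zero_mul, add_zero] at this

theorem exists_orth_not_mem [FiniteDimensional F V] (hA : B.IsAlt) (hB : B.Nondegenerate)
    (h : B x x' = 1) (h6 : 6 ≤ finrank F V) {y : V} (hy : y ∈ hp B x x') :
    ∃ u ∈ hp B x x', B u y = 0 ∧ u ∉ F ∙ y := by
  by_contra! hcon
  have h1 : B.orthogonal (Submodule.span F {x, x', y}) ≤ F ∙ y := fun u hu => by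
    have := fun z hz => B_symm hA (hu z (Submodule.subset_span hz))
    exact hcon u ((mem_hp hA).2 ⟨this x (by simp), this x' (by simp)⟩) (this y (by simp))
  have h2 := Submodule.finrank_mono h1
  rw [LinearMap.BilinForm.finrank_orthogonal hB] at h2
  have h3 := finrank_span_triple_le (F := F) x x' y
  have h4 : finrank F (F ∙ y) ≤ 1 := by simpa using finrank_span_le_card ({y} : Set V)
  omega

theorem ps_eq_one (h01 : ∀ c : F, c ≠ 0 → c = 1) {z : F} (h : ps F z = 1) : z = 0 :=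
  eq_zero_of_ps fun c => by
    by_cases hc : c = 0
    · simp [hc]
    · rwa [h01 c hc, one_mul]

variable (hA) in
/-- The characters of `Q_x` that occur in the orbit of `ω`. -/
def E (Q : V → F) (x x' : V) (ω : Ω) (p : V × F) : Prop :=
  p.1 ∈ hp B x x' ∧ ∀ u ∈ hp B x x', ∀ c, St hA x ω u c → B p.1 u + p.2 * (c + Q u) = 0

variable {Q : V → F} (h01 : ∀ c : F, c ≠ 0 → c = 1) (hQ : ∀ u v, Q (u + v) = Q u + Q v + B u v)

theorem E.add {p p' : V × F} (h : E hA Q x x' ω p) (h' : E hA Q x x' ω p') :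
    E hA Q x x' ω (p + p') :=
  ⟨add_mem h.1 h'.1, fun u hu c hc => by
    rw [Prod.fst_add, Prod.snd_add, map_add, LinearMap.add_apply]
    linear_combination h.2 u hu c hc + h'.2 u hu c hc⟩

include h01

theorem E.orb {p : V × F} (h : E hA Q x x' ω p) {ω' : Ω} (h' : ω' ∈ orb hA x ω) :
    E hA Q x x' ω' p :=
  ⟨h.1, fun u hu c hc => h.2 u hu c
    (St_of_mem_orb (H30.IsF2.two_eq_zero h01) (mem_orb_symm h') hc)⟩

theorem E_zero_iff (h : B x x' = 1) {w : V} :
    E hA Q x x' ω (w, 0) ↔ w ∈ hp B x x' ∧ w ∈ An hA x ω := by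
  refine and_congr_right fun hw => ⟨fun h1 => ⟨orth_of_hp hA hw, fun u hu => ?_⟩, ?_⟩
  · obtain ⟨c, hc⟩ := sub_mem hu (smul_mem_RB (B u x'))
    have := h1 _ (pr_mem hA h (orth_of_RB hu)) c hc
    simp only [map_sub, map_smul, orth_of_hp hA hw, smul_zero, sub_zero, zero_mul,
      add_zero] at this
    simp [this]
  · intro h1 u _ c hc
    simpa using ps_eq_one h01 (h1.2 u ⟨c, hc⟩)

include hQ

theorem E.tv {w : V} {y : F} (h : E hA Q x x' ω (w, y)) {a : V} (ha : a ∈ hp B x x') :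
    E hA Q x x' (isoTv hA a 1 • ω) (w + (B w a + y * (Q a + 1)) • a, y) := by
  have h2 := H30.IsF2.two_eq_zero h01
  refine ⟨add_mem h.1 (Submodule.smul_mem _ _ ha), fun u hu c hc => ?_⟩
  have h3 := (St_gsmul' (tv_smul_of_orth hA (B_symm hA (orth_of_hp hA ha)) 1)).2 hc
  rw [← mul_smul, isoTv_mul, one_add_one_eq_two, h2, isoTv_zero, one_smul, tv_smul] at h3
  have h4 := h.2 _ (add_mem hu (Submodule.smul_mem _ _ ha)) c h3
  simp only [map_add, map_smul, LinearMap.add_apply, LinearMap.smul_apply, smul_eq_mul,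
    B_swap hA a u] at h4 ⊢
  by_cases hua : B u a = 0
  · simpa [hua] using h4
  · rw [h01 _ hua] at h4 ⊢
    rw [one_mul, one_smul, hQ, h01 _ hua] at h4
    linear_combination h4 - (B w a + y * (Q a + 1)) * h2

variable (hA) in
/-- The stabiliser as an additive group. -/
def RE (x x' : V) (ω : Ω) : AddSubgroup (hp B x x' × F) where
  carrier := {p | St hA x ω p.1 (p.2 + Q p.1)}
  add_mem' {a b} ha hb := by
    have := St.add ha hb
    change St hA x ω (a.1 + b.1) (a.2 + b.2 + Q (a.1 + b.1))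
    rw [hQ]
    convert this using 1
    rw [B_swap hA b.1]
    linear_combination B a.1 b.1 * H30.IsF2.two_eq_zero h01
  zero_mem' := by
    have h0 : Q 0 = 0 := by simpa using hQ 0 0
    change St hA x ω 0 (0 + Q 0)
    rw [h0, add_zero, St_zero]
    exact zero_mem _
  neg_mem' {a} ha := by
    have h2 := H30.IsF2.two_eq_zero h01
    have : -a = a := neg_eq_of_add_eq_zero_left (by rw [← two_smul F, h2, zero_smul])
    rwa [this]

variable [FiniteDimensional F V] (hB : B.Nondegenerate)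
include hB

omit h01 hQ in
/-- The pairing on the linearised group `Q_x`. -/
noncomputable def pairE (hA : B.IsAlt) (h : B x x' = 1) :
    H32.CPairing (hp B x x' × F) (hp B x x' × F) where
  p w u := ps F (B w.1 u.1 + w.2 * u.2)
  zero_left a := by simp
  zero_right a := by simp
  add_left y z a := by
    rw [← AddChar.map_add_eq_mul]
    simp only [Prod.fst_add, Prod.snd_add, Submodule.coe_add, map_add, LinearMap.add_apply]
    congr 1
    ring
  add_right y a b := by
    rw [← AddChar.map_add_eq_mul]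
    simp only [Prod.fst_add, Prod.snd_add, Submodule.coe_add, map_add]
    congr 1
    ring
  sep a ha := by
    by_cases h1 : a.1 = 0
    · obtain ⟨y, hy⟩ := (pairF F).sep a.2 (fun h2 => ha (Prod.ext h1 h2))
      exact ⟨(0, y), by simpa [pairF] using hy⟩
    · obtain ⟨y, hy⟩ := (pairV hB hA h).sep a.1 h1
      exact ⟨(y, 0), by simpa [pairV] using hy⟩

theorem mem_perp_RE (h : B x x' = 1) {p : hp B x x' × F} :
    p ∈ (pairE hB hA h).perp (RE hA h01 hQ x x' ω) ↔ E hA Q x x' ω (p.1, p.2) := by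
  have h2 := H30.IsF2.two_eq_zero h01
  refine ⟨fun hp' => ⟨p.1.2, fun u hu c hc => ps_eq_one h01 (hp' (⟨u, hu⟩, c + Q u) ?_)⟩,
    fun hp' u hu => ?_⟩
  · change St hA x ω u (c + Q u + Q u)
    convert hc using 1
    linear_combination Q u * h2
  · change ps F _ = 1
    have := hp'.2 _ u.1.2 _ hu
    rw [show B p.1 u.1 + p.2 * u.2 = 0 by linear_combination this - p.2 * Q u.1 * h2]
    simp

open Classical in
theorem card_orb_E (h : B x x' = 1) (ω : Ω) :
    (orb hA x ω).card = (univ.filter (E hA Q x x' ω)).card := by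
  have h2 := H30.IsF2.two_eq_zero h01
  have h1 := (pairE hB hA h).card_perp_mul (RE hA h01 hQ x x' ω)
  have h3 : Nat.card ((pairE hB hA h).perp (RE hA h01 hQ x x' ω)) =
      (univ.filter (E hA Q x x' ω)).card := by
    rw [← Nat.card_eq_finsetCard]
    exact Nat.card_congr ⟨fun p => ⟨(p.1.1, p.1.2), by simpa using (mem_perp_RE h01 hQ hB h).1 p.2⟩,
      fun p => ⟨(⟨p.1.1, (mem_filter.1 p.2).2.1⟩, p.1.2),
        (mem_perp_RE h01 hQ hB h).2 (mem_filter.1 p.2).2⟩, fun _ => rfl, fun _ => rfl⟩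
  have h4 : Nat.card (RE hA h01 hQ x x' ω) =
      ((hf B x x' ⊤ ×ˢ univ).filter (fun p : V × F => St hA x ω p.1 p.2)).card := by
    rw [← Nat.card_eq_finsetCard]
    refine Nat.card_congr ⟨fun p => ⟨(p.1.1, p.1.2 + Q p.1.1), mem_filter.2
      ⟨mem_product.2 ⟨mem_hf.2 ⟨p.1.1.2, trivial⟩, mem_univ _⟩, p.2⟩⟩,
      fun p => ⟨(⟨p.1.1, (mem_hf.1 (mem_product.1 (mem_filter.1 p.2).1).1).1⟩, p.1.2 - Q p.1.1),
        ?_⟩, fun _ => by simp, fun _ => by simp⟩
    change St hA x ω p.1.1 (p.1.2 - Q p.1.1 + Q p.1.1)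
    rw [sub_add_cancel]
    exact (mem_filter.1 p.2).2
  rw [h3, h4, Nat.card_prod, ← AddSubgroup.card_top (G := hp B x x'),
    ← AddSubgroup.comap_top (hp B x x').subtype.toAddMonoidHom, ← card_hf,
    Nat.card_eq_fintype_card, card_orb_mul (hA := hA) h ω] at h1
  refine (Nat.eq_of_mul_eq_mul_right (card_pos.2 ⟨(0, 0), ?_⟩) h1).symm
  exact mem_filter.2 ⟨mem_product.2 ⟨mem_hf.2 ⟨zero_mem _, trivial⟩, mem_univ _⟩,
    St_zero.2 (zero_mem _)⟩

theorem St_of_E (h : B x x' = 1) {u : V} (hu : u ∈ hp B x x') {c : F}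
    (h' : ∀ w y, E hA Q x x' ω (w, y) → B w u + y * (c + Q u) = 0) : St hA x ω u c := by
  have h2 := H30.IsF2.two_eq_zero h01
  have := mem_of_perp (pairE hB hA h) (fun a b hab => by
    change ps F _ = 1
    rw [show B b.1 a.1 + b.2 * a.2 = B a.1 b.1 + a.2 * b.2 by
      rw [B_swap hA b.1]; linear_combination -B a.1 b.1 * h2]
    exact hab) (RE hA h01 hQ x x' ω) (a := (⟨u, hu⟩, c + Q u)) fun p hp' => by
      change ps F _ = 1
      rw [h' _ _ ((mem_perp_RE h01 hQ hB h).1 hp')]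
      simp
  change St hA x ω u (c + Q u + Q u) at this
  convert this using 1
  linear_combination -Q u * h2

open Classical in
theorem two_main (h : B x x' = 1) (h6 : 6 ≤ finrank F V) {n : ℕ}
    (hn : ∀ c, n ≤ ((hf B x x' ⊤).filter (fun w => Q w = c)).card)
    (hN : Fintype.card Ω < 2 ^ (finrank F V - 2) + 2 * n) (ω : Ω) : isoTv hA x 1 • ω = ω := by
  have h2 := H30.IsF2.two_eq_zero h01
  have hQ0 : Q 0 = 0 := by simpa using hQ 0 0
  have hvv : ∀ v : V, v + v = 0 := fun v => by rw [← two_smul F, h2, zero_smul]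
  by_contra hω
  obtain ⟨w, hw⟩ : ∃ w, E hA Q x x' ω (w, 1) := by
    by_contra! hcon
    refine hω (St_zero.1 (St_of_E h01 hQ hB h (zero_mem _) fun w y hE => ?_))
    by_cases hy : y = 0
    · simp [hy]
    · exact absurd (h01 y hy ▸ hE) (hcon w)
  let mu : V × F → ℕ := fun p => ncl (orb hA x) (fun ω : Ω => E hA Q x x' ω p)
  have hmu : ∀ (g : isomGroup B) (p p' : V × F), g • x = x →
      (∀ ω : Ω, E hA Q x x' ω p → E hA Q x x' (g • ω) p') → mu p ≤ mu p' := fun g p p' hg hp' =>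
    ncl_le_of_equiv _ _ (MulAction.toPerm g)
      (orb_gsmul one_ne_zero (show g • x = (1 : F) • x by rw [hg, one_smul])) hp'
  have hC : ∀ w ∈ hp B x x', ∀ w' ∈ hp B x x', Q w = Q w' → mu (w, 1) ≤ mu (w', 1) := by
    intro w hw w' hw' hww
    have ha := add_mem hw hw'
    refine hmu _ _ _ (tv_smul_of_orth hA (B_symm hA (orth_of_hp hA ha)) 1) fun ω hE => ?_
    have h3 := hE.tv h01 hQ ha
    have h4 : B w (w + w') + 1 * (Q (w + w') + 1) = 1 := by
      rw [hQ, hww, map_add, hA.self_eq_zero]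
      linear_combination (Q w' + B w w') * h2
    rwa [h4, one_smul, ← add_assoc, hvv, zero_add] at h3
  have hsum : mu (0, 0) + ∑ u ∈ (hf B x x' ⊤).erase 0, mu (u, 0) +
      ∑ w ∈ hf B x x' ⊤, mu (w, 1) ≤ Fintype.card Ω := by
    have h3 := card_filter_eq_sum_ncl (orb hA x) (mem_orb_self x) (orb_eq x) (fun _ : Ω => True)
      (fun _ _ _ _ => trivial) (E hA Q x x') (fun _ _ h _ hE => hE.orb h01 h)
      (card_orb_E h01 hQ hB h)
    simp only [true_and, filter_true, card_univ] at h3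
    rw [h3, add_sum_erase (hf B x x' ⊤) (fun u => mu (u, 0)) (mem_hf.2 ⟨zero_mem _, trivial⟩),
      ← sum_add_distrib]
    refine le_trans (le_of_eq ?_) (sum_le_sum_of_subset (subset_univ (hf B x x' ⊤ ×ˢ {0, 1})))
    rw [sum_product]
    exact sum_congr rfl fun w _ => (sum_pair (f := fun y => mu (w, y)) zero_ne_one).symm
  have hcl : ∀ (w : V) (k : ℕ), w ∈ hp B x x' → k ≤ mu (w, 1) →
      k * n ≤ ∑ w' ∈ (hf B x x' ⊤).filter (fun w' => Q w' = Q w), mu (w', 1) := by
    intro w k hw hk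
    refine (Nat.mul_le_mul_left k (hn (Q w))).trans ?_
    rw [mul_comm, ← smul_eq_mul]
    refine card_nsmul_le_sum _ _ _ fun w' hw' => hk.trans (hC w hw w' ?_ ?_)
    · exact (mem_hf.1 (mem_filter.1 hw').1).1
    · exact (mem_filter.1 hw').2.symm
  have h00 : 1 ≤ mu (0, 0) := ncl_pos _ (ω := ω) ⟨zero_mem _, by simp⟩
  by_cases hD : ∃ (ω' : Ω) (u : V), u ≠ 0 ∧ E hA Q x x' ω' (u, 0)
  · obtain ⟨ω', u, hu0, hu⟩ := hD
    have hD0 : 2 ^ (finrank F V - 2) ≤ 1 + ∑ u ∈ (hf B x x' ⊤).erase 0, mu (u, 0) := by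
      have h3 := card_hf_top hB hA h
      rw [H30.isF2_iff_card.1 h01] at h3
      rw [← h3, ← card_erase_add_one (a := 0) (mem_hf.2 ⟨zero_mem _, AddSubgroup.mem_top _⟩),
        add_comm, card_eq_sum_ones]
      refine Nat.add_le_add_left (sum_le_sum fun u' hu' => ?_) 1
      obtain ⟨g, -, h3, h4⟩ := exists_step_hp hA hB h ⊤ (fun _ _ _ => trivial) hu.1 hu0
        (mem_hf.1 (mem_of_mem_erase hu')).1 (ne_of_mem_erase hu')
      refine (ncl_pos _ (ω := ω') hu).trans_le (hmu g (u, 0) _ h4 fun ω hE => (E_zero_iff h01 h).2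
        ⟨(mem_hf.1 (mem_of_mem_erase hu')).1, h3 ▸ An_gsmul' h4 ((E_zero_iff h01 h).1 hE).2⟩)
    by_cases hM : ∃ (ω : Ω) (w u : V), u ≠ 0 ∧ E hA Q x x' ω (u, 0) ∧ E hA Q x x' ω (w, 1)
    · obtain ⟨ω, w, u, hu0, hu, hw⟩ := hM
      have key : ∀ a, E hA Q x x' ω (a, 0) → Q a + B w a = 0 := by
        intro a ha
        by_contra h3
        have h4 := hw.add ha
        rw [Prod.mk_add_mk, add_zero] at h4
        have h5 := hcl w 1 hw.1 (ncl_pos _ hw)
        have h6 := hcl (w + a) 1 h4.1 (ncl_pos _ h4)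
        have h7 := sum_filter_add_sum_filter_not (hf B x x' ⊤) (fun w' => Q w' = Q w)
          (fun w' => mu (w', 1))
        have h8 := sum_le_sum_of_subset (f := fun w' => mu (w', 1))
          (show (hf B x x' ⊤).filter (fun w' => Q w' = Q (w + a)) ⊆
            (hf B x x' ⊤).filter (fun w' => ¬ Q w' = Q w) from monotone_filter_right _ fun w' _ h9 h10 =>
              h3 (by rw [hQ, h10] at h9; linear_combination -h9))
        omega
      have h3 : mu (w, 1) ≤ 1 := by
        by_contra h3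
        have h5 := hcl w 2 hw.1 (by omega)
        have h8 := sum_le_sum_of_subset (f := fun w' => mu (w', 1))
          (filter_subset (fun w' => Q w' = Q w) (hf B x x' ⊤))
        omega
      obtain ⟨a, ha, hua, hQa⟩ : ∃ a ∈ hp B x x', B u a = 1 ∧ Q a + B w a = 1 := by
        obtain ⟨b, hb, hub⟩ := exists_hp_one hA hB h hu.1 hu0
        by_cases hQb : Q b + B w b = 0
        · refine ⟨u + b, add_mem hu.1 hb, by simp [hA.self_eq_zero, hub], ?_⟩
          rw [hQ, map_add, hub]
          linear_combination hQb + key u hu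
        · exact ⟨b, hb, hub, h01 _ hQb⟩
      have h4 := hw.tv h01 hQ ha
      rw [show B w a + 1 * (Q a + 1) = 0 by linear_combination hQa + h2, zero_smul, add_zero] at h4
      have h5 := (hu.tv h01 hQ ha).orb h01
        (mem_orb_symm (mem_of_ncl_le_one _ (mem_orb_self x) h3 hw h4))
      have h6 := hu.add h5
      rw [hua, zero_mul, add_zero, one_smul, Prod.mk_add_mk, ← add_assoc, hvv, zero_add,
        add_zero] at h6
      exact one_ne_zero (hQa.symm.trans (key a h6))
    · push Not at hM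
      have h3 := card_le_mul_ncl (orb hA x) (mem_orb_self x)
        (P := fun ω : Ω => ∃ w, E hA Q x x' ω (w, 1))
        ((hf B x x' ⊤).filter (fun w' => Q w' = Q w)) (fun ω w => E hA Q x x' ω (w, 1))
        (fun _ _ h _ hE => hE.orb h01 (mem_orb_symm h)) (fun w' hw' => by
          by_contra! hcon
          have := hC w hw.1 w' (mem_hf.1 (mem_filter.1 hw').1).1 (mem_filter.1 hw').2.symm
          have h3 := (ncl_pos (orb hA x) (P := fun ω : Ω => E hA Q x x' ω (w, 1)) hw).trans_le this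
          obtain ⟨_, h4⟩ := card_pos.1 h3
          obtain ⟨ω, h5, -⟩ := mem_image.1 h4
          exact hcon ω ⟨_, (mem_filter.1 h5).2⟩ (mem_filter.1 h5).2) (a := 1)
        (fun ω _ T _ hT => card_le_one.2 fun a ha b hb => by
          by_contra hab
          have h3 := (hT a ha).add (hT b hb)
          rw [Prod.mk_add_mk, one_add_one_eq_two, h2] at h3
          refine hM ω a (a + b) (fun h4 => hab ?_) h3 (hT a ha)
          rw [← add_zero a, ← hvv b, ← add_assoc, h4, zero_add])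
      have h4 := ncl_succ_le (orb hA x) (mem_orb_self x)
        (P := fun ω : Ω => ∃ w, E hA Q x x' ω (w, 1)) (P' := fun ω : Ω => E hA Q x x' ω (0, 0))
        (fun _ _ => ⟨zero_mem _, by simp⟩) (ω₀ := ω') ⟨zero_mem _, by simp⟩
        (fun ω ⟨w, hw⟩ h => hM ω' w u hu0 hu (hw.orb h01 h))
      have h5 := hcl w 1 hw.1 (ncl_pos _ hw)
      have h6 := hn (Q w)
      have h8 := sum_le_sum_of_subset (f := fun w' => mu (w', 1))
        (filter_subset (fun w' => Q w' = Q w) (hf B x x' ⊤))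
      change _ ≤ mu (0, 0) at h4
      omega
  push Not at hD
  have hD' : ∀ (ω : Ω) (w : V), E hA Q x x' ω (w, 0) → w = 0 := fun ω w hw => by
    by_contra h0
    exact hD ω w h0 hw
  have hRB : ∀ (y : V) (ω : Ω) (u : V), y ≠ 0 → B u y = 0 → u ∈ RB hA y ω := by
    intro y ω u hy hu
    obtain ⟨g, hg⟩ := exists_smul_eq hA hB (ne_zero_of_hyp hA h) hy
    rw [← smul_inv_smul g ω, ← smul_inv_smul g u]
    refine RB_gsmul' hg (mem_RB_of_An hB h (by rw [← B_gsmul g, smul_inv_smul, hg, hu])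
      fun w hw hw' => ?_)
    simp [hD' _ w ((E_zero_iff h01 h).2 ⟨hw, hw'⟩)]
  have hφ : ∀ y ∈ hp B x x', Q y + B w y = 0 := by
    intro y hy
    by_cases hy0 : y = 0
    · simp [hy0, hQ0]
    obtain ⟨u, hu, huy, huy'⟩ := exists_orth_not_mem hA hB h h6 hy
    obtain ⟨v, hv, hyv, huv⟩ := exists_hp_pair hA hB h hy hu huy'
    obtain ⟨c, hc⟩ := hRB y ω u hy0 huy
    have h3 : St hA x ω v (Q v + B w v) := St_of_E h01 hQ hB h hv fun w' y' hE => by
      by_cases hy' : y' = 0
      · subst hy'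
        simp [hD' _ _ hE]
      · obtain rfl := h01 _ hy'
        have h4 := hw.add hE
        rw [Prod.mk_add_mk, one_add_one_eq_two, h2] at h4
        have h5 : w' = w := by rw [← zero_add w', ← hvv w, add_assoc, hD' _ _ h4, add_zero]
        rw [h5]
        linear_combination (Q v + B w v) * h2
    have h4 : S hA y u c • x = x := by
      rw [S_smul_of_orth hA huy c (B_symm hA (orth_of_hp hA hy)), B_symm hA (orth_of_hp hA hu),
        zero_smul, add_zero]
    have h5 := (St_gsmul' h4).2 h3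
    rw [hc.2, S_smul_of_orth hA huy c (B_symm hA hyv), B_swap hA v u, huv, neg_smul, one_smul,
      neg_eq_of_add_eq_zero_left (hvv y)] at h5
    have h6 := hw.2 _ (add_mem hv hy) _ h5
    rw [hQ, map_add, B_symm hA hyv] at h6
    linear_combination h6 - (Q v + B w v) * h2
  obtain ⟨u, hu, -, hu0⟩ := exists_orth_not_mem hA hB h h6 (zero_mem _)
  obtain ⟨v, hv, huv⟩ := exists_hp_one hA hB h hu (by simpa using hu0)
  have h3 := hφ _ (add_mem hu hv)
  rw [hQ, map_add, huv] at h3
  exact one_ne_zero (α := F) (by linear_combination h3 - hφ u hu - hφ v hv)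

open Classical in
theorem two_le_index (hA : B.IsAlt) (h : B x x' = 1) (h6 : 6 ≤ finrank F V) {n : ℕ}
    (hn : ∀ c, n ≤ ((hf B x x' ⊤).filter (fun w => Q w = c)).card)
    (H : Subgroup (isomGroup B)) (hH : H ≠ ⊤) : 2 ^ (finrank F V - 2) + 2 * n ≤ H.index := by
  have : Finite (isomGroup B) := Finite.of_injective (fun g => (g.1 : V → V))
    fun _ _ h => Subtype.ext (DFunLike.coe_injective h)
  have := Fintype.ofFinite (isomGroup B ⧸ H)
  by_contra hlt
  refine hH (eq_top_of_isoTv_mem hB hA H fun w c => ?_)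
  by_cases hc : c = 0
  · rw [hc, isoTv_zero]
    exact one_mem _
  by_cases hw : w = 0
  · rw [hw, isoTv_zero_vec]
    exact one_mem _
  obtain ⟨g, hg⟩ := exists_smul_eq hA hB (ne_zero_of_hyp hA h) hw
  have := two_main (hA := hA) (Ω := isomGroup B ⧸ H) h01 hQ hB h h6 hn
    (by rw [← Nat.card_eq_fintype_card]; exact not_le.1 hlt)
    (g⁻¹ • ((1 : isomGroup B) : isomGroup B ⧸ H))
  rw [← mul_smul, eq_inv_smul_iff, ← mul_smul, ← mul_assoc, mul_tv, hg, mul_inv_cancel_right,
    ← MulAction.mem_stabilizer_iff, MulAction.stabilizer_quotient] at this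
  rwa [h01 c hc]

theorem two_exists_index (hA : B.IsAlt) (w₀ : V) :
    ∃ H : Subgroup (isomGroup B), H.index = Nat.card {w : V // Q w = Q w₀} := by
  have h2 := H30.IsF2.two_eq_zero h01
  have hvv : ∀ v : V, v + v = 0 := fun v => by rw [← two_smul F, h2, zero_smul]
  let φ : V → V → F := fun w v => Q v + B w v
  have htv : ∀ w a v, φ w (isoTv hA a 1 • v) = φ (w + (φ w a + 1) • a) v := fun w a v => by
    simp only [φ, tv_smul, map_add, map_smul, LinearMap.add_apply, LinearMap.smul_apply,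
      smul_eq_mul, B_swap hA a v]
    by_cases hva : B v a = 0
    · simp [hva]
    · rw [h01 _ hva, one_mul, one_smul, hQ, h01 _ hva]
      linear_combination (B w a + Q a + 1) * h2
  let K : Subgroup (isomGroup B) :=
    { carrier := {g | ∀ w, Q w = Q w₀ → (∃ w', Q w' = Q w₀ ∧ ∀ v, φ w (g • v) = φ w' v) ∧
        ∃ w', Q w' = Q w₀ ∧ ∀ v, φ w (g⁻¹ • v) = φ w' v}
      one_mem' := fun w hw => ⟨⟨w, hw, by simp⟩, ⟨w, hw, by simp⟩⟩
      mul_mem' := fun {a b} ha hb w hw => by
        obtain ⟨w₁, h1, h2⟩ := (ha w hw).1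
        obtain ⟨w₂, h3, h4⟩ := (hb w₁ h1).1
        obtain ⟨w₃, h5, h6⟩ := (hb w hw).2
        obtain ⟨w₄, h7, h8⟩ := (ha w₃ h5).2
        exact ⟨⟨w₂, h3, fun v => by rw [mul_smul, h2, h4]⟩,
          ⟨w₄, h7, fun v => by rw [mul_inv_rev, mul_smul, h6, h8]⟩⟩
      inv_mem' := fun {a} ha w hw => ⟨(ha w hw).2, by simpa using (ha w hw).1⟩ }
  have hK : K = ⊤ := eq_top_of_isoTv_mem hB hA K fun a c => by
    by_cases hc : c = 0
    · rw [hc, isoTv_zero]
      exact one_mem _
    intro w hw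
    rw [h01 c hc, isoTv_inv, show (-1 : F) = 1 by linear_combination -h2, and_self]
    refine ⟨_, ?_, htv w a⟩
    by_cases ha : φ w a = 0
    · rw [ha, zero_add, one_smul, hQ, hw, add_assoc]
      exact add_eq_left.2 ha
    · rw [h01 _ ha, one_add_one_eq_two, h2, zero_smul, add_zero, hw]
  let H : Subgroup (isomGroup B) :=
    { carrier := {g | ∀ v, φ w₀ (g • v) = φ w₀ v}
      one_mem' := by simp
      mul_mem' := fun {a b} ha hb v => by rw [mul_smul, ha, hb]
      inv_mem' := fun {a} ha v => by rw [← ha, smul_inv_smul] }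
  refine ⟨H, ?_⟩
  rw [index_eq_card_range H (fun g v => φ w₀ (g⁻¹ • v))]
  · symm
    refine Nat.card_eq_of_bijective (fun w => ⟨φ w.1, (isoTv hA (w₀ + w.1) 1)⁻¹, funext fun v => by
      change φ w₀ ((isoTv hA (w₀ + w.1) 1)⁻¹⁻¹ • v) = _
      have h3 : φ w₀ (w₀ + w.1) = 0 := by
        simp only [φ, hQ, map_add, hA.self_eq_zero, w.2]
        linear_combination (Q w₀ + B w₀ w.1) * h2
      rw [inv_inv, htv, h3, zero_add, one_smul, ← add_assoc, hvv, zero_add]⟩) ⟨?_, ?_⟩
    · intro w w' h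
      have h3 := congrArg Subtype.val h
      refine Subtype.ext (sub_eq_zero.1 (hB.1 _ fun v => ?_))
      rw [map_sub, LinearMap.sub_apply]
      linear_combination congrFun h3 v
    · rintro ⟨_, g, rfl⟩
      obtain ⟨w, h3, h4⟩ := ((hK ▸ Subgroup.mem_top g : g ∈ K) w₀ rfl).2
      exact ⟨⟨w, h3⟩, Subtype.ext (funext fun v => (h4 v).symm)⟩
  · intro g g'
    constructor
    · intro h v
      have := congrFun h (g' • v)
      rwa [inv_smul_smul, ← mul_smul] at this
    · intro h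
      funext v
      rw [← h (g'⁻¹ • v), ← mul_smul, mul_inv_cancel_right]

end Cfsg.Agent.H33.SD
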