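import Mathlib
import Cfsg.Agent.H52.Ambient
import Cfsg.Agent.H8.SylowIn

/-!
# The Thompson–Wielandt theorem for two conjugate core-free maximal subgroups
-/

set_option autoImplicit false

namespace Cfsg.Agent.H33

open Subgroup Cfsg.Agent.H52

variable {G : Type*} [Group G] {p : ℕ}

/-- The core in `M` of `X`, as a subgroup of the ambient group. -/
abbrev coreIn (X M : Subgroup G) : Subgroup G := (X.subgroupOf M).normalCore.map M.subtype

theorem mem_coreIn {X M : Subgroup G} {x : G} :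
    x ∈ coreIn X M ↔ x ∈ M ∧ ∀ m ∈ M, m * x * m⁻¹ ∈ X := by
  constructor
  · rintro ⟨y, hy, rfl⟩
    exact ⟨y.2, fun m hm => hy ⟨m, hm⟩⟩
  · rintro ⟨hx, h⟩
    exact ⟨⟨x, hx⟩, fun m => h m m.2, rfl⟩

theorem coreIn_le (X M : Subgroup G) : coreIn X M ≤ X := fun x hx => by
  simpa using (mem_coreIn.1 hx).2 1 M.one_mem

theorem coreIn_le_right (X M : Subgroup G) : coreIn X M ≤ M := map_subtype_le _

theorem le_normalizer_of_forall_conj {H K : Subgroup G}
    (h : ∀ g ∈ H, ∀ x ∈ K, g * x * g⁻¹ ∈ K) : H ≤ normalizer (K : Set G) := by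
  intro g hg
  rw [mem_normalizer_iff]
  refine fun x => ⟨h g hg x, fun hx => ?_⟩
  simpa [mul_assoc] using h g⁻¹ (H.inv_mem hg) _ hx

theorem le_normalizer_coreIn (X M : Subgroup G) : M ≤ normalizer (coreIn X M : Set G) := by
  refine le_normalizer_of_forall_conj fun g hg x hx => ?_
  rw [mem_coreIn] at hx ⊢
  refine ⟨M.mul_mem (M.mul_mem hg hx.1) (M.inv_mem hg), fun m hm => ?_⟩
  simpa [mul_assoc] using hx.2 (m * g) (M.mul_mem hm hg)

theorem isSubnormal_of_two_step {U B H : Subgroup G} (hBH : B ≤ H)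
    (hU : B ≤ normalizer (U : Set G)) (hB : H ≤ normalizer (B : Set G)) (hUB : U ≤ B) :
    (U.subgroupOf H).IsSubnormal := by
  have h1 : (B.subgroupOf H).Normal := normal_subgroupOf_of_le_normalizer hB
  refine IsSubnormal.trans (K := B.subgroupOf H) (comap_mono hUB) ?_ h1.isSubnormal
  refine Normal.isSubnormal (normal_subgroupOf_of_le_normalizer ?_)
  rw [← subgroupOf_normalizer_eq (hUB.trans hBH)]
  exact comap_mono hU

theorem Ly_le_normalizer {U B H : Subgroup G} (hUB : U ≤ B) (hBH : B ≤ H)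
    (hU : B ≤ normalizer (U : Set G)) (hB : H ≤ normalizer (B : Set G)) :
    Ly H ≤ normalizer (U : Set G) := by
  have := layer_le_normalizer_of_subnormal (isSubnormal_of_two_step hBH hU hB hUB)
  refine (map_mono this).trans ?_
  rw [map_normalizer_subgroupOf (hUB.trans hBH)]
  exact inf_le_right

/-- Wielandt: `O_p(H)` normalizes `U = O^p(U) ⊴ B ⊴ H`. -/
theorem Op_le_normalizer {U B H : Subgroup G} (hp : IsGenCoprime p U) (hUB : U ≤ B) (hBH : B ≤ H)
    (hU : B ≤ normalizer (U : Set G)) (hB : H ≤ normalizer (B : Set G)) :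
    Op p H ≤ normalizer (U : Set G) := by
  refine le_normalizer_of_forall_conj fun x hx => ?_
  refine hp (U.comap (MulAut.conj x).toMonoidHom) fun g hg hc => ?_
  change x * g * x⁻¹ ∈ U
  haveI : (U.subgroupOf B).Normal := normal_subgroupOf_of_le_normalizer hU
  have hxH : x ∈ H := Op_le H hx
  have hz : x * g * x⁻¹ ∈ B := (mem_normalizer_iff.1 (hB hxH) g).1 (hUB hg)
  have hy : x * g * x⁻¹ * g⁻¹ ∈ Op p H := by
    have := (mem_normalizer_iff.1 (le_normalizer_Op (p := p) H (hBH (hUB hg))) x⁻¹).1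
      ((Op p H).inv_mem hx)
    simpa [mul_assoc] using (Op p H).mul_mem hx this
  obtain ⟨k, hk⟩ := isPGroup_map_pCore_subtype (p := p) H ⟨_, hy⟩
  have hk' : (x * g * x⁻¹ * g⁻¹) ^ p ^ k = 1 := congrArg Subtype.val hk
  let π := QuotientGroup.mk' (U.subgroupOf B)
  have hg1 : π ⟨g, hUB hg⟩ = 1 := (QuotientGroup.eq_one_iff _).2 hg
  have h1 : π ⟨_, hz⟩ ^ p ^ k = 1 := by
    have : π ⟨_, hz⟩ = π (⟨_, hz⟩ * ⟨g, hUB hg⟩⁻¹) := by rw [map_mul, map_inv, hg1]; simp
    rw [this, ← map_pow]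
    have : ((⟨_, hz⟩ : B) * ⟨g, hUB hg⟩⁻¹) ^ p ^ k = 1 := Subtype.ext hk'
    rw [this, map_one]
  have h2 : π ⟨_, hz⟩ ^ orderOf g = 1 := by
    rw [← map_pow]
    have : (⟨_, hz⟩ : B) ^ orderOf g = 1 := Subtype.ext (by simp [conj_pow, pow_orderOf_eq_one])
    rw [this, map_one]
  have h3 : π ⟨_, hz⟩ = 1 := by
    have := pow_gcd_eq_one.2 ⟨h2, h1⟩
    rwa [(hc.pow_right k).gcd_eq_one, pow_one] at this
  exact (QuotientGroup.eq_one_iff (N := U.subgroupOf B) _).1 h3

theorem IsGenCoprime.map_conj {U : Subgroup G} (hp : IsGenCoprime p U) (n : G) :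
    IsGenCoprime p (U.map (MulAut.conj n).toMonoidHom) := by
  intro K hK
  rw [map_le_iff_le_comap]
  refine hp _ fun g hg hc => hK _ ⟨g, hg, rfl⟩ ?_
  rwa [orderOf_injective (MulAut.conj n).toMonoidHom (MulAut.conj n).injective]

theorem tw_key (T : Subgroup G → Subgroup G) (P : Subgroup G → Prop)
    (hP : ∀ U n, P U → P (U.map (MulAut.conj n).toMonoidHom))
    (hT : ∀ U B H : Subgroup G, P U → U ≤ B → B ≤ H → B ≤ normalizer (U : Set G) →
      H ≤ normalizer (B : Set G) → T H ≤ normalizer (U : Set G))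
    (hle : ∀ H, T H ≤ H)
    (hmono : ∀ K H : Subgroup G, K ≤ H → H ≤ normalizer (K : Set G) → T K ≤ T H)
    (hres : ∀ K H : Subgroup G, K ≤ H → T H ≤ K → T H ≤ T K)
    {M N U : Subgroup G} (hU : P U) (hUM : normalizer (U : Set G) = M)
    (hUB : U ≤ coreIn (M ⊓ N) N) : T (M ⊓ N) = T N := by
  have hBD : coreIn (M ⊓ N) N ≤ M ⊓ N := coreIn_le _ _
  have hNB := le_normalizer_coreIn (M ⊓ N) N
  apply le_antisymm
  · refine le_trans (hres _ _ hBD ?_) (hmono _ _ (coreIn_le_right _ _) hNB)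
    intro x hx
    have hxN : x ∈ N := (hle _ hx).2
    refine mem_coreIn.2 ⟨hxN, fun n hn => ⟨?_, N.mul_mem (N.mul_mem hn hxN) (N.inv_mem hn)⟩⟩
    have h1 : normalizer (U.map (MulAut.conj n⁻¹).toMonoidHom : Set G) =
        M.map (MulAut.conj n⁻¹).toMonoidHom := by rw [← map_equiv_normalizer_eq, hUM]
    have h2 := hT (U.map (MulAut.conj n⁻¹).toMonoidHom) (coreIn (M ⊓ N) N) (M ⊓ N) (hP _ _ hU)
      (by
        rintro _ ⟨u, hu, rfl⟩
        exact (mem_normalizer_iff.1 (hNB (N.inv_mem hn)) u).1 (hUB hu))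
      hBD
      (by
        rw [h1]
        intro b hb
        exact ⟨n * b * n⁻¹, ((mem_coreIn.1 hb).2 n hn).1, by simp [mul_assoc]⟩)
      (inf_le_right.trans hNB)
    rw [h1] at h2
    obtain ⟨y, hy, rfl⟩ := h2 hx
    simpa [mul_assoc] using hy
  · refine hres _ _ inf_le_right (le_inf ?_ (hle _))
    rw [← hUM]
    exact hT U _ N hU hUB (coreIn_le_right _ _) (by rw [hUM]; exact hBD.trans inf_le_left) hNB

theorem tw_Ly {M N U : Subgroup G} (hUM : normalizer (U : Set G) = M)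
    (hUB : U ≤ coreIn (M ⊓ N) N) : Ly (M ⊓ N) = Ly N :=
  tw_key Ly (fun _ => True) (fun _ _ _ => trivial)
    (fun _ _ _ _ h1 h2 h3 h4 => Ly_le_normalizer h1 h2 h3 h4) Ly_le
    (fun _ _ h1 h2 => map_layer_subtype_mono h1 (isSubnormal_subgroupOf_of_le_normalizer h2))
    (fun _ _ h1 h2 => Ly_le_Ly_of_le h1 h2) trivial hUM hUB

theorem tw_Op [Finite G] {M N U : Subgroup G} (hU : IsGenCoprime p U)
    (hUM : normalizer (U : Set G) = M)
    (hUB : U ≤ coreIn (M ⊓ N) N) : Op p (M ⊓ N) = Op p N :=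
  tw_key (Op p) (IsGenCoprime p) (fun _ n h => IsGenCoprime.map_conj h n)
    (fun _ _ _ h0 h1 h2 h3 h4 => Op_le_normalizer h0 h1 h2 h3 h4) Op_le
    (fun _ _ h1 h2 => Op_mono h1 (isSubnormal_subgroupOf_of_le_normalizer h2))
    (fun _ _ h1 h2 => le_trans (le_inf le_rfl h2) (Op_inf_le_Op h1)) hU hUM hUB

theorem normalizer_eq_of_isCoatom {M X : Subgroup G} (hM : IsCoatom M) (hc : M.normalCore = ⊥)
    (hX : X ≠ ⊥) (hXM : X ≤ M) (hn : M ≤ normalizer (X : Set G)) : normalizer (X : Set G) = M := by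
  rcases hn.eq_or_lt with h | h
  · exact h.symm
  · haveI : X.Normal := normalizer_eq_top_iff.1 (hM.2 _ h)
    exact absurd (le_bot_iff.1 (hc ▸ normal_le_normalCore.2 hXM)) hX

theorem eq_bot_of_le_normalizer {M N X : Subgroup G} (hM : IsCoatom M) (hc : M.normalCore = ⊥)
    (hN : IsCoatom N) (hne : M ≠ N) (hXM : X ≤ M) (h1 : M ≤ normalizer (X : Set G))
    (h2 : N ≤ normalizer (X : Set G)) : X = ⊥ := by
  by_contra hX
  rw [normalizer_eq_of_isCoatom hM hc hX hXM h1] at h2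
  rcases h2.eq_or_lt with h | h
  · exact hne h.symm
  · exact hM.1 (hN.2 _ h)

/-- If the second core is not a `p`-group then `O_p(M) = O_p(N) = 1`. -/
theorem tw_Op_eq_bot [Finite G] [Fact p.Prime] {M N A : Subgroup G} (hM : IsCoatom M)
    (hcM : M.normalCore = ⊥) (hN : IsCoatom N) (hcN : N.normalCore = ⊥) (hne : M ≠ N)
    (hcard : Nat.card (Op p M) = Nat.card (Op p N)) (hA : M ≤ normalizer (A : Set G))
    (hAB : A ≤ coreIn (M ⊓ N) N) (hAp : ¬ IsPGroup p A) : Op p M = ⊥ ∧ Op p N = ⊥ := by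
  let U : Subgroup G := (pResidual p A).map A.subtype
  have hUA : U ≤ A := map_subtype_le _
  have hU : IsGenCoprime p U := fun K hK =>
    H8.map_subtype_pResidual_le_iff.2 fun g hg hc =>
      hK g ⟨⟨g, hg⟩, H8.mem_pResidual_of_coprime (by rwa [orderOf_mk]), rfl⟩ hc
  have hU0 : U ≠ ⊥ := fun h => hAp (H8.pResidual_eq_bot_iff.1 (map_subtype_eq_bot_iff.1 h))
  have hMU : M ≤ normalizer (U : Set G) := by
    haveI := H8.pResidual_characteristic (G := A) p
    refine le_normalizer_of_forall_conj fun g hg => ?_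
    refine hU (U.comap (MulAut.conj g).toMonoidHom) fun x hx hc => ?_
    refine ⟨⟨g * x * g⁻¹, (mem_normalizer_iff.1 (hA hg) x).1 (hUA hx)⟩,
      H8.mem_pResidual_of_coprime ?_, rfl⟩
    rw [orderOf_mk]
    have := orderOf_injective (MulAut.conj g).toMonoidHom (MulAut.conj g).injective x
    exact this ▸ hc
  have hUM := normalizer_eq_of_isCoatom hM hcM hU0
    (hUA.trans (hAB.trans ((coreIn_le _ _).trans inf_le_left))) hMU
  have hD := tw_Op hU hUM (hUA.trans hAB)
  have hRM : Op p N ≤ M := hD ▸ (Op_le _).trans inf_le_left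
  have h0 : Op p N = ⊥ := by
    by_contra h0
    have hRN := normalizer_eq_of_isCoatom hN hcN h0 (Op_le _) (le_normalizer_Op _)
    have hn : Op p N ≤ normalizer (Op p M : Set G) := hRM.trans (le_normalizer_Op _)
    have hle : Op p M ≤ Op p N := by
      by_contra hle
      have hP : IsPGroup p ↥(Op p M ⊔ Op p N) := (isPGroup_map_pCore_subtype M).to_sup_of_normal_left'
        (isPGroup_map_pCore_subtype N) hn
      have hlt : Op p N < Op p M ⊔ Op p N := right_lt_sup.2 hle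
      have := H8.lt_inf_normalizer_of_lt hP hlt
      refine this.not_ge fun x hx => ?_
      rw [hRN] at hx
      obtain ⟨hx1, hx2⟩ := hx
      have hx3 : x ∈ ((Op p M ⊔ Op p N : Subgroup G) : Set G) := hx1
      rw [coe_mul_of_right_le_normalizer_left _ _ hn] at hx3
      obtain ⟨q, hq, r, hr, rfl⟩ := hx3
      refine (Op p N).mul_mem ?_ hr
      rw [← hD]
      refine Op_inf_le_Op inf_le_left ⟨hq, Op_le _ hq, ?_⟩
      exact (N.mul_mem_cancel_right (Op_le _ hr)).1 hx2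
    have heq : Op p M = Op p N := eq_of_le_of_card_ge hle hcard.ge
    exact h0 (eq_bot_of_le_normalizer hM hcM hN hne hRM (heq ▸ le_normalizer_Op _)
      (le_normalizer_Op _))
  refine ⟨?_, h0⟩
  rw [h0, card_bot] at hcard
  exact card_eq_one.1 hcard

theorem fstar_eq_pCore_of [Finite G] [Fact p.Prime] {M : Subgroup G} (h1 : Ly M = ⊥)
    (h2 : ∀ r : ℕ, r.Prime → r ≠ p → Op r M = ⊥) :
    generalizedFittingSubgroup M = pCore p M := by
  refine le_antisymm ?_ pCore_le_fstar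
  rw [fstar_eq_fitting_iff.2 (map_subtype_eq_bot_iff.1 h1), fitting_eq_iSup_pCore]
  refine iSup_le fun q => ?_
  by_cases h : (q : ℕ) = p
  · rw [h]
  · rw [map_subtype_eq_bot_iff.1 (h2 q q.2 h)]
    exact bot_le

theorem fstar_eq_pCore_of_normal [Finite G] [Fact p.Prime] {A M : Subgroup G} (hAM : A ≤ M)
    (hn : M ≤ normalizer (A : Set G)) (h : generalizedFittingSubgroup M = pCore p M) :
    generalizedFittingSubgroup A = pCore p A := by
  refine le_antisymm ?_ pCore_le_fstar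
  haveI := fstar_normal (G := A)
  refine le_pCore ?_
  have h1 : Fs A ≤ Op p M := by
    have := Fs_mono hAM (isSubnormal_subgroupOf_of_le_normalizer hn)
    rwa [Fs, Fs, h] at this
  exact ((isPGroup_map_pCore_subtype M).to_le h1).of_equiv
    (equivMapOfInjective _ _ A.subtype_injective).symm

/-- **Thompson–Wielandt**. -/
theorem thompson_wielandt [Finite G] {M N A B : Subgroup G} (hM : IsCoatom M)
    (hcM : M.normalCore = ⊥) (hN : IsCoatom N) (hcN : N.normalCore = ⊥) (hne : M ≠ N)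
    (hcard : ∀ p, Nat.card (Op p M) = Nat.card (Op p N))
    (hA : M ≤ normalizer (A : Set G)) (hAB : A ≤ coreIn (M ⊓ N) N) (hA0 : A ≠ ⊥)
    (hB : N ≤ normalizer (B : Set G)) (hBA : B ≤ coreIn (M ⊓ N) M) (hB0 : B ≠ ⊥) :
    ∃ p : ℕ, p.Prime ∧ IsPGroup p A ∧ IsPGroup p B ∧
      generalizedFittingSubgroup M = pCore p M ∧ generalizedFittingSubgroup N = pCore p N := by
  have hAM : A ≤ M := hAB.trans ((coreIn_le _ _).trans inf_le_left)
  have hBN : B ≤ N := hBA.trans ((coreIn_le _ _).trans inf_le_right)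
  have hBA' : B ≤ coreIn (N ⊓ M) M := inf_comm M N ▸ hBA
  have hL1 := tw_Ly (normalizer_eq_of_isCoatom hM hcM hA0 hAM hA) hAB
  have hL2 := tw_Ly (normalizer_eq_of_isCoatom hN hcN hB0 hBN hB) hBA'
  rw [inf_comm, hL1] at hL2
  have hLM : Ly M = ⊥ := eq_bot_of_le_normalizer hM hcM hN hne (Ly_le _) (le_normalizer_Ly _)
    (hL2 ▸ le_normalizer_Ly _)
  have hLN : Ly N = ⊥ := hL2.trans hLM
  have hex : ∃ p : ℕ, p.Prime ∧ IsPGroup p A := by
    by_contra hcon
    push Not at hcon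
    haveI : Fact (Nat.Prime 2) := ⟨Nat.prime_two⟩
    have h1 : ∀ r : ℕ, r.Prime → Op r M = ⊥ := fun r hr =>
      haveI : Fact r.Prime := ⟨hr⟩
      (tw_Op_eq_bot hM hcM hN hcN hne (hcard r) hA hAB (hcon r hr)).1
    have h2 := fstar_eq_pCore_of (p := 2) hLM fun r hr _ => h1 r hr
    rw [map_subtype_eq_bot_iff.1 (h1 2 Nat.prime_two), fstar_eq_bot_iff] at h2
    apply hA0
    rw [eq_bot_iff]
    intro x hx
    exact congrArg Subtype.val (Subsingleton.elim (⟨x, hAM hx⟩ : M) 1)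
  obtain ⟨p, hp, hAp⟩ := hex
  haveI : Fact p.Prime := ⟨hp⟩
  have h1 : ∀ r : ℕ, r.Prime → r ≠ p → Op r M = ⊥ ∧ Op r N = ⊥ := fun r hr hrp => by
    haveI : Fact r.Prime := ⟨hr⟩
    refine tw_Op_eq_bot hM hcM hN hcN hne (hcard r) hA hAB fun hAr => hA0 ?_
    simpa using IsPGroup.disjoint_of_ne r p hrp A A hAr hAp
  refine ⟨p, hp, hAp, ?_, fstar_eq_pCore_of hLM fun r hr h => (h1 r hr h).1,
    fstar_eq_pCore_of hLN fun r hr h => (h1 r hr h).2⟩
  by_contra hBp
  have := (tw_Op_eq_bot hN hcN hM hcM hne.symm (hcard p).symm hB hBA' hBp).2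
  exact hA0 (le_bot_iff.1 (this ▸ le_map_pCore_subtype hAM hA hAp))

end Cfsg.Agent.H33
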