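import Cfsg.Agent.H17.TwA

/-!
# The automiser of the sign changes
-/

set_option autoImplicit false
set_option maxRecDepth 100000
set_option exponentiation.threshold 10000

namespace Cfsg.Agent.H33.TwK

open Equiv Subgroup Cfsg.Agent.H89.TG Cfsg.Agent.H89.Rec Cfsg.Agent.H17.Ya Cfsg.Agent.H17.Tw

universe u

/-! ### Counting centralisers -/

/-- An enumeration of the Sylow subgroup. -/
noncomputable def el (i : ℕ) : El := av (Nat.mod i 64) * rho (Nat.div i 64)

/-- The order of the centraliser. -/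
noncomputable def cn (c : ℕ) : ℕ := force c fun c => cntF (fun i =>
  forceB (mu (avc (Nat.mod i 64)) (rhoc (Nat.div i 64))) fun e => Nat.beq (mu e c) (mu c e)) 512

open Classical in
theorem cn_eq (w : El) :
    cn w.val = ((Finset.range 512).filter fun i => Commute (el i) w).card := by
  rw [cn, force_eq, cntF_eq]
  refine congrArg _ (Finset.filter_congr fun i _ => ?_)
  rw [forceB_eq, commute_iff_eq, eq_iff, val_mul, val_mul, el, val_mul, av_val, rho_val]

attribute [irreducible] cn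

theorem cntA : ∀ w : El, w ∈ T → w * w = 1 → Commute w g5 → w ∉ E0 → 64 ≤ cn w.val := by wdt

theorem cntB : ∀ w : El, w ∈ E0 → ¬ Commute w g5 → cn w.val ≤ 64 := by wdt

theorem rho_T : ∀ q < 8, rho q ∈ T := by kd

theorem rho_inj : ∀ a < 64, ∀ q < 8, ∀ q' < 8, av a * rho q = rho q' → a = 0 ∧ q = q' := by kd

theorem el_T {i : ℕ} (hi : i < 512) : el i ∈ T :=
  T.mul_mem (av_T' _) (rho_T _ (by change i / 64 < 8; omega))

theorem el_inj {i k : ℕ} (hi : i < 512) (hk : k < 512) (e : el i = el k) : i = k := by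
  have h1 : i % 64 < 64 := Nat.mod_lt _ (by decide)
  have h2 : k % 64 < 64 := Nat.mod_lt _ (by decide)
  have e' : av (k % 64 ^^^ i % 64) * rho (i / 64) = rho (k / 64) := by
    rw [← av_mul _ h2 _ h1, mul_assoc]
    change av (k % 64) * el i = _
    rw [e]
    change av (k % 64) * (av (k % 64) * rho (k / 64)) = _
    rw [← mul_assoc, av_sq h2, one_mul]
  obtain ⟨a1, a2⟩ := rho_inj _ (xor_lt h2 h1) _ (by omega) _ (by omega) e'
  have a3 := Nat.eq_of_xor_eq_zero a1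
  omega

theorem el_surj {w : El} (hw : w ∈ T) : ∃ i < 512, el i = w := by
  obtain ⟨q, hq, e⟩ := decT w hw
  have h1 := idx_lt (w * (rho q)⁻¹).val
  generalize idx _ = a at e h1
  refine ⟨64 * q + a, by omega, ?_⟩
  rw [← e]
  change av ((64 * q + a) % 64) * rho ((64 * q + a) / 64) = _
  rw [show (64 * q + a) % 64 = a by omega, show (64 * q + a) / 64 = q by omega]

variable {G : Type u} [Group G]

/-- A conjugation that maps a large centraliser into a small one is onto. -/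
theorem onto {j : T →* G} (hj : Function.Injective j) {g : G} {u y : T} (e : Cj j g u y)
    (h : ∀ r, Commute r u → ∃ r', Cj j g r r') (hc : cn (y : El).val ≤ cn (u : El).val) :
    ∀ s, Commute s y → ∃ r, Cj j g⁻¹ s r := by
  classical
  have key : ∀ i, ∃ k, ∀ hi : i < 512, Commute (el i) u →
      ∃ hk : k < 512, Cj j g ⟨el i, el_T hi⟩ ⟨el k, el_T hk⟩ := fun i => by
    by_cases hi : i < 512 ∧ Commute (el i) u
    · obtain ⟨r', hr⟩ := h ⟨el i, el_T hi.1⟩ (Subtype.ext hi.2.eq)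
      obtain ⟨k, hk, ek⟩ := el_surj r'.2
      exact ⟨k, fun _ _ => ⟨hk, hr.of_eq rfl (Subtype.ext ek.symm)⟩⟩
    · exact ⟨0, fun a b => absurd ⟨a, b⟩ hi⟩
  choose σ hσ using key
  rw [cn_eq, cn_eq] at hc
  have hs := Finset.surjOn_of_injOn_of_card_le σ (fun i hi => by
      obtain ⟨h1, h2⟩ := Finset.mem_filter.1 hi
      obtain ⟨hk, ek⟩ := hσ i (Finset.mem_range.1 h1) h2
      exact Finset.mem_filter.2 ⟨Finset.mem_range.2 hk,
        congrArg Subtype.val (ek.comm hj e (Subtype.ext h2.eq)).eq⟩)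
    (fun i hi k hk eik => by
      obtain ⟨h1, h2⟩ := Finset.mem_filter.1 hi
      obtain ⟨h3, h4⟩ := Finset.mem_filter.1 hk
      obtain ⟨_, e1⟩ := hσ i (Finset.mem_range.1 h1) h2
      obtain ⟨_, e2⟩ := hσ k (Finset.mem_range.1 h3) h4
      exact el_inj (Finset.mem_range.1 h1) (Finset.mem_range.1 h3) (congrArg Subtype.val
        (e1.uniq' hj (e2.of_eq rfl (Subtype.ext (congrArg el eik.symm)))))) hc
  intro s hs'
  obtain ⟨k, hk, ek⟩ := el_surj s.2
  obtain ⟨i, hi, rfl⟩ := hs (Finset.mem_filter.2 ⟨Finset.mem_range.2 hk, by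
    rw [ek]; exact congrArg Subtype.val hs'.eq⟩)
  obtain ⟨h1, h2⟩ := Finset.mem_filter.1 hi
  obtain ⟨_, e1⟩ := hσ i (Finset.mem_range.1 h1) h2
  exact ⟨_, e1.symm.of_eq (Subtype.ext ek) rfl⟩

/-! ### The automiser -/

/-- The inclusion of the sign changes. -/
noncomputable def ic : E0 →* T := inclusion E_le_T

theorem ic_val (u : E0) : (ic u : El) = u := rfl

theorem ic_inj : Function.Injective ic := inclusion_injective _

theorem ic_mem (u : E0) : ic u ∈ ET := u.2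

theorem exists_ic {u : T} (hu : u ∈ ET) : ∃ w, ic w = u := ⟨⟨u, hu⟩, rfl⟩

theorem cj_val (m : El) (u : E0) : (cj m u : El) = m * u * m⁻¹ := rfl

/-- Pairs of an element and the automorphism it induces. -/
def Rl (j : T →* G) : Subgroup (G × MulAut E0) where
  carrier := {p | ∀ u, Cj j p.1 (ic u) (ic (p.2 u))}
  one_mem' := fun u => Cj.refl _
  mul_mem' := fun {a b} ha hb u => (hb u).trans (ha _)
  inv_mem' := fun {a} ha u => by
    have := (ha (a.2⁻¹ u)).symm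
    rwa [MulAut.apply_inv_self] at this

/-- The automiser. -/
noncomputable def Dl (j : T →* G) : Subgroup (MulAut E0) :=
  ((MonoidHom.snd G (MulAut E0)).comp (Rl j).subtype).range

theorem mem_Dl {j : T →* G} {β : MulAut E0} :
    β ∈ Dl j ↔ ∃ g, ∀ u, Cj j g (ic u) (ic (β u)) :=
  ⟨by rintro ⟨⟨⟨g, β⟩, h⟩, rfl⟩; exact ⟨g, h⟩, fun ⟨g, h⟩ => ⟨⟨(g, β), h⟩, rfl⟩⟩

theorem mem_Rl (j : T →* G) (t : T) : (j t, cj t) ∈ Rl j := fun _ => Cj.self' rfl

theorem syl_Dl [Finite G] {j : T →* G} (h : Fr j) : Syl (T.map cj) (Dl j) := by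
  refine ⟨?_, sylT.grp.map _, ?_⟩
  · rintro _ ⟨t, ht, rfl⟩
    exact mem_Dl.2 ⟨j ⟨t, ht⟩, mem_Rl j ⟨t, ht⟩⟩
  · have h1 := (h.sylK (K := ((MonoidHom.fst G (MulAut E0)).comp (Rl j).subtype).range) (by
      rintro _ ⟨t, rfl⟩
      exact ⟨⟨_, mem_Rl j t⟩, rfl⟩)).odd
    rw [← index_comap] at h1
    rw [Dl, ← index_comap]
    refine h1.of_dvd_nat (index_dvd_of_le ?_)
    rintro ⟨⟨g, β⟩, hp⟩ ⟨t, ht⟩
    refine ⟨t, t.2, MulEquiv.ext fun u => ic_inj ?_⟩
    change j t = g at ht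
    subst ht
    exact (mem_Rl j t u).uniq h.inj (hp u)

theorem exists_aut {j : T →* G} (hj : Function.Injective j) {g : G} (hg : NmE j g) :
    ∃ β ∈ Dl j, ∀ u, Cj j g (ic u) (ic (β u)) := by
  have : ∀ u, ∃ w, Cj j g (ic u) (ic w) := fun u => by
    obtain ⟨v, hv, e⟩ := hg _ (ic_mem u)
    obtain ⟨w, rfl⟩ := exists_ic hv
    exact ⟨w, e⟩
  choose f hf using this
  let f' : E0 →* E0 := MonoidHom.mk' f fun a b => ic_inj (by
    have := (hf a).mul (hf b)
    rw [← map_mul, ← map_mul] at this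
    exact (hf (a * b)).uniq hj this)
  have hi : Function.Injective f' := fun a b e =>
    ic_inj ((hf a).uniq' hj ((hf b).of_eq rfl (congrArg ic e.symm)))
  exact ⟨MulEquiv.ofBijective f' (Finite.injective_iff_bijective.1 hi), mem_Dl.2 ⟨g, hf⟩, hf⟩

theorem nmE_of {j : T →* G} {g : G} {β : MulAut E0} (h : ∀ u, Cj j g (ic u) (ic (β u))) :
    NmE j g := fun u hu => by
  obtain ⟨w, rfl⟩ := exists_ic hu
  exact ⟨_, ic_mem _, h w⟩

/-! ### The axis is moved -/

theorem E_sq : ∀ w : El, w ∈ E0 → w * w = 1 := by wdt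

theorem E_comm {u v : T} (hu : u ∈ ET) (hv : v ∈ ET) : Commute u v :=
  Subtype.ext (commute_of_sq (E_sq _ hu) (E_sq _ hv) (E_sq _ (E0.mul_mem hu hv)))

theorem xo : ∀ w : El, w ∈ T → (Commute (w * x35) g5 ↔ ¬ Commute w g5) := by wd

/-- The involution outside the subgroup of index two. -/
noncomputable def c0 : T := ⟨x35, by kdt⟩

/-- The reflection. -/
noncomputable def r0 : T := ⟨g5, by kdt⟩

theorem mem_Q {u : T} : u ∈ centralizer {r0} ↔ Commute (u : El) g5 :=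
  mem_centralizer_singleton_iff.trans ⟨fun e => congrArg Subtype.val e, fun e => Subtype.ext e⟩

theorem idx2 : Idx2 (centralizer {r0}) (⊤ : Subgroup T) := ⟨le_top, by
  rw [relIndex_top_right]
  refine index_eq_two_iff.2 ⟨c0, fun b => ?_⟩
  rw [mem_Q, mem_Q]
  have := xo b b.2
  change (Commute ((b * c0 : T) : El) g5 ↔ _) at this
  by_cases hb : Commute (b : El) g5
  · exact Or.inr ⟨hb, fun e => this.1 e hb⟩
  · exact Or.inl ⟨this.2 hb, hb⟩⟩

theorem moved (W : WCEStmt.{u}) [Finite G] {j : T →* G} (h : Fr j)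
    (hG : ∀ K : Subgroup G, ¬ Idx2 K ⊤) :
    ∃ β ∈ Dl j, ∃ u : E0, Commute (u : El) g5 ∧ ¬ Commute (β u : El) g5 := by
  by_contra hn
  push Not at hn
  have key : ∀ g, NmE j g → ∀ u v : T, u ∈ ET → Cj j g u v →
      v ∈ ET ∧ (Commute (u : El) g5 ↔ Commute (v : El) g5) := fun g hg u v hu e => by
    obtain ⟨β, hβ, hb⟩ := exists_aut h.inj hg
    obtain ⟨w, rfl⟩ := exists_ic hu
    obtain rfl := (hb w).uniq h.inj e
    refine ⟨ic_mem _, hn β hβ w, fun hc => ?_⟩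
    have := hn β⁻¹ ((Dl j).inv_mem hβ) (β w) hc
    rwa [MulAut.inv_apply_self] at this
  have c2 : c0 * c0 = 1 := Subtype.ext (show x35 * x35 = 1 by kd)
  have cE : c0 ∈ ET := show x35 ∈ E0 by kdt
  have cn' : ¬ Commute (c0 : El) g5 := show ¬ Commute x35 g5 by kd
  obtain ⟨g, u, hu, e⟩ := h.thompson hG idx2 c2
  rw [mem_Q] at hu
  obtain ⟨k1, -, k2, -, y, e1, e2, h1, h2⟩ := h.ext2 le_top (mem_top g) e
  obtain ⟨yE, hy⟩ := key k2 (W G j h k2 fun r hr => h2 r (E_comm hr cE)) _ _ cE e2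
  have uE : u ∈ ET := by
    by_contra uE
    have u2 : u * u = 1 := (e.mul e).eq_one h.inj c2
    exact uE (key k1⁻¹ (W G j h _ fun r hr => onto h.inj e1 h1
      ((cntB _ yE (mt hy.2 cn')).trans (cntA _ u.2 (congrArg Subtype.val u2) hu uE)) r
        (E_comm hr yE)) _ _ yE e1.symm).1
  exact cn' (hy.2 ((key k1 (W G j h k1 fun r hr => h1 r (E_comm hr uE)) _ _ uE e1).2.1 hu))

theorem k (W : WCEStmt.{u}) (H1 : K1Stmt) (H2 : K2Stmt) : KStmt.{u} := by
  intro G _ _ j h hG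
  rcases H1 (Dl j) (syl_Dl h) (moved W h hG) with ⟨h1, β, hβ, h2⟩ | ⟨φ, hφ, h1⟩
  · refine Or.inl ⟨fun g hg u v hu e => ?_, ?_⟩
    · obtain ⟨β, hβ, hb⟩ := exists_aut h.inj hg
      obtain ⟨w, rfl⟩ := exists_ic hu
      obtain rfl := (hb w).uniq h.inj e
      refine ⟨h1 β hβ w, fun hc => ?_⟩
      have := h1 β⁻¹ ((Dl j).inv_mem hβ) (β w) hc
      rwa [MulAut.inv_apply_self] at this
    · obtain ⟨g, hg⟩ := mem_Dl.1 hβ
      exact ⟨g, nmE_of hg,
        (hg ⟨av 1, by kdt⟩).of_eq rfl (Subtype.ext ((h2 _).1 rfl)),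
        (hg ⟨av 4, by kdt⟩).of_eq rfl (Subtype.ext ((h2 _).2.1 rfl)),
        (hg ⟨av 16, by kdt⟩).of_eq rfl (Subtype.ext ((h2 _).2.2 rfl))⟩
  · obtain ⟨α, hα⟩ := H2 φ hφ
    have ha : ∀ u, α (ic u) = ic (φ u) := fun u => Subtype.ext (hα u)
    have key : ∀ (g : G) (m : El) (β : MulAut E0), φ⁻¹ * β * φ = cj m →
        (∀ u, Cj j g (ic u) (ic (β u))) → ∀ u v : T, u ∈ ET → m * u * m⁻¹ = v →
        Cj (j.comp α.toMonoidHom) g u v := fun g m β e hb u v hu ev => by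
      obtain ⟨w, rfl⟩ := exists_ic hu
      obtain rfl : v = ic (cj m w) := Subtype.ext ev.symm
      rw [Cj.comp]
      refine (hb (φ w)).of_eq (ha w).symm (Eq.trans ?_ (ha _).symm)
      rw [← e, MulAut.mul_apply, MulAut.mul_apply, MulAut.apply_inv_self]
    refine Or.inr ⟨j.comp α.toMonoidHom, h.comp α.bijective, fun m => ?_, fun g hg => ?_⟩
    · have e : φ⁻¹ * (φ * cj m * φ⁻¹) * φ = cj m := by group
      obtain ⟨g, hg⟩ := mem_Dl.1 ((h1 _).2 ⟨m, e.symm⟩)
      exact ⟨g, key g m _ e hg⟩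
    · have hg' : NmE j g := fun u hu => by
        obtain ⟨w, rfl⟩ := exists_ic hu
        obtain ⟨v, hv, e⟩ := hg _ (ic_mem (φ⁻¹ w))
        obtain ⟨w', rfl⟩ := exists_ic hv
        rw [Cj.comp] at e
        refine ⟨_, ic_mem (φ w'), e.of_eq ((ha _).trans ?_) (ha _)⟩
        rw [MulAut.apply_inv_self]
      obtain ⟨β, hβ, hb⟩ := exists_aut h.inj hg'
      obtain ⟨m, hm⟩ := (h1 β).1 hβ
      exact ⟨m, key g m β hm.symm hb⟩

end Cfsg.Agent.H33.TwK
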