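import Cfsg.Agent.H97.U5Defs

/-! Reflections, diagonal and field automorphisms of `SU₅`. -/

set_option autoImplicit false

namespace Cfsg.Agent.H33.U5X

open Cfsg.Agent.H97.U5 Matrix

universe u

variable {K : Type u} [Field K] (T : Hm K)

theorem xext {g k : XU T} (h : g.1.1 = k.1.1) : g = k := Subtype.ext (Subtype.ext h)

theorem coe_mul (g k : XU T) : (g * k).1.1 = g.1.1 * k.1.1 := rfl

/-- the reflection normalizing `Q` -/
def nQ : XU T :=
  ⟨⟨!![1, 0, 0, 0, 0; 0, 0, 0, 1, 0; 0, 0, -1, 0, 0; 0, 1, 0, 0, 0; 0, 0, 0, 0, 1], by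
    simp [Matrix.det_succ_row_zero, Fin.sum_univ_succ, Fin.succAbove]⟩, by
    change _ = _
    ext i j
    fin_cases i <;> fin_cases j <;> simp [J5, Matrix.mul_apply, Fin.sum_univ_five]⟩

/-- the reflection normalizing `R` -/
def nR : XU T :=
  ⟨⟨!![0, 1, 0, 0, 0; -1, 0, 0, 0, 0; 0, 0, 1, 0, 0; 0, 0, 0, 0, -1; 0, 0, 0, 1, 0], by
    simp [Matrix.det_succ_row_zero, Fin.sum_univ_succ, Fin.succAbove]⟩, by
    change _ = _
    ext i j
    fin_cases i <;> fin_cases j <;> simp [J5, Matrix.mul_apply, Fin.sum_univ_five]⟩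

theorem nQ_conj (u : U T) (hu : u ∈ Q T) : nQ T * iU T u * (nQ T)⁻¹ = iU T (wQ u) := by
  rw [mul_inv_eq_iff_eq_mul]
  refine xext T ?_
  rw [coe_mul, coe_mul, coe_iU, coe_iU]
  have h1 : u.v2 = 0 := hu.1
  have h2 : u.d = 0 := hu.2
  ext i j
  fin_cases i <;> fin_cases j <;>
    simp [nQ, mat, wQ, Matrix.mul_apply, Fin.sum_univ_five, h1, h2] <;> ring

theorem nR_conj (u : U T) (hu : u ∈ R T) : nR T * iU T u * (nR T)⁻¹ = iU T (wR u) := by
  rw [mul_inv_eq_iff_eq_mul]
  refine xext T ?_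
  rw [coe_mul, coe_mul, coe_iU, coe_iU]
  have h1 : u.t = 0 := hu
  ext i j
  fin_cases i <;> fin_cases j <;>
    simp [nR, mat, wR, Matrix.mul_apply, Fin.sum_univ_five, h1] <;> ring

/-- the diagonal entries -/
def dv (c : Kˣ × Kˣ) : Fin 5 → K := ![c.1, c.2, 1, (T.σ c.2)⁻¹, (T.σ c.1)⁻¹]

/-- the diagonal matrix -/
def D (c : Kˣ × Kˣ) : Matrix (Fin 5) (Fin 5) K := diagonal (dv T c)

theorem D_mul (c e : Kˣ × Kˣ) : D T (c * e) = D T c * D T e := by
  rw [D, D, D, diagonal_mul_diagonal]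
  congr 1
  funext i
  fin_cases i <;> simp [dv, mul_comm]

theorem D_one : D T 1 = 1 := by
  rw [D, ← diagonal_one]
  congr 1
  funext i
  fin_cases i <;> simp [dv]

theorem D_inv (c : Kˣ × Kˣ) : D T c⁻¹ * D T c = 1 := by rw [← D_mul, inv_mul_cancel, D_one]

theorem D_unit (c : Kˣ × Kˣ) : ((D T c).map T.σ).transpose * J5 K * D T c = J5 K := by
  have h1 := T.σ_ne_zero c.1.ne_zero
  have h2 := T.σ_ne_zero c.2.ne_zero
  rw [D, diagonal_map (map_zero _), diagonal_transpose]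
  ext i j
  rw [mul_diagonal, diagonal_mul]
  fin_cases i <;> fin_cases j <;> simp [dv, J5, h1, h2]

theorem unit_mul {A B : Matrix (Fin 5) (Fin 5) K} (ha : (A.map T.σ).transpose * J5 K * A = J5 K)
    (hb : (B.map T.σ).transpose * J5 K * B = J5 K) :
    ((A * B).map T.σ).transpose * J5 K * (A * B) = J5 K := by
  rw [Matrix.map_mul, Matrix.transpose_mul, Matrix.mul_assoc, Matrix.mul_assoc,
    ← Matrix.mul_assoc (J5 K), ← Matrix.mul_assoc _ (J5 K * A), ← Matrix.mul_assoc _ (J5 K), ha,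
    ← Matrix.mul_assoc, hb]

/-- conjugation by a diagonal matrix -/
def cT (c : Kˣ × Kˣ) (g : XU T) : XU T :=
  ⟨⟨D T c * g.1.1 * D T c⁻¹, by
    rw [det_mul, det_mul, g.1.2, mul_one, ← det_mul, ← D_mul, mul_inv_cancel, D_one, det_one]⟩,
    unit_mul T (unit_mul T (D_unit T c) g.2) (D_unit T c⁻¹)⟩

theorem coe_cT (c : Kˣ × Kˣ) (g : XU T) : (cT T c g).1.1 = D T c * g.1.1 * D T c⁻¹ := rfl

theorem cT_cT (c e : Kˣ × Kˣ) (g : XU T) : cT T c (cT T e g) = cT T (c * e) g :=
  xext T (by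
    rw [coe_cT, coe_cT, coe_cT, _root_.mul_inv_rev, D_mul, D_mul]
    simp only [Matrix.mul_assoc])

theorem cT_one (g : XU T) : cT T 1 g = g :=
  xext T (by rw [coe_cT, inv_one, D_one, Matrix.one_mul, Matrix.mul_one])

/-- the diagonal automorphisms -/
def aT : Kˣ × Kˣ →* MulAut (XU T) := MonoidHom.mk' (fun c =>
    { toFun := cT T c
      invFun := cT T c⁻¹
      left_inv := fun g => by rw [cT_cT, inv_mul_cancel, cT_one]
      right_inv := fun g => by rw [cT_cT, mul_inv_cancel, cT_one]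
      map_mul' := fun g k => xext T (by
        rw [coe_mul, coe_cT, coe_cT, coe_cT, coe_mul]
        simp only [Matrix.mul_assoc]
        rw [← Matrix.mul_assoc (D T c⁻¹) (D T c), D_inv, Matrix.one_mul]) })
  fun c e => MulEquiv.ext fun g => (cT_cT T c e g).symm

theorem aT_iU (c : Kˣ × Kˣ) (u : U T) : aT T c (iU T u) = iU T (tor T c u) := by
  have h1 := T.σ_ne_zero c.1.ne_zero
  have h2 := T.σ_ne_zero c.2.ne_zero
  refine xext T ?_
  change D T c * mat u * D T c⁻¹ = mat (tor T c u)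
  ext i j
  rw [D, D, mul_diagonal, diagonal_mul]
  fin_cases i <;> fin_cases j <;> simp [dv, mat, h1, h2] <;> field_simp

/-- a field automorphism applied to the entries -/
def cF (φ : RingAut K) (g : XU T) : XU T :=
  ⟨⟨g.1.1.map φ, by
    have := RingHom.map_det (φ : K →+* K) g.1.1
    rw [g.1.2, map_one] at this
    exact this.symm⟩, by
    have h : (g.1.1.map T.σ).transpose * J5 K * g.1.1 = J5 K := g.2
    have hJ : (J5 K).map φ = J5 K := by
      ext i j
      fin_cases i <;> fin_cases j <;> simp [J5]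
    have e : ((g.1.1.map φ).map T.σ).transpose = ((g.1.1.map T.σ).transpose).map φ := by
      ext i j
      exact (T.com φ _).symm
    change ((g.1.1.map φ).map T.σ).transpose * J5 K * g.1.1.map φ = J5 K
    rw [e]
    conv_lhs => rw [← hJ]
    rw [← Matrix.map_mul, ← Matrix.map_mul, h, hJ]⟩

theorem coe_cF (φ : RingAut K) (g : XU T) : (cF T φ g).1.1 = g.1.1.map φ := rfl

/-- the field automorphisms -/
def aF : RingAut K →* MulAut (XU T) := MonoidHom.mk' (fun φ =>
    { toFun := cF T φ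
      invFun := cF T φ⁻¹
      left_inv := fun g => xext T (Matrix.ext fun _ _ => φ.symm_apply_apply _)
      right_inv := fun g => xext T (Matrix.ext fun _ _ => φ.apply_symm_apply _)
      map_mul' := fun g k => xext T Matrix.map_mul })
  fun _ _ => MulEquiv.ext fun _ => rfl

theorem aF_iU (φ : RingAut K) (u : U T) : aF T φ (iU T u) = iU T (fld T φ u) := by
  refine xext T ?_
  change (mat u).map φ = mat (fld T φ u)
  ext i j
  fin_cases i <;> fin_cases j <;> simp [mat, T.com]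

theorem D_map (φ : RingAut K) (c : Kˣ × Kˣ) :
    (D T c).map φ = D T (Units.map (φ : K →* K) c.1, Units.map (φ : K →* K) c.2) := by
  rw [D, D, diagonal_map (map_zero _)]
  congr 1
  funext i
  fin_cases i <;> simp [dv, T.com]

theorem aF_aT (φ : RingAut K) (c : Kˣ × Kˣ) :
    aF T φ * aT T c = aT T (Units.map (φ : K →* K) c.1, Units.map (φ : K →* K) c.2) * aF T φ := by
  refine MulEquiv.ext fun g => xext T ?_
  change (D T c * g.1.1 * D T c⁻¹).map φ = D T _ * g.1.1.map φ * D T _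
  rw [Matrix.map_mul, Matrix.map_mul, D_map, D_map]
  rfl

variable {T}

theorem x1 : X1Stmt T :=
  ⟨⟨nQ T, nQ_conj T⟩, ⟨nR T, nR_conj T⟩, aT T, aF T, aT_iU T, aF_iU T, aF_aT T⟩

end Cfsg.Agent.H33.U5X
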