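import Cfsg.Agent.H33.WrT

/-! The wreath case with graph automorphisms: the steps SYL, WF and AB. -/

set_option autoImplicit false

namespace Cfsg.Agent.H33.Wr

open Cfsg Cfsg.Agent.H63 Cfsg.Agent.H63.SL Cfsg.Agent.H63.WR Cfsg.Agent.H67 Subgroup
open Cfsg.Agent.H27.End (mem_C1 comm_of_C mem_C conj_mem mem_N_of_conj)
open Cfsg.Agent.H8 (IsSylowIn isSylowIn_of_maximal lt_inf_normalizer_of_lt isPGroup_conj_smul
  card_conj_smul)
open scoped commutatorElement Pointwise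

universe u

variable {G : Type u} [Group G] [Finite G] {L U T : Subgroup G} {t w : G} (c : WC L U T t w)
  (k : WK L U T t w)
include c k

theorem syl : IsSylowIn 2 T ⊤ := by
  haveI : Fact (Nat.Prime 2) := ⟨Nat.prime_two⟩
  refine isSylowIn_of_maximal le_top c.syl.isPGroup fun Q hQ _ TQ => ?_
  by_contra hn
  obtain ⟨x, ⟨xQ, xN⟩, xT⟩ := SetLike.exists_of_lt (lt_inf_normalizer_of_lt hQ
    (lt_of_le_of_ne TQ fun e => hn e.ge))
  refine full c k ((U_0 c k).trans inf_le_left) le_rfl xN c.tT k.tn (by_contra fun h => xT ?_)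
  have := c.hat x⁻¹ (c.syl.le (conj_mem (inv_mem xN) c.tT)) (by simpa using h)
  exact (c.syl.eq_of_le hQ.to_inf_left inf_le_right (le_inf TQ c.syl.le)).le 
    ⟨xQ, (Subgroup.inv_mem_iff _).1 this⟩

theorem wf : WF L T w := by
  haveI : Fact (Nat.Prime 2) := ⟨Nat.prime_two⟩
  refine isSylowIn_of_maximal c.wc c.syl.isPGroup.to_inf_left fun Q hQ QC TQ => ?_
  by_contra hn
  obtain ⟨x, hx, xT⟩ := SetLike.exists_of_lt (lt_inf_normalizer_of_lt hQ
    (lt_of_le_of_ne TQ fun e => hn e.ge))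
  obtain ⟨n, nN, h⟩ := ((syl c k).mono (K := N[T ⊓ N[L]])
    (fun m hm => mem_N_of_conj fun y hy => cj_0 c k hm hy) le_top).exists_conj_le
    hQ.to_inf_left (inf_le_right : Q ⊓ N[T ⊓ N[L]] ≤ _)
  have sT : n * x * n⁻¹ ∈ T := h (conj_mem_cj hx)
  exact ntw c k (n := n) (fun y hy => conj_mem nN (U_0 c k hy))
    (fun y hy => by simpa using conj_mem (inv_mem nN) (U_0 c k hy)) sT
    (fun e => xT (by simpa [mul_assoc] using conj_mem (inv_mem nN) (mem_inf.2 ⟨sT, e⟩)))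
    ((mem_C1.1 (QC hx.1)).symm.conj n)

theorem wz (g : G) : g * w * g⁻¹ ≠ w * (t * w * t⁻¹) := fun e => by
  haveI : Fact (Nat.Prime 2) := ⟨Nat.prime_two⟩
  have h := (wf c k).card_le (isPGroup_conj_smul c.syl.isPGroup g⁻¹) fun x hx => by
    have := mem_C1.1 (k.zT (mem_cj.1 hx))
    rw [← e] at this
    exact mem_C1.2 (by simpa [mul_assoc] using this.conj g⁻¹)
  rw [card_conj_smul] at h
  exact k.tn ((eq_of_le_of_card_ge inf_le_left h).ge c.tT).2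

theorem ab0 {h : G} (hT : h * w * h⁻¹ ∈ T) (hL : h * w * h⁻¹ ∉ N[L])
    (TT : ∀ x ∈ T, x * (h * w * h⁻¹) * x⁻¹ = h * w * h⁻¹ ∨
      x * (h * w * h⁻¹) * x⁻¹ = h * w * h⁻¹ * (w * (t * w * t⁻¹)) → h⁻¹ * x * h ∈ T) : False := by
  obtain ⟨r, hr⟩ : ∃ r, r = h * w * h⁻¹ := ⟨_, rfl⟩
  rw [← hr] at hT hL TT
  have r2 : r * r = 1 := by rw [hr, conj_mul, c.w2, mul_one, mul_inv_cancel]
  have ri : r⁻¹ = r := inv_eq_of_mul_eq_one_right r2
  have e0 := cm_sw c k hT hL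
  have m := fun a (ha : a ∈ U) => sw1 k hT hL ha
  have sT : h⁻¹ * w * h ∈ T := TT w (wT c) (.inr (by
    rw [(mem_C1.1 (k.zT hT)).eq, ← e0]; group))
  have sL : h⁻¹ * w * h ∉ N[L] := fun e => k.z1 (by
    have := (cm_0 c sT e).eq
    calc _ = h * (h⁻¹ * w * h * w) * h⁻¹ * w⁻¹ * r⁻¹ := by rw [← e0, hr]; group
      _ = 1 := by rw [this, hr]; group)
  let ψ : U →* G := MonoidHom.mk' (fun a => h⁻¹ * (a * (r * a * r⁻¹)) * h) fun a b => by
    have := (comU k b.2 (m a a.2)).eq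
    calc h⁻¹ * (a * b * (r * (a * b) * r⁻¹)) * h
        = h⁻¹ * a * (b * (r * a * r⁻¹)) * (r * b * r⁻¹) * h := by group
      _ = _ := by rw [this]; group
  have ψ0 : ∀ a, ψ a ∈ T ⊓ N[L] := fun a => by
    have e : Commute (a * (r * a * r⁻¹)) r := by
      calc _ = a * r * a * (r⁻¹ * r) := by group
        _ = r * (r * a * r⁻¹ * a) := by
          rw [inv_mul_cancel, mul_one, ri, ← mul_assoc, ← mul_assoc, ← mul_assoc, r2, one_mul]
        _ = _ := by rw [(comU k a.2 (m a a.2)).eq]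
    have h1 : ψ a ∈ T := TT _ (mul_mem (c.UT a.2) (k.swap.UT (m a a.2)))
      (.inl (by rw [e.eq, mul_inv_cancel_right]))
    refine ⟨h1, mem_0 c k h1 ?_⟩
    have := e.conj h⁻¹
    rwa [show h⁻¹ * r * h⁻¹⁻¹ = w by rw [hr]; group, inv_inv] at this
  obtain ⟨u, hu, ⟨l, hl, e1⟩, l', hl', e2⟩ := c.wl.rl w c.wZ c.w1 c.w2
  obtain ⟨⟨u, uU⟩, hu', rfl⟩ := (show ⁅U, U⁆ ≤ ((U ⊔ cj t U).comap ψ).map U.subtype from
    commutator_le.2 fun a ha b hb => mem_map.2 ⟨⁅(⟨a, ha⟩ : U), (⟨b, hb⟩ : U)⁆, by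
      rw [mem_comap, map_commutatorElement]
      exact k.der (commutator_mem_commutator (ψ0 _) (ψ0 _)), rfl⟩) hu
  change u = _ at e1
  change u * w = _ at e2
  obtain ⟨a, ha, b, hb, e⟩ := (coe_mul_of_left_le_normalizer_right U (cj t U) fun a ha =>
    centralizer_le_normalizer _ (mem_C fun b hb => comU k ha hb)).subset hu'
  replace e : h⁻¹ * (u * (r * u * r⁻¹)) * h = a * b := e.symm
  have u2 : u * u = 1 := by rw [e1, conj_mul, c.w2, mul_one, mul_inv_cancel]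
  have wu : Commute w (u * (r * u * r⁻¹)) :=
    (comm_of_C c.wZ.2 uU).mul_right (comU k c.wZ.1 (m u uU))
  have e3 : h⁻¹ * w * h * b * (h⁻¹ * w * h)⁻¹ * (h⁻¹ * w * h * a * (h⁻¹ * w * h)⁻¹) = a * b := by
    rw [conj_mul, ← (comU k ha hb).eq, ← e]
    calc _ = h⁻¹ * (w * (u * (r * u * r⁻¹))) * w⁻¹ * h := by group
      _ = _ := by rw [wu.eq]; group
  have e4 := (udec k (sw2 k sT sL hb) ha (sw1 k sT sL ha) hb e3).2
  have e5 : a * a * (b * b) = 1 * 1 := by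
    calc _ = a * b * (a * b) := ((comU k ha hb).mul_mul_mul_comm a b)
      _ = h⁻¹ * u * ((r * u * r⁻¹) * u) * (r * u * r⁻¹) * h := by rw [← e]; group
      _ = h⁻¹ * (u * u) * (r * (u * u) * r⁻¹) * h := by rw [← (comU k uU (m u uU)).eq]; group
      _ = _ := by rw [u2]; group
  have ai : a⁻¹ = a := inv_eq_of_mul_eq_one_right
    (udec k (mul_mem ha ha) (one_mem _) (mul_mem hb hb) (one_mem _) e5).1
  have e6 : h * a * h⁻¹ * w * (h * a * h⁻¹)⁻¹ = u * w * (r * u * r⁻¹) := by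
    calc _ = h * (a * (h⁻¹ * w * h * a⁻¹ * (h⁻¹ * w * h)⁻¹)) * h⁻¹ * w := by group
      _ = u * ((r * u * r⁻¹) * w) := by rw [ai, e4, ← e]; group
      _ = _ := by rw [← (comU k c.wZ.1 (m u uU)).eq, ← mul_assoc]
  have cL : ∀ x ∈ L, ∀ y ∈ L, Commute x (r * y * r⁻¹) := fun x hx y hy => by
    obtain ⟨y', hy', e⟩ := (k.sw r (c.syl.le hT) hL).1.le (conj_mem_cj hy)
    exact e ▸ c.com x hx y' hy'
  have a1 := (cL w (c.wl.syl.le c.wZ.1) l hl).eq
  have a2 := (cL l' hl' u (c.wl.syl.le uU)).inv_left.eq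
  refine wz c k ((l' * (r * l * r⁻¹))⁻¹ * (h * a * h⁻¹)) ?_
  calc _ = (r * l * r⁻¹)⁻¹ * l'⁻¹ * (h * a * h⁻¹ * w * (h * a * h⁻¹)⁻¹) * l' * (r * l * r⁻¹) := by
        group
    _ = (r * l * r⁻¹)⁻¹ * w * (l'⁻¹ * (r * u * r⁻¹)) * l' * (r * l * r⁻¹) := by rw [e6, e2]; group
    _ = (r * l * r⁻¹)⁻¹ * (w * (r * l * r⁻¹)) * (r * w * r⁻¹) := by rw [a2, e1]; group
    _ = _ := by rw [a1, (k.Tsw r hT hL).2.2.1]; group

theorem ab : AB L T t w := by
  haveI : Fact (Nat.Prime 2) := ⟨Nat.prime_two⟩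
  intro g hg hT
  by_contra hL
  have z2 : w * (t * w * t⁻¹) * (w * (t * w * t⁻¹)) = 1 := by
    rw [← pow_two, (comU k c.wZ.1 (conj_mem_cj c.wZ.1)).mul_pow, pow_two, pow_two, conj_mul, c.w2]
    group
  have cz : ∀ g ∈ C1[w * (t * w * t⁻¹)],
      g * t * w * (g * t)⁻¹ = g * w * g⁻¹ * (w * (t * w * t⁻¹)) := fun g hg => by
    calc _ = g * (w * w) * (t * w * t⁻¹) * g⁻¹ := by rw [c.w2]; group
      _ = g * w * g⁻¹ * (g * (w * (t * w * t⁻¹))) * g⁻¹ := by group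
      _ = _ := by rw [(mem_C1.1 hg).eq]; group
  let X : Subgroup G :=
    { carrier := {x | Commute x (w * (t * w * t⁻¹)) ∧ (x * (g * w * g⁻¹) * x⁻¹ = g * w * g⁻¹ ∨
        x * (g * w * g⁻¹) * x⁻¹ = g * w * g⁻¹ * (w * (t * w * t⁻¹)))}
      one_mem' := ⟨Commute.one_left _, .inl (by group)⟩
      mul_mem' := by
        generalize w * (t * w * t⁻¹) = z at z2
        generalize g * w * g⁻¹ = r
        rintro a b ⟨a1, a2⟩ ⟨b1, b2⟩
        refine ⟨a1.mul_left b1, ?_⟩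
        rw [show a * b * r * (a * b)⁻¹ = a * (b * r * b⁻¹) * a⁻¹ by group]
        have az : a * (r * z) * a⁻¹ = a * r * a⁻¹ * z := by
          rw [← conj_mul, a1.eq, mul_inv_cancel_right]
        rcases b2 with b2 | b2 <;> rw [b2]
        · exact a2
        · rw [az]
          rcases a2 with a2 | a2 <;> rw [a2]
          · exact .inr rfl
          · exact .inl (by rw [mul_assoc, z2, mul_one])
      inv_mem' := by
        generalize w * (t * w * t⁻¹) = z at z2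
        generalize g * w * g⁻¹ = r
        rintro a ⟨a1, a2⟩
        refine ⟨a1.inv_left, a2.imp (fun e => ?_) fun e => ?_⟩
        · nth_rewrite 1 [← e]
          group
        · calc _ = a⁻¹ * (r * (z * z)) * a := by rw [z2]; group
            _ = a⁻¹ * (r * z) * (z * a) := by group
            _ = r * z := by rw [← a1.eq]; nth_rewrite 1 [← e]; group }
  have gX : cj g T ≤ X := cj_le_iff.2 fun y hy => by
    refine ⟨mem_C1.1 (mul_mem (mul_mem hg (k.zT hy)) (inv_mem hg)), ?_⟩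
    rw [show g * y * g⁻¹ * (g * w * g⁻¹) * (g * y * g⁻¹)⁻¹ = g * (y * w * y⁻¹) * g⁻¹ by group]
    by_cases h : y ∈ N[L]
    · exact .inl (by rw [(cm_0 c hy h).eq, mul_inv_cancel_right])
    · exact .inr (by rw [(k.Tsw y hy h).2.2.1, ← cz g hg]; group)
  obtain ⟨n, hn, TX⟩ := (((syl c k).conj_smul_of_mem_normalizer (g := g)
    (le_normalizer (mem_top g))).mono gX le_top).exists_conj_le (Q := T ⊓ X)
      c.syl.isPGroup.to_inf_left inf_le_right
  have fin : ∀ h, h * w * h⁻¹ = g * w * g⁻¹ → (∀ x ∈ T ⊓ X, h⁻¹ * x * h ∈ T) → False :=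
    fun h e hx => ab0 c k (e ▸ hT) (e ▸ hL) fun x xT h1 => hx x ⟨xT, mem_C1.1 (k.zT xT), e ▸ h1⟩
  have gz := mul_mem (inv_mem (mem_C1.2 hn.1)) hg
  have gT : ∀ x ∈ T ⊓ X, (n⁻¹ * g)⁻¹ * x * (n⁻¹ * g) ∈ T := fun x hx => by
    have := mem_cj.1 (TX (conj_mem_cj (g := n) hx))
    rwa [show g⁻¹ * (n * x * n⁻¹) * g = (n⁻¹ * g)⁻¹ * x * (n⁻¹ * g) by group] at this
  rcases (inv_mem hn).2 with e | e
  · exact fin _ (by rw [← e]; group) gT
  · refine fin (n⁻¹ * g * t) ?_ fun x hx => ?_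
    · rw [cz _ gz, show n⁻¹ * g * w * (n⁻¹ * g)⁻¹ = n⁻¹ * (g * w * g⁻¹) * n⁻¹⁻¹ by group, e,
        mul_assoc, z2, mul_one]
    · have := mul_mem (mul_mem (inv_mem c.tT) (gT x hx)) c.tT
      rwa [show t⁻¹ * ((n⁻¹ * g)⁻¹ * x * (n⁻¹ * g)) * t =
        (n⁻¹ * g * t)⁻¹ * x * (n⁻¹ * g * t) by group] at this

omit c k in
/-- **SYL + WF + AB** -/
theorem sylStmt (hk : WKStmt.{u}) : SylStmt.{u} := fun L U T t w c =>
  ⟨syl c (hk L U T t w c), wf c (hk L U T t w c), ab c (hk L U T t w c)⟩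

end Cfsg.Agent.H33.Wr
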