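import Cfsg.Agent.H63.WrDefs
import Cfsg.Agent.H27.EndKit
import Cfsg.Agent.H67.Conj

/-! The wreath case with graph automorphisms: the lemmas TRICK and FULL. -/

set_option autoImplicit false

namespace Cfsg.Agent.H33.Wr

open Cfsg Cfsg.Agent.H63 Cfsg.Agent.H63.SL Cfsg.Agent.H63.WR Cfsg.Agent.H67 Subgroup
open Cfsg.Agent.H27.End (mem_C1 comm_of_C mem_C conj_mem)
open scoped commutatorElement

universe u

variable {G : Type u} [Group G] {L U T P : Subgroup G} {t w n d ρ : G} (c : WC L U T t w)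
  (k : WK L U T t w)
include c

theorem wi : w⁻¹ = w := inv_eq_of_mul_eq_one_right c.w2

theorem wT : w ∈ T := c.UT c.wZ.1

include k

omit c in
theorem comU {a b : G} (ha : a ∈ U) (hb : b ∈ cj t U) : Commute a b := k.idp.2.2.1 a ha b hb

omit c in
theorem one_of {a : G} (ha : a ∈ U) (hb : a ∈ cj t U) : a = 1 :=
  mem_bot.1 (k.idp.2.2.2.1 ▸ mem_inf.2 ⟨ha, hb⟩)

omit c in
theorem udec {a a' b b' : G} (ha : a ∈ U) (ha' : a' ∈ U) (hb : b ∈ cj t U) (hb' : b' ∈ cj t U)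
    (e : a * b = a' * b') : a = a' ∧ b = b' := by
  have e1 : a'⁻¹ * a = b' * b⁻¹ := by
    rw [inv_mul_eq_iff_eq_mul, ← mul_assoc, ← e, mul_inv_cancel_right]
  have h1 := one_of k (mul_mem (inv_mem ha') ha) (e1 ▸ mul_mem hb' (inv_mem hb))
  exact ⟨(inv_mul_eq_one.1 h1).symm, (mul_inv_eq_one.1 (e1 ▸ h1)).symm⟩

omit c in
theorem sw1 {s a : G} (hs : s ∈ T) (hL : s ∉ N[L]) (ha : a ∈ U) : s * a * s⁻¹ ∈ cj t U :=
  (k.Tsw s hs hL).1 ▸ conj_mem_cj ha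

omit c in
theorem sw2 {s a : G} (hs : s ∈ T) (hL : s ∉ N[L]) (ha : a ∈ cj t U) : s * a * s⁻¹ ∈ U :=
  (k.Tsw s hs hL).2.1 ▸ conj_mem_cj ha

theorem cm_sw {s : G} (hs : s ∈ T) (hL : s ∉ N[L]) : w * s * w⁻¹ * s⁻¹ = w * (t * w * t⁻¹) := by
  rw [← (k.Tsw s hs hL).2.2.1, wi c]; group

omit k in
theorem cm_0 {s : G} (hs : s ∈ T) (hL : s ∈ N[L]) : Commute s w := mem_C1.1 (c.wc ⟨hs, hL⟩)

theorem mem_0 {s : G} (hs : s ∈ T) (h : Commute s w) : s ∈ N[L] := by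
  by_contra hL
  exact k.z1 (by rw [← cm_sw c k hs hL, h.symm.eq]; group)

theorem cj_0 {m x : G} (hm : m ∈ T) (hx : x ∈ T ⊓ N[L]) : m * x * m⁻¹ ∈ T ⊓ N[L] := by
  refine ⟨T.mul_mem (T.mul_mem hm hx.1) (T.inv_mem hm), ?_⟩
  by_cases h : m ∈ N[L]
  · exact N[L].mul_mem (N[L].mul_mem h hx.2) (N[L].inv_mem h)
  · rw [← (k.sw m (c.syl.le hm) h).2, ← cj_normalizer]
    exact conj_mem_cj (k.nn ⟨c.syl.le hx.1, hx.2⟩)

theorem U_0 : U ⊔ cj t U ≤ T ⊓ N[L] :=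
  have h : U ≤ T ⊓ N[L] := le_inf c.UT (c.wl.syl.le.trans le_normalizer)
  sup_le h (cj_le_iff.2 fun _ hx => cj_0 c k c.tT (h hx))

/-- **TRICK** -/
theorem trick (PT : P ≤ T) (hn : n ∈ N[P]) (wP : w ∈ P) (dP : d ∈ P) (dL : d ∉ N[L]) (ρP : ρ ∈ P)
    (ρU : ρ ∈ U ∨ ρ ∈ cj t U) (ρL : n⁻¹ * ρ * n ∉ N[L]) :
    n ∈ C1[w * (t * w * t⁻¹)] ∧ n * w * n⁻¹ ∉ N[L] ∧ (ρ ∈ U → ρ = w) ∧
      (ρ ∈ cj t U → ρ = t * w * t⁻¹) := by
  have m : ∀ x ∈ P, n⁻¹ * x * n ∈ T := fun x hx => PT (by simpa using conj_mem (inv_mem hn) hx)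
  have wT' := PT (conj_mem hn wP)
  have e1 : n * w * n⁻¹ * ρ * (n * w * n⁻¹)⁻¹ * ρ⁻¹ = n * (w * (t * w * t⁻¹)) * n⁻¹ := by
    rw [← cm_sw c k (m ρ ρP) ρL]; group
  have z1 : n * (w * (t * w * t⁻¹)) * n⁻¹ ≠ 1 := fun e => k.z1 (by simpa using e)
  have dz : d * (n * (w * (t * w * t⁻¹)) * n⁻¹) * d⁻¹ = n * (w * (t * w * t⁻¹)) * n⁻¹ := by
    have := (mem_C1.1 (k.zT (m d dP))).eq
    calc _ = n * (n⁻¹ * d * n * (w * (t * w * t⁻¹))) * n⁻¹ * d⁻¹ := by group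
      _ = _ := by rw [this]; group
  have hL : n * w * n⁻¹ ∉ N[L] := fun h => by
    obtain ⟨h1, h2⟩ := k.T0 ⟨wT', h⟩
    rcases ρU with f | f
    · have a := e1 ▸ mul_mem (conj_mem h1 f) (inv_mem f)
      exact z1 (one_of k a (dz ▸ sw1 k (PT dP) dL a))
    · have a := e1 ▸ mul_mem (conj_mem h2 f) (inv_mem f)
      exact z1 (one_of k (dz ▸ sw2 k (PT dP) dL a) a)
  have e2 := cm_sw c k wT' hL
  have e3 : n * (w * (t * w * t⁻¹)) * n⁻¹ = w * (t * w * t⁻¹) := by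
    by_cases h : n⁻¹ * w * n ∈ N[L]
    · have := (cm_0 c (m w wP) h).eq
      refine absurd ?_ k.z1
      calc _ = n * (n⁻¹ * w * n * w) * n⁻¹ * w⁻¹ * (n * w * n⁻¹)⁻¹ := by rw [← e2]; group
        _ = 1 := by rw [this]; group
    · have := cm_sw c k (m w wP) h
      have z2 : (w * (t * w * t⁻¹))⁻¹ = w * (t * w * t⁻¹) := by
        rw [mul_inv_rev, conj_inv, wi c, (comU k c.wZ.1 (conj_mem_cj c.wZ.1)).eq]
      calc _ = n * (w * (n⁻¹ * w * n) * w⁻¹ * (n⁻¹ * w * n)⁻¹) * n⁻¹ := by rw [this]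
        _ = (w * (n * w * n⁻¹) * w⁻¹ * (n * w * n⁻¹)⁻¹)⁻¹ := by group
        _ = _ := by rw [e2, z2]
  rw [e3] at e1
  refine ⟨mem_C1.2 (mul_inv_eq_iff_eq_mul.1 e3), hL, fun f => ?_, fun f => ?_⟩
  · rw [← (comU k (inv_mem f) (sw1 k wT' hL f)).eq] at e1
    rw [← inv_inj, wi c]
    exact (udec k (inv_mem f) c.wZ.1 (sw1 k wT' hL f) (conj_mem_cj c.wZ.1) e1).1
  · rw [← inv_inj, conj_inv, wi c]
    exact (udec k (sw2 k wT' hL f) c.wZ.1 (inv_mem f) (conj_mem_cj c.wZ.1) e1).2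

/-- the normal trick for a conjugate of `w` -/
theorem ntw (h1 : ∀ x ∈ U ⊔ cj t U, n * x * n⁻¹ ∈ T ⊓ N[L])
    (h2 : ∀ x ∈ U ⊔ cj t U, n⁻¹ * x * n ∈ T ⊓ N[L]) (dT : d ∈ T) (dL : d ∉ N[L])
    (h : Commute (n * w * n⁻¹) d) : False := by
  refine c.w1 (by
    simpa using k.ntl (cj n U) (cj n (cj t U)) (cj_le_iff.2 fun x hx => h1 x (mem_sup_left hx))
      (cj_le_iff.2 fun x hx => h1 x (mem_sup_right hx))
      (fun x hx => by rw [← cj_normalizer]; exact mem_cj.2 (k.T0 (h2 x hx)).1)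
      (fun x hx => by rw [← cj_normalizer]; exact mem_cj.2 (k.T0 (h2 x hx)).2)
      (by rw [← cj_centralizer]; exact cj_mono fun a ha => mem_C fun b hb => comU k ha hb)
      (by rw [← cj_inf, k.idp.2.2.2.1, cj_bot])
      (by
        rw [← cj_commutator, ← cj_commutator, Ne, cj_eq_bot_iff, cj_eq_bot_iff]
        exact fun e => c.w1 (mem_bot.1 (e ▸ c.wl.zc c.wZ)))
      _ (by rw [← cj_commutator]; exact conj_mem_cj (c.wl.zc c.wZ)) d dT dL h)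

theorem no_swap (UP : U ⊔ cj t U ≤ P) (PT : P ≤ T) (hn : n ∈ N[P]) (dP : d ∈ P) (dL : d ∉ N[L]) :
    ∀ x ∈ U ⊔ cj t U, n⁻¹ * x * n ∈ T ⊓ N[L] := by
  have key := fun ρ hρ => trick c k (ρ := ρ) PT hn (UP (mem_sup_left c.wZ.1)) dP dL hρ
  have ab : ¬ ∀ u ∈ U, u = 1 ∨ u = w := fun h => c.w1 (mem_bot.1 ((commutator_le.2 fun a ha b hb => by
    rcases h a ha with rfl | rfl <;> rcases h b hb with rfl | rfl <;> simp : ⁅U, U⁆ ≤ ⊥)
      (c.wl.zc c.wZ)))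
  have e : ∀ a b : G, n⁻¹ * (a * b) * n = n⁻¹ * a * n * (n⁻¹ * b * n) := fun a b => by group
  refine fun x hx => ⟨PT (by simpa using conj_mem (inv_mem hn) (UP hx)),
    mem_cj.1 ((sup_le (fun ρ hρ => mem_cj.2 ?_) fun ρ hρ => mem_cj.2 ?_ : _ ≤ cj n N[L]) hx)⟩ <;>
    by_contra f <;> refine ab fun u hu => ?_
  · have e1 := (key ρ (UP (mem_sup_left hρ)) (.inl hρ) f).2.2.1 hρ
    by_cases g : n⁻¹ * u * n ∈ N[L]
    · have := (key _ (UP (mem_sup_left (mul_mem hρ hu))) (.inl (mul_mem hρ hu)) fun h =>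
        f ((mul_mem_cancel_right g).1 (e ρ u ▸ h))).2.2.1 (mul_mem hρ hu)
      exact .inl (by simpa [e1] using this)
    · exact .inr ((key u (UP (mem_sup_left hu)) (.inl hu) g).2.2.1 hu)
  · have e1 := (key ρ (UP (mem_sup_right hρ)) (.inr hρ) f).2.2.2 hρ
    have hu' := conj_mem_cj (g := t) hu
    by_cases g : n⁻¹ * (t * u * t⁻¹) * n ∈ N[L]
    · have := (key _ (UP (mem_sup_right (mul_mem hρ hu'))) (.inr (mul_mem hρ hu')) fun h =>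
        f ((mul_mem_cancel_right g).1 (e ρ _ ▸ h))).2.2.2 (mul_mem hρ hu')
      exact .inl (by simpa [e1] using this)
    · exact .inr (by simpa using (key _ (UP (mem_sup_right hu')) (.inr hu') g).2.2.2 hu')

/-- **FULL** -/
theorem full (UP : U ⊔ cj t U ≤ P) (PT : P ≤ T) (hn : n ∈ N[P]) (dP : d ∈ P) (dL : d ∉ N[L])
    (dn : n⁻¹ * d * n ∈ N[L]) : False :=
  ntw c k (by simpa using no_swap c k UP PT (inv_mem hn) dP dL) (no_swap c k UP PT hn dP dL) (PT dP)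
    dL (by simpa [mul_assoc] using
      (cm_0 c (PT (by simpa using conj_mem (inv_mem hn) dP)) dn).symm.conj n)

end Cfsg.Agent.H33.Wr
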